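/-
Groups generated by transvections in dimension three: vocabulary.
-/
import Cfsg.Agent.Geo.Transvection
import Cfsg.Agent.Geo.SubfieldOvergroup
import Cfsg.Agent.Geo.UnitTv

set_option autoImplicit false

namespace CfsgLib.Geo.D3

open Matrix Cfsg Cfsg.Geo CfsgLib.Geo

variable {F : Type*} [Field F]

/-- A nontrivial transvection of `M`, given by centre and axis. -/
structure IsT (M : Subgroup (GL (Fin 3) F)) (v φ : Fin 3 → F) : Prop where
  v_ne : v ≠ 0
  φ_ne : φ ≠ 0
  mem : HasTv M v φ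

/-- The product `a` of the two incidence values of two transvections. -/
def aval (v φ w ψ : Fin 3 → F) : F := (φ ⬝ᵥ w) * (ψ ⬝ᵥ v)

/-- The root group through a transvection, as a set of scalars. -/
def root (M : Subgroup (GL (Fin 3) F)) (v φ : Fin 3 → F) : AddSubgroup F where
  carrier := {s | HasTv M (s • v) φ}
  add_mem' {s r} hs hr := by
    show HasTv M ((s + r) • v) φ
    rw [add_smul]
    exact HasTv.add_center hs hr
  zero_mem' := by
    show HasTv M ((0 : F) • v) φ
    rw [zero_smul]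
    exact hasTv_zero_left M φ
  neg_mem' {s} hs := by
    show HasTv M ((-s) • v) φ
    rw [neg_smul]
    exact hs.neg_center

lemma mem_root {M : Subgroup (GL (Fin 3) F)} {v φ : Fin 3 → F} {s : F} :
    s ∈ root M v φ ↔ HasTv M (s • v) φ := Iff.rfl

/-- The set of transvections of `M`. -/
def tvSet (M : Subgroup (GL (Fin 3) F)) : Set (GL (Fin 3) F) :=
  {g | ∃ (v φ : Fin 3 → F) (h : φ ⬝ᵥ v = 0), IsT M v φ ∧ g = tvec v φ h}

/-- `M` is generated by its transvections and leaves no point and no line invariant. -/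
structure Hyp (M : Subgroup (GL (Fin 3) F)) : Prop where
  gen : M ≤ Subgroup.closure (tvSet M)
  noPoint : ∀ v : Fin 3 → F, v ≠ 0 → ∃ g ∈ M, (g : Matrix (Fin 3) (Fin 3) F) *ᵥ v ∉ F ∙ v
  noLine : ∀ φ : Fin 3 → F, φ ≠ 0 → ∃ g ∈ M, φ ᵥ* ((g : GL (Fin 3) F) : Matrix (Fin 3) (Fin 3) F) ∉ F ∙ φ

/-- `SL₃(K)` inside `GL₃(F)`. -/
def slOver (K : Subfield F) : Subgroup (GL (Fin 3) F) :=
  (specialLinear (Fin 3) K).map (Matrix.GeneralLinearGroup.map (n := Fin 3) (K.subtype : K →+* F))

/-- `SU₃` over the subfield `K` with `q²` elements, inside `GL₃(F)`. -/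
def suOver (K : Subfield F) (q : ℕ) : Subgroup (GL (Fin 3) F) :=
  (UTv.suGL 3 K q).map (Matrix.GeneralLinearGroup.map (n := Fin 3) (K.subtype : K →+* F))

/-- `M` is conjugate to `SL₃` over a subfield. -/
def IsLinearType (M : Subgroup (GL (Fin 3) F)) : Prop :=
  ∃ (K : Subfield F) (g : GL (Fin 3) F), M.map (MulAut.conj g).toMonoidHom = slOver K

/-- `M` is conjugate to `SU₃(q)` over a subfield with `q²` elements, `q ≥ 3`. -/
def IsUnitaryType (M : Subgroup (GL (Fin 3) F)) : Prop :=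
  ∃ (K : Subfield F) (q : ℕ) (g : GL (Fin 3) F),
    Nat.card K = q ^ 2 ∧ 3 ≤ q ∧ M.map (MulAut.conj g).toMonoidHom = suOver K q

/-- `M` is `A₆` modulo scalars, realised over a subfield with four elements. -/
def IsSextupleType (M : Subgroup (GL (Fin 3) F)) : Prop :=
  ∃ (K : Subfield F) (g : GL (Fin 3) F), Nat.card K = 4 ∧
    M.map (MulAut.conj g).toMonoidHom ≤ slOver K ∧
    Nonempty ((M ⧸ (scalars (Fin 3) F).subgroupOf M) ≃* alternatingGroup (Fin 6))

end CfsgLib.Geo.D3
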