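/-
Almost simple irreducible subgroups in dimension three: the core, generation by transvections.
-/
import Cfsg.Agent.Geo.DimThree.Defs
import Cfsg.Agent.Geo.DimThree.NoTv.Basic

set_option autoImplicit false
set_option linter.style.haveILetI false

namespace CfsgLib.Geo.D3

open Matrix Cfsg Cfsg.Geo CfsgLib.Geo
open scoped commutatorElement

variable {F : Type*} [Field F]

local notation "Mat" => Matrix (Fin 3) (Fin 3) F

/-- An almost simple group modulo scalars with absolutely irreducible perfect socle preimage. -/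
structure Core (H P : Subgroup (GL (Fin 3) F)) : Prop where
  le : P ≤ H
  normal : ∀ h ∈ H, ∀ x ∈ P, h * x * h⁻¹ ∈ P
  perfect : ⁅P, P⁆ = P
  simple : IsSimpleGroup (Pro P)
  nonabelian : ¬ IsMulCommutative (Pro P)
  centralizer_scalar : ∀ h ∈ H, (∀ x ∈ P, h * x * h⁻¹ * x⁻¹ ∈ scalars (Fin 3) F) → h ∈ scalars (Fin 3) F
  absIrred : ActsAbsolutelyIrreducibly (matrixSet P)

lemma Core.of_residual {H P : Subgroup (GL (Fin 3) F)} (h : IsResidualCore H P) : Core H P :=
  ⟨h.le, h.normal, h.perfect, h.simple, h.nonabelian, h.centralizer_scalar, h.absIrred⟩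

variable {H P : Subgroup (GL (Fin 3) F)}

lemma Core.le_specialLinear (hC : Core H P) : P ≤ specialLinear (Fin 3) F := by
  conv_lhs => rw [← hC.perfect]
  refine Subgroup.commutator_le.2 fun a _ b _ => ?_
  rw [specialLinear, MonoidHom.mem_ker, map_commutatorElement, commutatorElement_eq_one_iff_mul_comm]
  exact mul_comm _ _

lemma Core.not_solvable (hC : Core H P) : ¬ Group.IsSolvable P := fun h => by
  haveI := h
  haveI := hC.simple
  exact hC.nonabelian ⟨⟨IsSimpleGroup.comm_iff_isSolvable.2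
    (Group.isSolvable_of_surjective (toPro_surjective (G := P)))⟩⟩

/-- An irreducible group fixes no point and no line. -/
lemma noPoint_noLine (hirr : ActsIrreducibly (matrixSet P)) :
    (∀ v : Fin 3 → F, v ≠ 0 → ∃ g ∈ P, (g : Mat) *ᵥ v ∉ F ∙ v) ∧
    (∀ φ : Fin 3 → F, φ ≠ 0 → ∃ g ∈ P, φ ᵥ* ((g : GL (Fin 3) F) : Mat) ∉ F ∙ φ) := by
  constructor
  · intro v hv
    by_contra hc
    push Not at hc
    rcases hirr (F ∙ v) (by
      rintro _ ⟨g, hg, rfl⟩
      rw [Submodule.map_le_iff_le_comap, Submodule.span_singleton_le_iff_mem, Submodule.mem_comap,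
        Matrix.toLin'_apply]
      exact hc g hg) with h | h
    · exact hv (Submodule.span_singleton_eq_bot.1 h)
    · have := congrArg (fun W : Submodule F (Fin 3 → F) => Module.finrank F W) h
      simp only [finrank_span_singleton hv, finrank_top, Module.finrank_fin_fun] at this
      omega
  · intro φ hφ
    by_contra hc
    push Not at hc
    let L : (Fin 3 → F) →ₗ[F] F :=
      { toFun := fun x => φ ⬝ᵥ x
        map_add' := dotProduct_add φ
        map_smul' := fun c x => dotProduct_smul c φ x }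
    rcases hirr (LinearMap.ker L) (by
      rintro _ ⟨g, hg, rfl⟩
      rw [Submodule.map_le_iff_le_comap]
      intro x hx
      obtain ⟨c, hcφ⟩ := Submodule.mem_span_singleton.1 (hc g hg)
      have hx' : φ ⬝ᵥ x = 0 := hx
      show φ ⬝ᵥ (Matrix.toLin' (g : Mat) x) = 0
      rw [Matrix.toLin'_apply, Matrix.dotProduct_mulVec, ← hcφ, smul_dotProduct, hx', smul_zero]) with h | h
    · have h1 := L.finrank_range_add_finrank_ker
      rw [h, finrank_bot, Module.finrank_fin_fun, add_zero] at h1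
      have := Submodule.finrank_le (LinearMap.range L)
      rw [Module.finrank_self] at this
      omega
    · refine hφ (funext fun i => ?_)
      have : φ ⬝ᵥ Pi.single i (1 : F) = 0 := LinearMap.mem_ker.1 (h ▸ Submodule.mem_top : Pi.single i (1 : F) ∈ LinearMap.ker L)
      simpa using this

/-- A transvection of the core generates it. -/
theorem Core.hyp_of_hasTv (hC : Core H P) {v φ : Fin 3 → F} (hv : v ≠ 0) (hφ : φ ≠ 0) (ht : HasTv P v φ) :
    Hyp P := by
  haveI := hC.simple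
  set M : Subgroup (GL (Fin 3) F) := Subgroup.closure (tvSet P) with hM
  have hMP : M ≤ P := (Subgroup.closure_le _).2 fun _ ⟨a, ψ, h, ha, e⟩ => e ▸ ha.mem.2
  have hconj : ∀ g ∈ P, ∀ x ∈ M, g * x * g⁻¹ ∈ M := by
    intro g hg x hx
    refine Subgroup.closure_induction (fun y hy => ?_) (by simp) (fun a b _ _ ha hb => ?_) (fun a _ ha => ?_) hx
    · obtain ⟨a, ψ, h, ha, rfl⟩ := hy
      refine Subgroup.subset_closure ⟨(g : Mat) *ᵥ a, ψ ᵥ* ((g⁻¹ : GL (Fin 3) F) : Mat),
        by rw [vecMul_dotProduct_mulVec, h], ⟨fun e => ha.v_ne ?_, fun e => ha.φ_ne ?_, ha.mem.conj hg⟩,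
        tvec_conj g a ψ h⟩
      · have := congrArg (fun w => ((g⁻¹ : GL (Fin 3) F) : Mat) *ᵥ w) e
        simpa [Matrix.mulVec_mulVec] using this
      · have := congrArg (fun w => w ᵥ* (g : Mat)) e
        simpa [Matrix.vecMul_vecMul] using this
    · rw [show g * (a * b) * g⁻¹ = (g * a * g⁻¹) * (g * b * g⁻¹) by group]
      exact mul_mem ha hb
    · rw [show g * a⁻¹ * g⁻¹ = (g * a * g⁻¹)⁻¹ by group]
      exact inv_mem ha
  have hN : (M.subgroupOf P).Normal := ⟨fun x hx g => Subgroup.mem_subgroupOf.2 (hconj g g.2 x hx)⟩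
  set N' : Subgroup (Pro P) := (M.subgroupOf P).map (toPro P) with hN'
  have hN'n : N'.Normal := hN.map _ (toPro_surjective (G := P))
  have htM : tvec v φ ht.1 ∈ M := Subgroup.subset_closure ⟨v, φ, ht.1, ⟨hv, hφ, ht⟩, rfl⟩
  have hne : tvec v φ ht.1 ∉ scalars (Fin 3) F := by
    intro hs
    obtain ⟨c, hc⟩ := (mem_scalars_iff _).1 hs
    have hfix : ∀ x : Fin 3 → F, (c : F) • x = x + (φ ⬝ᵥ x) • v := fun x => by
      rw [← tvec_mulVec v φ ht.1 x, hc, Matrix.smul_mulVec, Matrix.one_mulVec]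
    have h1 : (c : F) = 1 := by
      have h0 := hfix v
      rw [ht.1, zero_smul, add_zero] at h0
      exact smul_left_injective F hv (h0.trans (one_smul F v).symm)
    refine hφ (funext fun i => ?_)
    have h0 := hfix (Pi.single i 1)
    rw [h1, one_smul, dotProduct_single, mul_one, left_eq_add, smul_eq_zero] at h0
    simpa using h0.resolve_right hv
  refine ⟨?_, (noPoint_noLine hC.absIrred.1).1, (noPoint_noLine hC.absIrred.1).2⟩
  rcases hN'n.eq_bot_or_eq_top with hb | htop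
  · exfalso
    have hmem : toPro P ⟨_, ht.2⟩ ∈ N' := ⟨⟨_, ht.2⟩, Subgroup.mem_subgroupOf.2 htM, rfl⟩
    rw [hb, Subgroup.mem_bot, toPro_eq_one] at hmem
    exact hne hmem
  · have hsup : P ≤ M ⊔ scalars (Fin 3) F := by
      intro x hx
      obtain ⟨m, hm, he⟩ := (htop ▸ Subgroup.mem_top (toPro P ⟨x, hx⟩) : toPro P ⟨x, hx⟩ ∈ N')
      have hz : ((m⁻¹ * ⟨x, hx⟩ : P) : GL (Fin 3) F) ∈ scalars (Fin 3) F := by
        rw [← toPro_eq_one, map_mul, map_inv, he, inv_mul_cancel]
      have h2 : (m : GL (Fin 3) F) * ((m⁻¹ * ⟨x, hx⟩ : P) : GL (Fin 3) F) ∈ M ⊔ scalars (Fin 3) F :=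
        Subgroup.mul_mem_sup (Subgroup.mem_subgroupOf.1 hm) hz
      rwa [Subgroup.coe_mul, Subgroup.coe_inv, mul_inv_cancel_left] at h2
    rw [← hM]
    conv_lhs => rw [← hC.perfect]
    refine Subgroup.commutator_le.2 fun a ha b hb => ?_
    obtain ⟨a', ha', z, hz, rfl⟩ := Subgroup.mem_sup_of_normal_right.1 (hsup ha)
    obtain ⟨b', hb', w, hw, rfl⟩ := Subgroup.mem_sup_of_normal_right.1 (hsup hb)
    have hca : ∀ y, z * y = y * z := fun y => (scalar_comm hz y).eq
    have hcb : ∀ y, w * y = y * w := fun y => (scalar_comm hw y).eq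
    rw [show ⁅a' * z, b' * w⁆ = ⁅a', b'⁆ by
      rw [commutatorElement_def, commutatorElement_def, _root_.mul_inv_rev, _root_.mul_inv_rev]
      calc a' * z * (b' * w) * (z⁻¹ * a'⁻¹) * (w⁻¹ * b'⁻¹)
          = a' * (z * (b' * w)) * z⁻¹ * a'⁻¹ * (w⁻¹ * b'⁻¹) := by group
        _ = a' * b' * (w * a'⁻¹) * w⁻¹ * b'⁻¹ := by rw [hca]; group
        _ = a' * b' * a'⁻¹ * b'⁻¹ := by rw [hcb]; group]
    exact M.mul_mem (M.mul_mem (M.mul_mem ha' hb') (M.inv_mem ha')) (M.inv_mem hb')

/-- Either generated by transvections, or odd characteristic and none. -/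
theorem Core.dichotomy [Finite F] (hC : Core H P) :
    Hyp P ∨ ((2 : F) ≠ 0 ∧ ∀ v φ : Fin 3 → F, v ≠ 0 → φ ≠ 0 → ¬ HasTv P v φ) := by
  by_cases hex : ∃ v φ : Fin 3 → F, v ≠ 0 ∧ φ ≠ 0 ∧ HasTv P v φ
  · obtain ⟨v, φ, hv, hφ, ht⟩ := hex
    exact Or.inl (hC.hyp_of_hasTv hv hφ ht)
  push Not at hex
  refine Or.inr ⟨fun h2 => ?_, fun v φ hv hφ => hex v φ hv hφ⟩
  have hev : 2 ∣ Nat.card P := by
    by_contra hodd
    exact hC.not_solvable (CfsgLib.OddEnd.odd_solvable P (Nat.odd_iff.2 (Nat.two_dvd_ne_zero.1 hodd)))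
  haveI : Fact (Nat.Prime 2) := ⟨Nat.prime_two⟩
  obtain ⟨g, hg⟩ := exists_prime_orderOf_dvd_card' 2 hev
  rw [← Subgroup.orderOf_coe] at hg
  haveI : CharP F 2 := (CharP.charP_iff_prime_eq_zero Nat.prime_two).2 (by simpa using h2)
  set N : Mat := ((g : GL (Fin 3) F) : Mat) - 1 with hN
  have hgg : ((g : GL (Fin 3) F) : Mat) * ((g : GL (Fin 3) F) : Mat) = 1 := by
    have := pow_orderOf_eq_one (g : GL (Fin 3) F)
    rw [hg, pow_two] at this
    exact congrArg Units.val this
  have hN2 : N * N = 0 := by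
    rw [hN, sub_mul, mul_sub, hgg, one_mul, mul_one]
    ext i j
    simp only [Matrix.sub_apply, Matrix.zero_apply]
    linear_combination (((1 : Mat) i j) - ((g : GL (Fin 3) F) : Mat) i j) * h2
  have hN0 : N ≠ 0 := fun e => by
    have h1 : (g : GL (Fin 3) F) = 1 := Units.ext (sub_eq_zero.1 e)
    rw [h1, orderOf_one] at hg
    omega
  obtain ⟨v, φ, hv, hφ, hd, hNe⟩ := exists_vecMulVec_of_sq_zero hN0 hN2
  refine hex v φ hv hφ ⟨hd, ?_⟩
  have : (g : GL (Fin 3) F) = tvec v φ hd := Units.ext (by rw [tvec_val, ← hNe, hN]; abel)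
  exact this ▸ g.2

end CfsgLib.Geo.D3
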