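/-
Groups generated by transvections in dimension three: opposite transvections, splitting, change of basis.
-/
import Cfsg.Agent.Geo.DimThree.Defs
import Cfsg.Agent.Geo.SLThree.Plane

set_option autoImplicit false

namespace CfsgLib.Geo.D3

open Matrix Cfsg Cfsg.Geo CfsgLib.Geo CfsgLib.Geo.SL3

variable {F : Type*} [Field F] {M : Subgroup (GL (Fin 3) F)} {v φ w ψ : Fin 3 → F}

lemma IsT.dot (h : IsT M v φ) : φ ⬝ᵥ v = 0 := h.mem.dot

lemma IsT.smul (h : IsT M v φ) {c : F} (hc : c ≠ 0) : IsT M (c • v) (c⁻¹ • φ) := by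
  refine ⟨smul_ne_zero hc h.v_ne, smul_ne_zero (inv_ne_zero hc) h.φ_ne, ?_⟩
  rw [hasTv_smul_iff c hc, smul_smul, mul_inv_cancel₀ hc, one_smul]
  exact h.mem

lemma IsT.conj (h : IsT M v φ) {g : GL (Fin 3) F} (hg : g ∈ M) :
    IsT M ((g : Matrix (Fin 3) (Fin 3) F) *ᵥ v) (φ ᵥ* ((g⁻¹ : GL (Fin 3) F) : Matrix (Fin 3) (Fin 3) F)) := by
  refine ⟨Plane.mulVec_ne_zero' g h.v_ne, fun e => h.φ_ne ?_, h.mem.conj hg⟩
  have := congrArg (fun x => x ᵥ* (g : Matrix (Fin 3) (Fin 3) F)) e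
  rwa [Matrix.vecMul_vecMul, ← Units.val_mul, inv_mul_cancel, Units.val_one, Matrix.vecMul_one,
    Matrix.zero_vecMul] at this

lemma IsT.tvec_mem (h : IsT M v φ) : tvec v φ h.dot ∈ M := h.mem.2

/-- Conjugation of a transvection by a transvection. -/
lemma IsT.conj_tv (h : IsT M v φ) {u θ : Fin 3 → F} (hu : HasTv M u θ) :
    IsT M (v + (θ ⬝ᵥ v) • u) (φ - (φ ⬝ᵥ u) • θ) := by
  have hg := h.conj hu.2
  rw [tvec_mulVec] at hg
  convert hg using 1
  show φ - (φ ⬝ᵥ u) • θ = φ ᵥ* (1 - vecMulVec u θ)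
  rw [Matrix.vecMul_sub, Matrix.vecMul_one, Matrix.vecMul_vecMulVec]

lemma aval_comm (v φ w ψ : Fin 3 → F) : aval v φ w ψ = aval w ψ v φ := mul_comm _ _

lemma aval_smul_left {c : F} (hc : c ≠ 0) (v φ w ψ : Fin 3 → F) :
    aval (c • v) (c⁻¹ • φ) w ψ = aval v φ w ψ := by
  simp only [aval, smul_dotProduct, dotProduct_smul, smul_eq_mul]
  field_simp

/-- A group containing all transvections of `M` contains `M`. -/
lemma Hyp.le_of_tv (hM : Hyp M) {H : Subgroup (GL (Fin 3) F)}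
    (h : ∀ v φ : Fin 3 → F, ∀ ht : IsT M v φ, tvec v φ ht.dot ∈ H) : M ≤ H :=
  hM.gen.trans ((Subgroup.closure_le _).2 fun _ ⟨v, φ, _, ht, e⟩ => e ▸ h v φ ht)

/-- Every point is moved by some transvection. -/
lemma Hyp.exists_axis_ne (hM : Hyp M) {x : Fin 3 → F} (hx : x ≠ 0) :
    ∃ v φ : Fin 3 → F, IsT M v φ ∧ φ ⬝ᵥ x ≠ 0 := by
  by_contra hc
  push Not at hc
  obtain ⟨g, hg, hgx⟩ := hM.noPoint x hx
  refine hgx ?_
  have hle : M ≤ subspaceStabilizer (F ∙ x) := hM.le_of_tv fun v φ ht => mem_subspaceStabilizer.2 fun y hy => by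
    obtain ⟨c, rfl⟩ := Submodule.mem_span_singleton.1 hy
    rw [tvec_mulVec, dotProduct_smul, hc v φ ht, smul_zero, zero_smul, add_zero]
    exact hy
  exact mem_subspaceStabilizer.1 (hle hg) x (Submodule.mem_span_singleton_self x)

/-- No line contains all centres. -/
lemma Hyp.exists_centre_ne (hM : Hyp M) {θ : Fin 3 → F} (hθ : θ ≠ 0) :
    ∃ v φ : Fin 3 → F, IsT M v φ ∧ θ ⬝ᵥ v ≠ 0 := by
  by_contra hc
  push Not at hc
  obtain ⟨g, hg, hgθ⟩ := hM.noLine θ hθ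
  let H : Subgroup (GL (Fin 3) F) :=
    { carrier := {g | θ ᵥ* (g : Matrix (Fin 3) (Fin 3) F) = θ}
      one_mem' := by simp
      mul_mem' := fun {a b} ha hb => by
        simp only [Set.mem_ofPred_eq] at ha hb ⊢
        rw [Units.val_mul, ← Matrix.vecMul_vecMul, ha, hb]
      inv_mem' := fun {a} ha => by
        simp only [Set.mem_ofPred_eq] at ha ⊢
        conv_lhs => rw [← ha, Matrix.vecMul_vecMul, ← Units.val_mul, mul_inv_cancel, Units.val_one, Matrix.vecMul_one] }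
  have hle : M ≤ H := hM.le_of_tv fun v φ ht => by
    show θ ᵥ* (1 + vecMulVec v φ) = θ
    rw [Matrix.vecMul_add, Matrix.vecMul_one, Matrix.vecMul_vecMulVec, hc v φ ht, zero_smul, add_zero]
  exact hgθ (by rw [show θ ᵥ* (g : Matrix (Fin 3) (Fin 3) F) = θ from hle hg]; exact Submodule.mem_span_singleton_self θ)

/-- Covectors with the same pair of independent zeros are proportional. -/
lemma exists_smul_of_two_zero {x y : Fin 3 → F} (hx : x ≠ 0) (hy : y ∉ F ∙ x) {θ η : Fin 3 → F} (hθ : θ ≠ 0)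
    (hη : η ≠ 0) (h1 : θ ⬝ᵥ x = 0) (h2 : θ ⬝ᵥ y = 0) (h3 : η ⬝ᵥ x = 0) (h4 : η ⬝ᵥ y = 0) :
    ∃ c : F, c ≠ 0 ∧ η = c • θ := by
  have hy0 : y ≠ 0 := fun e => hy (e ▸ Submodule.zero_mem _)
  have hne : Projectivization.mk F x hx ≠ Projectivization.mk F y hy0 := fun e => by
    obtain ⟨c, hc⟩ := (Projectivization.mk_eq_mk_iff' F y x hy0 hx).1 e.symm
    exact hy (hc ▸ Submodule.smul_mem _ c (Submodule.mem_span_singleton_self x))
  have := Plane.eq_of_inc' hne ((Plane.inc_mk hx hη).2 h3) ((Plane.inc_mk hy0 hη).2 h4)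
    ((Plane.inc_mk hx hθ).2 h1) ((Plane.inc_mk hy0 hθ).2 h2)
  obtain ⟨c, hc⟩ := (Projectivization.mk_eq_mk_iff' F η θ hη hθ).1 this
  exact ⟨c, fun e => hη (by rw [← hc, e, zero_smul]), hc.symm⟩

/-- A centre at which another axis does not vanish is off the centre of that axis. -/
lemma notMem_span_of_dot (h : φ ⬝ᵥ v = 0) (h' : φ ⬝ᵥ w ≠ 0) : w ∉ F ∙ v := fun hmem => by
  obtain ⟨c, rfl⟩ := Submodule.mem_span_singleton.1 hmem
  exact h' (by rw [dotProduct_smul, h, smul_zero])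

/-- Every transvection has an opposite one. -/
theorem Hyp.exists_opp (hM : Hyp M) (ht : IsT M v φ) :
    ∃ w ψ : Fin 3 → F, IsT M w ψ ∧ aval v φ w ψ ≠ 0 := by
  by_contra hc
  push Not at hc
  have hc' : ∀ w ψ : Fin 3 → F, IsT M w ψ → φ ⬝ᵥ w = 0 ∨ ψ ⬝ᵥ v = 0 := fun w ψ h => mul_eq_zero.1 (hc w ψ h)
  obtain ⟨x, θ, hx, hθv⟩ := hM.exists_axis_ne ht.v_ne
  obtain ⟨y, η, hy, hφy⟩ := hM.exists_centre_ne ht.φ_ne
  have hφx := (hc' x θ hx).resolve_right hθv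
  have hηv := (hc' y η hy).resolve_left hφy
  have h1 := hy.conj_tv hx.mem
  have h2 := (hc' _ _ h1).resolve_left (by
    rw [dotProduct_add, dotProduct_smul, hφx, smul_zero, add_zero]; exact hφy)
  rw [sub_dotProduct, smul_dotProduct, hηv, zero_sub, neg_eq_zero, smul_eq_mul] at h2
  have hηx := (mul_eq_zero.1 h2).resolve_right hθv
  obtain ⟨c, hc0, e⟩ := exists_smul_of_two_zero hx.v_ne (notMem_span_of_dot hx.dot hθv) ht.φ_ne hy.φ_ne hφx ht.dot
    hηx hηv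
  have := hy.dot
  rw [e, smul_dotProduct, smul_eq_mul] at this
  exact hφy ((mul_eq_zero.1 this).resolve_left hc0)

/-- The transvections do not fall into two mutually commuting classes, one containing an opposite pair. -/
theorem Hyp.forall_of_split (hM : Hyp M) (Q : (Fin 3 → F) → (Fin 3 → F) → Prop) {x θ y η : Fin 3 → F}
    (hx : IsT M x θ) (hy : IsT M y η) (hxy : aval x θ y η ≠ 0) (hQx : Q x θ) (hQy : Q y η)
    (hcomm : ∀ v φ w ψ : Fin 3 → F, IsT M v φ → IsT M w ψ → Q v φ → ¬ Q w ψ → φ ⬝ᵥ w = 0 ∧ ψ ⬝ᵥ v = 0)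
    (ht : IsT M v φ) : Q v φ := by
  by_contra hQ
  have hθy : θ ⬝ᵥ y ≠ 0 := left_ne_zero_of_mul hxy
  have hy' := notMem_span_of_dot hx.dot hθy
  have a1 := (hcomm x θ v φ hx ht hQx hQ).2
  have a2 := (hcomm y η v φ hy ht hQy hQ).2
  obtain ⟨z, ζ, hz, hzne⟩ := hM.exists_centre_ne ht.φ_ne
  by_cases hQz : Q z ζ
  · exact hzne (hcomm z ζ v φ hz ht hQz hQ).2
  · have b1 := (hcomm x θ z ζ hx hz hQx hQz).2
    have b2 := (hcomm y η z ζ hy hz hQy hQz).2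
    obtain ⟨c, -, e⟩ := exists_smul_of_two_zero hx.v_ne hy' hz.φ_ne ht.φ_ne b1 b2 a1 a2
    exact hzne (by rw [e, smul_dotProduct, hz.dot, smul_zero])

lemma mem_root_one (h : IsT M v φ) : (1 : F) ∈ root M v φ := by rw [mem_root, one_smul]; exact h.mem

lemma isT_of_root (h : IsT M v φ) {s : F} (hs : s ∈ root M v φ) (hs0 : s ≠ 0) : IsT M (s • v) φ :=
  ⟨smul_ne_zero hs0 h.v_ne, h.φ_ne, hs⟩

/-! ### Change of basis -/

/-- The conjugate of `M` expressed in the basis given by the columns of `g`. -/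
abbrev inBasis (M : Subgroup (GL (Fin 3) F)) (g : GL (Fin 3) F) : Subgroup (GL (Fin 3) F) :=
  M.map (MulAut.conj g⁻¹).toMonoidHom

lemma mem_inBasis {g x : GL (Fin 3) F} : x ∈ inBasis M g ↔ g * x * g⁻¹ ∈ M := by
  constructor
  · rintro ⟨y, hy, rfl⟩
    simpa [mul_assoc] using hy
  · exact fun h => ⟨_, h, by simp [mul_assoc]⟩

lemma hasTv_inBasis {g : GL (Fin 3) F} :
    HasTv (inBasis M g) v φ ↔
      HasTv M ((g : Matrix (Fin 3) (Fin 3) F) *ᵥ v) (φ ᵥ* ((g⁻¹ : GL (Fin 3) F) : Matrix (Fin 3) (Fin 3) F)) := by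
  constructor
  · rintro ⟨h, hm⟩
    exact ⟨_, tvec_conj g v φ h ▸ mem_inBasis.1 hm⟩
  · rintro ⟨h, hm⟩
    have h' : φ ⬝ᵥ v = 0 := by rwa [vecMul_dotProduct_mulVec] at h
    exact ⟨h', mem_inBasis.2 (by rw [tvec_conj g v φ h']; exact hm)⟩

lemma inBasis_map_dot (g : GL (Fin 3) F) (θ z : Fin 3 → F) :
    (θ ᵥ* (g : Matrix (Fin 3) (Fin 3) F)) ⬝ᵥ (((g⁻¹ : GL (Fin 3) F) : Matrix (Fin 3) (Fin 3) F) *ᵥ z) = θ ⬝ᵥ z := by
  have := vecMul_dotProduct_mulVec θ g⁻¹ z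
  rwa [inv_inv] at this

lemma IsT.inBasis (h : IsT M v φ) (g : GL (Fin 3) F) :
    IsT (D3.inBasis M g) (((g⁻¹ : GL (Fin 3) F) : Matrix (Fin 3) (Fin 3) F) *ᵥ v)
      (φ ᵥ* (g : Matrix (Fin 3) (Fin 3) F)) := by
  refine ⟨Plane.mulVec_ne_zero' g⁻¹ h.v_ne, fun e => h.φ_ne ?_, hasTv_inBasis.2 ?_⟩
  · have := congrArg (fun x => x ᵥ* ((g⁻¹ : GL (Fin 3) F) : Matrix (Fin 3) (Fin 3) F)) e
    rwa [Matrix.vecMul_vecMul, ← Units.val_mul, mul_inv_cancel, Units.val_one, Matrix.vecMul_one,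
      Matrix.zero_vecMul] at this
  · rw [mulVec_inv_mulVec, Matrix.vecMul_vecMul, ← Units.val_mul, mul_inv_cancel, Units.val_one, Matrix.vecMul_one]
    exact h.mem

lemma inBasis_inBasis (g g' : GL (Fin 3) F) : inBasis (inBasis M g) g' = inBasis M (g * g') := by
  ext x
  simp only [mem_inBasis, _root_.mul_inv_rev, mul_assoc]

lemma inBasis_inv_self (g : GL (Fin 3) F) : inBasis (inBasis M g) g⁻¹ = M := by
  ext x
  simp [mul_assoc]

lemma Hyp.inBasis (hM : Hyp M) (g : GL (Fin 3) F) : Hyp (D3.inBasis M g) := by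
  refine ⟨?_, fun v hv => ?_, fun φ hφ => ?_⟩
  · refine Subgroup.map_le_iff_le_comap.2 (hM.le_of_tv fun v φ ht => ?_)
    refine Subgroup.subset_closure ⟨_, _, (ht.inBasis g).dot, ht.inBasis g, ?_⟩
    show (g⁻¹ : GL (Fin 3) F) * tvec v φ ht.dot * g⁻¹⁻¹ = _
    rw [tvec_conj]
    congr 1
  · obtain ⟨x, hx, hxv⟩ := hM.noPoint _ (Plane.mulVec_ne_zero' g hv)
    refine ⟨g⁻¹ * x * g, mem_inBasis.2 (by simpa [mul_assoc] using hx), fun hmem => hxv ?_⟩
    obtain ⟨c, hc⟩ := Submodule.mem_span_singleton.1 hmem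
    refine Submodule.mem_span_singleton.2 ⟨c, ?_⟩
    rw [mul_mulVec, mul_mulVec] at hc
    rw [← Matrix.mulVec_smul, hc, mulVec_inv_mulVec]
  · obtain ⟨x, hx, hxv⟩ := hM.noLine (φ ᵥ* ((g⁻¹ : GL (Fin 3) F) : Matrix (Fin 3) (Fin 3) F)) (fun e => hφ (by
      have := congrArg (fun x => x ᵥ* (g : Matrix (Fin 3) (Fin 3) F)) e
      rwa [Matrix.vecMul_vecMul, ← Units.val_mul, inv_mul_cancel, Units.val_one, Matrix.vecMul_one,
        Matrix.zero_vecMul] at this))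
    refine ⟨g⁻¹ * x * g, mem_inBasis.2 (by simpa [mul_assoc] using hx), fun hmem => hxv ?_⟩
    obtain ⟨c, hc⟩ := Submodule.mem_span_singleton.1 hmem
    refine Submodule.mem_span_singleton.2 ⟨c, ?_⟩
    rw [← Matrix.smul_vecMul, hc, Matrix.vecMul_vecMul, Matrix.vecMul_vecMul, ← Units.val_mul, ← Units.val_mul,
      mul_assoc _ g, mul_inv_cancel, mul_one]

lemma isSolvable_of_inBasis (g : GL (Fin 3) F) (h : Group.IsSolvable (inBasis M g)) : Group.IsSolvable M :=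
  haveI : Group.IsSolvable ↥(M.map (MulAut.conj g⁻¹).toMonoidHom) := h
  Group.isSolvable_of_isSolvable_injective (f := (Subgroup.equivMapOfInjective M
    (MulAut.conj g⁻¹).toMonoidHom (MulAut.conj g⁻¹).injective).toMonoidHom) (MulEquiv.injective _)

lemma IsLinearType.of_inBasis {g : GL (Fin 3) F} (h : IsLinearType (inBasis M g)) : IsLinearType M := by
  obtain ⟨K, g', hg⟩ := h
  refine ⟨K, g' * g⁻¹, ?_⟩
  rw [← hg, inBasis, Subgroup.map_map]
  congr 1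
  ext x
  simp [mul_assoc]

lemma IsUnitaryType.of_inBasis {g : GL (Fin 3) F} (h : IsUnitaryType (inBasis M g)) : IsUnitaryType M := by
  obtain ⟨K, q, g', hc, hq, hg⟩ := h
  refine ⟨K, q, g' * g⁻¹, hc, hq, ?_⟩
  rw [← hg, inBasis, Subgroup.map_map]
  congr 1
  ext x
  simp [mul_assoc]

/-- An invertible matrix with three given independent columns. -/
lemma exists_gl_cols {b : Fin 3 → Fin 3 → F} (hb : LinearIndependent F b) :
    ∃ g : GL (Fin 3) F, ∀ i, (g : Matrix (Fin 3) (Fin 3) F) *ᵥ Pi.single i 1 = b i := by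
  refine ⟨GeneralLinearGroup.mkOfDetNeZero (Matrix.of b)ᵀ ?_, fun i => ?_⟩
  · rw [Matrix.det_transpose]
    exact ((Matrix.isUnit_iff_isUnit_det _).1 (Matrix.linearIndependent_rows_iff_isUnit.1 hb)).ne_zero
  · rw [Matrix.mulVec_single_one]
    rfl

end CfsgLib.Geo.D3
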