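/-
The shapes of the almost simple groups in dimension three.
-/
import Cfsg.Prelude.Def_GeometricClasses
import Cfsg.Agent.Geo.DimThree.Core

set_option autoImplicit false

namespace CfsgLib.Geo.D3

universe u

variable (p α : ℕ) (X : Type u) [Group X]

/-- The linear shape. -/
def ShapeL : Prop :=
  ∃ (K : Type) (_ : Field K) (_ : Fintype K) (β : ℕ), Fintype.card K = p ^ β ∧ β ∣ α ∧
    Nonempty (X ≃* Matrix.ProjectiveSpecialLinearGroup (Fin 3) K)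

/-- The unitary shape. -/
def ShapeU : Prop :=
  ∃ (K : Type) (_ : Field K) (_ : Fintype K) (β : ℕ), Fintype.card K = p ^ (2 * β) ∧ 2 * β ∣ α ∧
    Nonempty (X ≃* Cfsg.PSU 3 K (p ^ β))

/-- The linear shape extended by three. -/
def ShapeLThree : Prop :=
  ∃ (K : Type) (_ : Field K) (_ : Fintype K) (β : ℕ), Fintype.card K = p ^ β ∧ 3 ∣ p ^ β - 1 ∧ 3 * β ∣ α ∧
    ∃ L : Subgroup X, L.index = 3 ∧ Nonempty (↥L ≃* Matrix.ProjectiveSpecialLinearGroup (Fin 3) K)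

/-- The unitary shape extended by three. -/
def ShapeUThree : Prop :=
  ∃ (K : Type) (_ : Field K) (_ : Fintype K) (β : ℕ), Fintype.card K = p ^ (2 * β) ∧ 3 ∣ p ^ β + 1 ∧ 6 * β ∣ α ∧
    ∃ L : Subgroup X, L.index = 3 ∧ Nonempty (↥L ≃* Cfsg.PSU 3 K (p ^ β))

/-- The shapes on a conic. -/
def ShapeConic : Prop :=
  ∃ (K : Type) (_ : Field K) (_ : Fintype K) (β : ℕ), Fintype.card K = p ^ β ∧ β ∣ α ∧ p ^ β ≠ 3 ∧
    (Nonempty (X ≃* Matrix.ProjectiveSpecialLinearGroup (Fin 2) K) ∨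
      Nonempty (X ≃* (GL (Fin 2) K ⧸ Subgroup.center (GL (Fin 2) K))))

/-- Order sixty. -/
def ShapeFive : Prop :=
  (p ^ α % 10 = 1 ∨ p ^ α % 10 = 9) ∧ ∃ (K : Type) (_ : Field K) (_ : Fintype K), Fintype.card K = 5 ∧
    Nonempty (X ≃* Matrix.ProjectiveSpecialLinearGroup (Fin 2) K)

/-- Order 168. -/
def ShapeSeven : Prop :=
  (p ^ α) ^ 3 % 7 = 1 ∧ ∃ (K : Type) (_ : Field K) (_ : Fintype K), Fintype.card K = 7 ∧
    Nonempty (X ≃* Matrix.ProjectiveSpecialLinearGroup (Fin 2) K)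

/-- The exceptional shapes of characteristic five. -/
def ShapeCharFive : Prop :=
  p = 5 ∧ Even α ∧ (Nonempty (X ≃* ↥(alternatingGroup (Fin 6))) ∨ Nonempty (X ≃* ↥(alternatingGroup (Fin 7))) ∨
    ∃ L : Subgroup X, L.index = 2 ∧ Nonempty (↥L ≃* ↥(alternatingGroup (Fin 6))))

/-- Order 360. -/
def ShapeSix : Prop :=
  (p ^ α % 30 = 1 ∨ p ^ α % 30 = 19) ∧ Nonempty (X ≃* ↥(alternatingGroup (Fin 6)))

/-- All shapes. -/
def Shapes : Prop :=
  ShapeL p α X ∨ ShapeU p α X ∨ ShapeLThree p α X ∨ ShapeUThree p α X ∨ ShapeConic p α X ∨ ShapeFive p α X ∨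
    ShapeSeven p α X ∨ ShapeCharFive p α X ∨ ShapeSix p α X

end CfsgLib.Geo.D3
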