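/-
The exceptional transvection group over four elements: the triple cover of the alternating group of degree six.
-/
import Cfsg.Agent.Geo.DimThree.Basic
import Cfsg.Agent.Geo.DimThree.Four.Checks
import Mathlib.GroupTheory.SpecificGroups.Alternating

set_option autoImplicit false
set_option linter.style.haveILetI false

namespace CfsgLib.Geo.D3

open Matrix Cfsg Cfsg.Geo CfsgLib.Geo

namespace Four

lemma mul_inv_model : ∀ a : Fin 4, a ≠ 0 → mul a (inv a) = 1 ∧ mul (inv a) a = 1 := by decide +kernel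

lemma add_zero_model : ∀ a b : Fin 4, add a b = 0 → a = b := by decide +kernel

lemma dot_zero_model : ∀ v₀ v₁ f₀ f₁ f₂ : Fin 4,
    dot (f₀, f₁, f₂) (v₀, v₁, 1) = 0 → f₂ = add (mul f₀ v₀) (mul f₁ v₁) := by decide +kernel

lemma lead_normV : ∀ w : V, w ≠ (0, 0, 0) → lead (vsmul (inv (lead w)) w) = 1 := by decide +kernel

lemma vsmul_normV : ∀ w : V, w = vsmul (lead w) (vsmul (inv (lead w)) w) := by decide +kernel

lemma oval_indep : ∀ k : Fin 2, ∀ c : Fin 4, ∀ a b : Fin 6, oval k a = vsmul c (oval k b) → a = b := by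
  decide +kernel

variable {F : Type*} [Field F] (ω : F)

/-- The model field inside `F`. -/
def em : Fin 4 → F := ![0, 1, ω, ω + 1]

/-- The model vectors inside `F³`. -/
def emV (v : V) : Fin 3 → F := ![em ω v.1, em ω v.2.1, em ω v.2.2]

variable {ω}

/-- What is used about the cube root of unity. -/
structure Root (ω : F) : Prop where
  two : (2 : F) = 0
  sq : ω * ω = ω + 1

set_option linter.unusedSectionVars false

variable (hω : Root ω)
include hω

lemma em_add : ∀ a b : Fin 4, em ω (add a b) = em ω a + em ω b := by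
  have h := hω.two
  intro a b
  fin_cases a <;> fin_cases b <;> simp [em, add] <;> grobner

lemma em_mul : ∀ a b : Fin 4, em ω (mul a b) = em ω a * em ω b := by
  have h := hω.two
  have h' := hω.sq
  intro a b
  fin_cases a <;> fin_cases b <;> simp [em, mul] <;> grobner

lemma em_eq_zero {a : Fin 4} : em ω a = 0 ↔ a = 0 := by
  refine ⟨fun h => ?_, fun h => by subst h; rfl⟩
  by_contra ha
  obtain ⟨b, hb⟩ : ∃ b, mul a b = 1 := ⟨inv a, (mul_inv_model a ha).1⟩
  have := em_mul hω a b
  rw [hb, h, zero_mul] at this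
  exact one_ne_zero (show (1 : F) = 0 from this)

lemma em_inj {a b : Fin 4} (h : em ω a = em ω b) : a = b := by
  have h2 : em ω (add a b) = 0 := by
    rw [em_add hω, h]; linear_combination (em ω b) * hω.two
  rw [em_eq_zero hω] at h2
  exact add_zero_model a b h2

lemma em_inv {a : Fin 4} (ha : a ≠ 0) : em ω (inv a) = (em ω a)⁻¹ := by
  refine eq_inv_of_mul_eq_one_left ?_
  rw [← em_mul hω]
  rw [(mul_inv_model a ha).2]; rfl

lemma vec_add (u v : V) : emV ω (vadd u v) = emV ω u + emV ω v := by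
  ext i; fin_cases i <;> simp [emV, vadd, em_add hω]

lemma vec_smul (c : Fin 4) (v : V) : emV ω (vsmul c v) = em ω c • emV ω v := by
  ext i; fin_cases i <;> simp [emV, vsmul, em_mul hω]

lemma em_dot (f v : V) : em ω (dot f v) = emV ω f ⬝ᵥ emV ω v := by
  simp [emV, dot, em_add hω, em_mul hω, dotProduct, Fin.sum_univ_three]

lemma vec_eq_zero {v : V} : emV ω v = 0 ↔ v = (0, 0, 0) := by
  refine ⟨fun h => ?_, fun h => by subst h; ext i; fin_cases i <;> rfl⟩
  have h0 : em ω v.1 = 0 := congrFun h 0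
  have h1 : em ω v.2.1 = 0 := congrFun h 1
  have h2 : em ω v.2.2 = 0 := congrFun h 2
  rw [em_eq_zero hω] at h0 h1 h2
  exact Prod.ext h0 (Prod.ext h1 h2)

lemma lead_ne {v : V} (hv : v ≠ (0, 0, 0)) : lead v ≠ 0 := by
  obtain ⟨a, b, c⟩ := v
  simp only [lead, ne_eq]
  split_ifs with h1 h2
  · intro h3; exact hv (Prod.ext h1 (Prod.ext h2 h3))
  · exact h2
  · exact h1

variable {M : Subgroup (GL (Fin 3) F)}

omit hω in
/-- The model transvection lies in `M`. -/
def Mem (ω : F) (M : Subgroup (GL (Fin 3) F)) (t : T) : Prop := IsT M (emV ω t.1) (emV ω t.2)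

lemma mem_normT {t : T} (h : Mem ω M t) : Mem ω M (normT t) := by
  have hv : t.1 ≠ (0, 0, 0) := fun e => h.v_ne ((vec_eq_zero hω).2 e)
  have hl : em ω (lead t.1) ≠ 0 := fun e => lead_ne hω hv ((em_eq_zero hω).1 e)
  have := h.smul (inv_ne_zero hl)
  rw [inv_inv] at this
  unfold Mem normT
  rwa [vec_smul hω, vec_smul hω, em_inv hω (lead_ne hω hv)]

lemma mem_conjT {t s : T} (ht : Mem ω M t) (hs : Mem ω M s) : Mem ω M (conjT t s) := by
  refine mem_normT hω ?_
  have h : IsT M (emV ω t.1 + (emV ω s.2 ⬝ᵥ emV ω t.1) • emV ω s.1)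
      (emV ω t.2 - (emV ω t.2 ⬝ᵥ emV ω s.1) • emV ω s.2) := IsT.conj_tv ht hs.mem
  unfold Mem
  rw [vec_add hω, vec_add hω, vec_smul hω, vec_smul hω, em_dot hω, em_dot hω]
  convert h using 1
  ext i
  simp only [Pi.add_apply, Pi.sub_apply, Pi.smul_apply, smul_eq_mul]
  linear_combination (emV ω t.2 ⬝ᵥ emV ω s.1 * emV ω s.2 i) * hω.two

lemma mem_derive {x : T} (hx : Mem ω M x) : ∀ (st : List (Nat × Nat)) (L : List T),
    (∀ t ∈ L, Mem ω M t) → ∀ t ∈ derive x st L, Mem ω M t
  | [], _, h => h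
  | (i, j) :: r, L, h => by
    refine mem_derive hx r _ fun t ht => ?_
    rcases List.mem_append.1 ht with ht | ht
    · exact h t ht
    · rw [List.mem_singleton] at ht
      subst ht
      refine mem_conjT hω ?_ ?_
      · rcases lt_or_ge i L.length with hi | hi
        · rw [List.getD_eq_getElem _ _ hi]; exact h _ (List.getElem_mem hi)
        · rw [List.getD_eq_default _ _ hi]; exact hx
      · rcases lt_or_ge j L.length with hi | hi
        · rw [List.getD_eq_getElem _ _ hi]; exact h _ (List.getElem_mem hi)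
        · rw [List.getD_eq_default _ _ hi]; exact hx

omit hω in
lemma mem_getD {L : List T} {d : T} (h : ∀ t ∈ L, Mem ω M t) (hd : Mem ω M d) (i : Nat) :
    Mem ω M (L.getD i d) := by
  rcases lt_or_ge i L.length with hi | hi
  · rw [List.getD_eq_getElem _ _ hi]; exact h _ (List.getElem_mem hi)
  · rw [List.getD_eq_default _ _ hi]; exact hd

variable (hroot : ∀ v φ : Fin 3 → F, IsT M v φ → ∀ s ∈ root M v φ, s = 0 ∨ s = 1)
include hroot

lemma no_clash {c : Fin 4} {s t : T} (hs : Mem ω M s) (ht : Mem ω M t) : clash c s t ≠ true := by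
  intro h
  rw [clash, decide_eq_true_eq] at h
  obtain ⟨hc0, hc1, h1, h2⟩ := h
  have h0 : em ω c ≠ 0 := fun e => hc0 ((em_eq_zero hω).1 e)
  have hm := ht.mem
  rw [h1, h2, vec_smul hω, ← hasTv_smul_iff _ h0] at hm
  rcases hroot _ _ hs _ hm with e | e
  · exact h0 e
  · exact hc1 (em_inj hω (e.trans (show (1 : F) = em ω 1 from rfl)))

lemma no_flagClash {s t : T} (hs : Mem ω M s) (ht : Mem ω M t) : flagClash s t ≠ true := by
  rw [flagClash]
  intro h
  rcases Bool.or_eq_true _ _ ▸ h with h | h <;> exact no_clash hω hroot hs ht h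

/-- With the frame and the extra transvection, `M` contains the forty-five transvections of an oval. -/
lemma exists_oval {x : T} (hg : ∀ t ∈ gens x, Mem ω M t)
    (hc : certs.any (fun c => c.x == x) = true) : ∃ k, ∀ s ∈ tvs k, Mem ω M s := by
  obtain ⟨c, hcm, hcx⟩ := List.any_eq_true.1 hc
  have hcx' : c.x = x := eq_of_beq hcx
  have hok := List.all_eq_true.1 certs_ok c hcm
  have hx : Mem ω M x := hg x (by simp [gens])
  have hD : ∀ t ∈ derive c.x c.steps (gens c.x), Mem ω M t :=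
    mem_derive hω (hcx'.symm ▸ hx) _ _ (hcx'.symm ▸ hg)
  rw [Cert.ok] at hok
  rcases hk : c.oval with - | k <;> rw [hk] at hok <;> simp only at hok
  · exact absurd hok (no_clash hω hroot (mem_getD hD (hcx'.symm ▸ hx) _) (mem_getD hD (hcx'.symm ▸ hx) _))
  · refine ⟨k, fun s hs => hD s ?_⟩
    simpa using List.all_eq_true.1 hok s hs

/-- Every model transvection of `M` belongs to the oval. -/
lemma mem_tvs {k : Fin 2} (hS : ∀ s ∈ tvs k, Mem ω M s) {y : T} (hy : Mem ω M y) (hl : lead y.1 = 1) :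
    y ∈ tvs k := by
  obtain ⟨⟨a, b, c⟩, ⟨d, e, f⟩⟩ := y
  have hd : dot (d, e, f) (a, b, c) = 0 := (em_eq_zero hω).1 (by rw [em_dot hω]; exact hy.dot)
  have h := all_out k a b c d e f (fun h => hy.v_ne ((vec_eq_zero hω).2 h))
    (fun h => hy.φ_ne ((vec_eq_zero hω).2 h)) hd hl
  rw [wit] at h
  split at h
  · cases h
  split at h
  · cases h
  split at h
  rotate_left
  · cases h
  rename_i hij
  obtain ⟨hi, hj⟩ := hij
  have hlen := tvs_length k
  have hmem : ∀ {i : Nat}, i < 45 → ∀ d : T, (tvs k).getD i d ∈ tvs k := fun {i} hi d => by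
    rw [List.getD_eq_getElem _ _ (hlen.symm ▸ hi)]; exact List.getElem_mem _
  split at h
  · exact eq_of_beq h ▸ hmem hi _
  · exact absurd h (no_flagClash hω hroot hy (hS _ (hmem hi _)))
  · exact absurd h (no_flagClash hω hroot (mem_conjT hω (hS _ (hmem hi _)) hy) (hS _ (hmem hj _)))

end Four

open Four in
/-- A transvection group over four elements with the given frame, one further transvection and all root groups
of order two is the triple cover of the alternating group of degree six. -/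
theorem sextuple_of_frame {F : Type*} [Field F] {M : Subgroup (GL (Fin 3) F)} {K : Subfield F}
    (hK : Nat.card K = 4) (hM : Hyp M) (hle : M ≤ slOver K)
    (h12 : IsT M (Pi.single 0 1) (Pi.single 1 1)) (h23 : IsT M (Pi.single 1 1) (Pi.single 2 1))
    (h13 : IsT M (Pi.single 0 1) (Pi.single 2 1))
    (hroot : ∀ v φ : Fin 3 → F, IsT M v φ → ∀ s ∈ root M v φ, s = 0 ∨ s = 1)
    {v φ : Fin 3 → F} (hx : IsT M v φ) (hvK : ∀ i, v i ∈ K) (hφK : ∀ i, φ i ∈ K) (hv2 : v 2 = 1)
    (hv1 : v 1 ≠ 0 ∧ v 1 ≠ 1) (hp : φ 0 ≠ 0 ∧ φ 1 ≠ 0 ∧ φ 1 ≠ φ 0) : IsSextupleType M := by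
  classical
  -- the field with four elements
  haveI : Finite K := Nat.finite_of_card_ne_zero (by rw [hK]; decide)
  haveI := Fintype.ofFinite K
  have hK' : Fintype.card K = 4 := by rw [← Nat.card_eq_fintype_card, hK]
  have h2 : (2 : F) = 0 := by
    have h4 : ((Fintype.card K : ℕ) : K) = 0 := Nat.cast_card_eq_zero K
    rw [hK'] at h4
    have h22 : ((2 : K) * 2) = 0 := by norm_num at h4 ⊢; exact h4
    have h20 : (2 : K) = 0 := (mul_eq_zero.1 h22).elim id id
    have h' := congrArg K.subtype h20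
    rwa [map_ofNat, map_zero] at h'
  have hpow : ∀ a ∈ K, a * a * a * a = a := by
    intro a ha
    have h := FiniteField.pow_card (⟨a, ha⟩ : K)
    rw [hK'] at h
    have h' := congrArg Subtype.val h
    simp only [SubmonoidClass.coe_pow] at h'
    linear_combination h'
  obtain ⟨ω, hωK, hω0, hω1⟩ : ∃ ω ∈ K, ω ≠ 0 ∧ ω ≠ 1 := ⟨v 1, hvK 1, hv1⟩
  have hsq : ω * ω = ω + 1 := by
    have h : ω * (ω - 1) * (ω * ω + ω + 1) = 0 := by linear_combination hpow ω hωK
    have := (mul_eq_zero.1 h).resolve_left (mul_ne_zero hω0 (sub_ne_zero.2 hω1))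
    linear_combination this - (ω + 1) * h2
  have hω : Root ω := ⟨h2, hsq⟩
  have hlift : ∀ a ∈ K, ∃ i : Fin 4, em ω i = a := by
    intro a ha
    have h : a * (a - 1) * ((a - ω) * (a - (ω + 1))) = 0 := by
      have := hpow a ha
      grobner
    rcases mul_eq_zero.1 h with h | h <;> rcases mul_eq_zero.1 h with h | h
    · exact ⟨0, h.symm⟩
    · exact ⟨1, (sub_eq_zero.1 h).symm⟩
    · exact ⟨2, (sub_eq_zero.1 h).symm⟩
    · exact ⟨3, (sub_eq_zero.1 h).symm⟩
  have hliftV : ∀ u : Fin 3 → F, (∀ i, u i ∈ K) → ∃ a : V, emV ω a = u := by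
    intro u hu
    obtain ⟨a, ha⟩ := hlift _ (hu 0)
    obtain ⟨b, hb⟩ := hlift _ (hu 1)
    obtain ⟨c, hc⟩ := hlift _ (hu 2)
    exact ⟨(a, b, c), by ext i; fin_cases i <;> simp [emV, ha, hb, hc]⟩
  -- the starting transvections
  obtain ⟨⟨v₀, v₁, v₂⟩, hv⟩ := hliftV v hvK
  obtain ⟨⟨f₀, f₁, f₂⟩, hf⟩ := hliftV φ hφK
  have hv₁ : em ω v₁ = v 1 := by rw [← hv]; rfl
  have hf₀ : em ω f₀ = φ 0 := by rw [← hf]; rfl
  have hf₁ : em ω f₁ = φ 1 := by rw [← hf]; rfl
  obtain rfl : v₂ = 1 := em_inj hω (by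
    rw [show em ω v₂ = v 2 by rw [← hv]; rfl, hv2]; rfl)
  have hxm : Mem ω M ((v₀, v₁, 1), (f₀, f₁, f₂)) := by unfold Mem; rw [hv, hf]; exact hx
  have hf₂ : f₂ = Four.add (Four.mul f₀ v₀) (Four.mul f₁ v₁) := by
    have h0 : Four.dot (f₀, f₁, f₂) (v₀, v₁, 1) = 0 := (em_eq_zero hω).1 (by rw [em_dot hω]; exact hxm.dot)
    exact dot_zero_model _ _ _ _ _ h0
  have hcov := extra_covered v₀ v₁ f₀ f₁ (fun e => hv1.1 (by rw [← hv₁, e]; rfl))
    (fun e => hv1.2 (by rw [← hv₁, e]; rfl)) (fun e => hp.1 (by rw [← hf₀, e]; rfl))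
    (fun e => hp.2.1 (by rw [← hf₁, e]; rfl)) (fun e => hp.2.2 (by rw [← hf₁, ← hf₀, e]))
  rw [extra, ← hf₂] at hcov
  have hunit : ∀ j : Fin 3, ∀ a : V, (∀ i, em ω (![a.1, a.2.1, a.2.2] i) = if i = j then 1 else 0) →
      emV ω a = Pi.single j 1 := by
    intro j a ha
    ext i
    rw [Pi.single_apply, ← ha i]
    fin_cases i <;> rfl
  have hu0 : emV ω (1, 0, 0) = Pi.single 0 1 := hunit 0 _ fun i => by fin_cases i <;> simp [Four.em]
  have hu1 : emV ω (0, 1, 0) = Pi.single 1 1 := hunit 1 _ fun i => by fin_cases i <;> simp [Four.em]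
  have hu2 : emV ω (0, 0, 1) = Pi.single 2 1 := hunit 2 _ fun i => by fin_cases i <;> simp [Four.em]
  obtain ⟨k, hS⟩ := exists_oval hω hroot (x := normT ((v₀, v₁, 1), (f₀, f₁, f₂))) (by
    intro t ht
    simp only [gens, List.mem_cons, List.not_mem_nil, or_false] at ht
    rcases ht with rfl | rfl | rfl | rfl
    · unfold Mem; rw [hu0, hu1]; exact h12
    · unfold Mem; rw [hu1, hu2]; exact h23
    · unfold Mem; rw [hu0, hu2]; exact h13
    · exact mem_normT hω hxm) hcov
  -- the permutation of the oval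
  let h : Fin 6 → Fin 3 → F := fun p => emV ω (oval k p)
  have hne : ∀ p, oval k p ≠ (0, 0, 0) := fun p e => by
    have := oval_lead k p; rw [e] at this; exact absurd this (by decide)
  have hh0 : ∀ p, h p ≠ 0 := fun p e => hne p ((vec_eq_zero hω).1 e)
  have hline : ∀ p r : Fin 6, ∀ c : F, h p = c • h r → p = r := by
    intro p r c hpr
    have hcK : ∃ c' : Fin 4, em ω c' = c := by
      obtain ⟨i, hi⟩ : ∃ i, h r i ≠ 0 := Function.ne_iff.1 (hh0 r)
      have hK1 : ∀ a, em ω a ∈ K := fun a => by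
        fin_cases a
        exacts [zero_mem K, one_mem K, hωK, add_mem hωK (one_mem K)]
      have hent : ∀ (q : Fin 6) (i : Fin 3), h q i ∈ K := fun q i => by fin_cases i <;> exact hK1 _
      refine hlift c ?_
      have : c = h p i / h r i := by rw [hpr, Pi.smul_apply, smul_eq_mul, mul_div_cancel_right₀ _ hi]
      exact this ▸ div_mem (hent p i) (hent r i)
    obtain ⟨c', rfl⟩ := hcK
    have he : oval k p = vsmul c' (oval k r) := by
      have he' : emV ω (oval k p) = emV ω (vsmul c' (oval k r)) := by rw [vec_smul hω]; exact hpr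
      exact Prod.ext (em_inj hω (congrFun he' 0))
        (Prod.ext (em_inj hω (congrFun he' 1)) (em_inj hω (congrFun he' 2)))
    exact oval_indep k c' p r he
  let Rel : GL (Fin 3) F → Equiv.Perm (Fin 6) → Prop := fun g σ =>
    ∀ p, ∃ c : F, (g : Matrix (Fin 3) (Fin 3) F) *ᵥ h p = c • h (σ p)
  have huniq : ∀ g σ σ', Rel g σ → Rel g σ' → σ = σ' := by
    intro g σ σ' hσ hσ'
    refine Equiv.ext fun p => ?_
    obtain ⟨c, hc⟩ := hσ p
    obtain ⟨c', hc'⟩ := hσ' p
    have hc0 : c ≠ 0 := by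
      rintro rfl
      rw [zero_smul] at hc
      exact hh0 p (by rw [← inv_mulVec_mulVec g (h p), hc, Matrix.mulVec_zero])
    refine hline _ _ (c⁻¹ * c') ?_
    rw [← smul_smul, ← hc', hc, smul_smul, inv_mul_cancel₀ hc0, one_smul]
  have hone : Rel 1 1 := fun p => ⟨1, by simp⟩
  have hmul : ∀ g g' σ σ', Rel g σ → Rel g' σ' → Rel (g * g') (σ * σ') := by
    intro g g' σ σ' hσ hσ' p
    obtain ⟨c', hc'⟩ := hσ' p
    obtain ⟨c, hc⟩ := hσ (σ' p)
    exact ⟨c' * c, by rw [mul_mulVec, hc', Matrix.mulVec_smul, hc, smul_smul]; rfl⟩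
  have hinv : ∀ g σ, Rel g σ → Rel g⁻¹ σ⁻¹ := by
    intro g σ hσ p
    obtain ⟨c, hc⟩ := hσ (σ⁻¹ p)
    rw [Equiv.Perm.coe_inv, Equiv.apply_symm_apply] at hc
    have hc0 : c ≠ 0 := by
      rintro rfl
      rw [zero_smul] at hc
      exact hh0 _ (by rw [← inv_mulVec_mulVec g (h (σ.symm p)), hc, Matrix.mulVec_zero])
    refine ⟨c⁻¹, ?_⟩
    rw [← inv_mulVec_mulVec g (h (σ⁻¹ p)), Equiv.Perm.coe_inv, hc, Matrix.mulVec_smul, smul_smul,
      inv_mul_cancel₀ hc0, one_smul]
  -- the transvections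
  have hdt : ∀ (i : Nat) (hi : i < 45), Equiv.Perm.sign (dt k i) = 1 ∧
      Rel (tvec _ _ (hS ((tvs k).getD i ((0, 0, 0), (0, 0, 0))) (by
        rw [List.getD_eq_getElem _ _ ((tvs_length k).symm ▸ hi)]; exact List.getElem_mem _)).dot)
        (dt k i) := by
    intro i hi
    refine ⟨?_, fun p => ?_⟩
    · obtain ⟨h1, h2⟩ := cycles_ne k i hi
      rw [dt]
      rw [map_mul, Equiv.Perm.sign_swap h1, Equiv.Perm.sign_swap h2]
      rfl
    · set s := (tvs k).getD i ((0, 0, 0), (0, 0, 0))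
      refine ⟨em ω (lead (app s (oval k p))), ?_⟩
      have hap : app s (oval k p) = vsmul (lead (app s (oval k p))) (oval k (dt k i p)) := by
        rw [← oval_act k i hi p, normV]
        show app s (oval k p) = vsmul (lead (app s (oval k p)))
          (vsmul (inv (lead (app s (oval k p)))) (app s (oval k p)))
        exact vsmul_normV _
      show _ = _ • emV ω _
      rw [← vec_smul hω, ← hap, app, vec_add hω, vec_smul hω, em_dot hω, tvec_mulVec]
  let H : Subgroup (GL (Fin 3) F) :=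
    { carrier := {g | ∃ σ, Equiv.Perm.sign σ = 1 ∧ Rel g σ}
      one_mem' := ⟨1, map_one _, hone⟩
      mul_mem' := by
        rintro g g' ⟨σ, s1, r1⟩ ⟨σ', s2, r2⟩
        exact ⟨σ * σ', by rw [map_mul, s1, s2, one_mul], hmul _ _ _ _ r1 r2⟩
      inv_mem' := by
        rintro g ⟨σ, s1, r1⟩
        exact ⟨σ⁻¹, by rw [map_inv, s1, inv_one], hinv _ _ r1⟩ }
  have hMH : M ≤ H := hM.le_of_tv fun u θ ht => by
    -- scale to entries in `K`
    obtain ⟨i, hi⟩ := Function.ne_iff.1 ht.v_ne
    have hmem := hle ht.tvec_mem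
    obtain ⟨g', -, hg'⟩ := hmem
    have hent : ∀ a b, u a * θ b ∈ K := by
      intro a b
      have h1 := congrArg (fun g : GL (Fin 3) F => (g : Matrix (Fin 3) (Fin 3) F) a b) hg'
      simp only [tvec_val, Matrix.add_apply, vecMulVec_apply] at h1
      have hAK : ((g' : Matrix (Fin 3) (Fin 3) K) a b : F) ∈ K := SetLike.coe_mem _
      have h1' : ((g' : Matrix (Fin 3) (Fin 3) K) a b : F) = (1 : Matrix (Fin 3) (Fin 3) F) a b + u a * θ b := h1
      have he : u a * θ b = ((g' : Matrix (Fin 3) (Fin 3) K) a b : F) - (1 : Matrix (Fin 3) (Fin 3) F) a b := by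
        rw [h1']; ring
      rw [he]
      refine sub_mem hAK ?_
      rw [Matrix.one_apply]
      split_ifs
      · exact one_mem K
      · exact zero_mem K
    obtain ⟨b, hb⟩ := Function.ne_iff.1 ht.φ_ne
    obtain ⟨a', ha'⟩ := hliftV ((u i)⁻¹ • u) fun a => by
      have : ((u i)⁻¹ • u) a = (u a * θ b) / (u i * θ b) := by
        rw [Pi.smul_apply, smul_eq_mul, mul_div_mul_right _ _ hb, inv_mul_eq_div]
      rw [this]; exact div_mem (hent a b) (hent i b)
    obtain ⟨f', hf'⟩ := hliftV (u i • θ) fun a => by rw [Pi.smul_apply, smul_eq_mul]; exact hent i a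
    have hsc := ht.smul (inv_ne_zero hi)
    rw [inv_inv, ← ha', ← hf'] at hsc
    have hy : Mem ω M (normT (a', f')) := mem_normT hω hsc
    have hl : lead (normT (a', f')).1 = 1 := by
      have hne' : a' ≠ (0, 0, 0) := fun e => hsc.v_ne ((vec_eq_zero hω).2 e)
      exact lead_normV a' hne' 
    obtain ⟨j, hj, hjy⟩ := List.getElem_of_mem (mem_tvs hω hroot hS hy hl)
    have hj45 : j < 45 := (tvs_length k) ▸ hj
    obtain ⟨hsgn, hrel⟩ := hdt j hj45
    refine ⟨dt k j, hsgn, ?_⟩
    convert hrel using 1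
    have hq : (tvs k).getD j ((0, 0, 0), (0, 0, 0)) = normT (a', f') := by
      rw [List.getD_eq_getElem _ _ hj, hjy]
    refine gl_ext_mulVec fun z => ?_
    rw [tvec_mulVec, tvec_mulVec, hq]
    have hl0 : lead a' ≠ 0 := lead_ne hω fun e => hsc.v_ne ((vec_eq_zero hω).2 e)
    have hl0' : em ω (lead a') ≠ 0 := fun e => hl0 ((em_eq_zero hω).1 e)
    show z + _ = z + (emV ω (vsmul (lead a') f') ⬝ᵥ z) • emV ω (vsmul (inv (lead a')) a')
    rw [vec_smul hω, vec_smul hω, em_inv hω hl0, smul_dotProduct, smul_smul, smul_eq_mul,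
      mul_comm (em ω (lead a')), mul_assoc, mul_inv_cancel₀ hl0', mul_one, ha', hf', smul_dotProduct,
      smul_smul, smul_eq_mul, mul_comm (u i), mul_assoc, mul_inv_cancel₀ hi, mul_one]
  -- the homomorphism
  choose σ hσ1 hσ using fun g : M => (hMH g.2 : ∃ σ, Equiv.Perm.sign σ = 1 ∧ Rel g σ)
  let π : M →* alternatingGroup (Fin 6) :=
    { toFun := fun g => ⟨σ g, Equiv.Perm.mem_alternatingGroup.2 (hσ1 g)⟩
      map_one' := Subtype.ext (huniq _ _ _ (hσ 1) hone)
      map_mul' := fun g g' => Subtype.ext (huniq _ _ _ (hσ (g * g')) (hmul _ _ _ _ (hσ g) (hσ g'))) }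
  have hdmem : ∀ i < 45, ∃ g : M, σ g = dt k i := fun i hi => by
    obtain ⟨-, hrel⟩ := hdt i hi
    have hmemS : (tvs k).getD i ((0, 0, 0), (0, 0, 0)) ∈ tvs k := by
      rw [List.getD_eq_getElem _ _ ((tvs_length k).symm ▸ hi)]; exact List.getElem_mem _
    exact ⟨⟨_, (hS _ hmemS).tvec_mem⟩, huniq _ _ _ (hσ _) hrel⟩
  have hsurj : Function.Surjective π := by
    rw [← MonoidHom.range_eq_top]
    refine Subgroup.eq_top_of_le_card _ ?_
    obtain ⟨hincr, hlen, hall⟩ := pairs_sorted k
    have hmem : ∀ p ∈ pairs k, ∃ x : π.range, ((x : alternatingGroup (Fin 6)) : Equiv.Perm (Fin 6)) =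
        dt k p.1 * dt k p.2 := by
      intro p hp
      have h := List.all_eq_true.1 hall p hp
      simp only [Bool.and_eq_true, decide_eq_true_eq] at h
      obtain ⟨g, hg⟩ := hdmem _ h.1
      obtain ⟨g', hg'⟩ := hdmem _ h.2
      refine ⟨⟨π (g * g'), g * g', rfl⟩, ?_⟩
      rw [← hg, ← hg']
      exact congrArg Subtype.val (π.map_mul g g')
    choose x hx using hmem
    let f : Fin (pairs k).length → π.range := fun i => x _ (List.getElem_mem i.2)
    have hf : Function.Injective f := by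
      intro i j hij
      have hpw := pairwise_of_incr hincr
      have he : codeMul (dt k ((pairs k)[i.1]).1) (dt k ((pairs k)[i.1]).2) =
          codeMul (dt k ((pairs k)[j.1]).1) (dt k ((pairs k)[j.1]).2) := by
        have h1 := congrArg (fun z : π.range => ((z : alternatingGroup (Fin 6)) : Equiv.Perm (Fin 6))) hij
        simp only [f, hx] at h1
        simp only [codeMul, ← Equiv.Perm.mul_apply, h1]
      have hnd : ((pairs k).map fun p => codeMul (dt k p.1) (dt k p.2)).Nodup :=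
        hpw.imp fun h => ne_of_lt h
      refine Fin.ext ((hnd.getElem_inj_iff (hi := by rw [List.length_map]; exact i.2)
        (hj := by rw [List.length_map]; exact j.2)).1 ?_)
      rw [List.getElem_map, List.getElem_map]
      exact he
    have h1 := Nat.card_le_card_of_injective f hf
    rw [Nat.card_eq_fintype_card, Fintype.card_fin, hlen] at h1
    refine le_trans (le_of_eq ?_) h1
    rw [nat_card_alternatingGroup, Nat.card_eq_fintype_card, Fintype.card_fin]
    rfl
  have hker : π.ker = (scalars (Fin 3) F).subgroupOf M := by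
    ext g
    rw [MonoidHom.mem_ker, Subgroup.mem_subgroupOf, mem_scalars_iff]
    constructor
    · intro hg
      have hg1 : σ g = 1 := congrArg Subtype.val hg
      have hfix : ∀ p, ∃ c : F, ((g : GL (Fin 3) F) : Matrix (Fin 3) (Fin 3) F) *ᵥ h p = c • h p := by
        intro p; have := hσ g p; rwa [hg1] at this
      choose c hc using hfix
      let d : Fin 3 → (Fin 3 → F) := fun a => emV ω (Four.dual k a)
      have hdual : ∀ a b : Fin 3, d a ⬝ᵥ h (Fin.castLE (by decide) b) = if a = b then 1 else 0 := by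
        intro a b
        rw [← em_dot hω, (dual_oval k a b).1]
        split_ifs <;> rfl
      have hexp : ∀ z : V, emV ω z = (d 0 ⬝ᵥ emV ω z) • h 0 + (d 1 ⬝ᵥ emV ω z) • h 1 +
          (d 2 ⬝ᵥ emV ω z) • h 2 := by
        intro z
        conv_lhs => rw [dual_expand k z]
        rw [vec_add hω, vec_add hω, vec_smul hω, vec_smul hω, vec_smul hω, em_dot hω, em_dot hω, em_dot hω]
      have hnz : ∀ a, d a ⬝ᵥ h 3 ≠ 0 := fun a e => (dual_oval k a 0).2 ((em_eq_zero hω).1 (by
        rw [em_dot hω]; exact e))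
      have hall3 : ∀ b : Fin 3, c (Fin.castLE (by decide) b) = c 3 := by
        intro b
        have e := congrArg (fun z => ((g : GL (Fin 3) F) : Matrix (Fin 3) (Fin 3) F) *ᵥ z) (hexp (oval k 3))
        simp only [Matrix.mulVec_add, Matrix.mulVec_smul, hc, show emV ω (oval k 3) = h 3 from rfl] at e
        have e' := congrArg (fun z => d b ⬝ᵥ z) e
        simp only [dotProduct_add, dotProduct_smul, smul_eq_mul] at e'
        have d0 := hdual b 0; have d1 := hdual b 1; have d2 := hdual b 2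
        simp only [Fin.castLE] at d0 d1 d2
        change d b ⬝ᵥ h 0 = _ at d0
        change d b ⬝ᵥ h 1 = _ at d1
        change d b ⬝ᵥ h 2 = _ at d2
        rw [d0, d1, d2] at e'
        refine mul_right_cancel₀ (hnz b) ?_
        fin_cases b <;> simp [-mul_eq_mul_right_iff] at e' ⊢ <;> linear_combination -e'
      have hc3 : c 3 ≠ 0 := by
        intro e
        have := hc 3
        rw [e, zero_smul] at this
        exact hh0 3 (by rw [← inv_mulVec_mulVec (g : GL (Fin 3) F) (h 3), this, Matrix.mulVec_zero])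
      refine ⟨Units.mk0 _ hc3, Matrix.ext_iff_mulVec.2 fun z => ?_⟩
      have hz : z = ∑ i, z i • (Pi.single i 1 : Fin 3 → F) := by
        ext j; simp [Finset.sum_apply, Pi.single_apply]
      rw [Units.val_mk0, Matrix.smul_mulVec, Matrix.one_mulVec, hz, Matrix.mulVec_sum, Finset.smul_sum]
      refine Finset.sum_congr rfl fun i _ => ?_
      rw [Matrix.mulVec_smul, smul_comm (c 3)]
      congr 1
      obtain ⟨z', hz'⟩ : ∃ z' : V, emV ω z' = Pi.single i 1 := by
        fin_cases i
        exacts [⟨_, hu0⟩, ⟨_, hu1⟩, ⟨_, hu2⟩]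
      rw [← hz', hexp z']
      have e0 := hall3 0; have e1 := hall3 1; have e2 := hall3 2
      change c 0 = _ at e0
      change c 1 = _ at e1
      change c 2 = _ at e2
      simp only [Matrix.mulVec_add, Matrix.mulVec_smul, hc, e0, e1, e2, smul_add, smul_smul, mul_comm]
    · rintro ⟨c, hc⟩
      refine Subtype.ext (huniq _ _ _ (hσ g) fun p => ⟨(c : F), ?_⟩)
      rw [hc, Matrix.smul_mulVec, Matrix.one_mulVec]
      rfl
  refine ⟨K, 1, hK, ?_, ?_⟩
  · rintro _ ⟨g, hg, rfl⟩
    simpa using hle hg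
  · exact ⟨(QuotientGroup.quotientMulEquivOfEq hker.symm).trans
      (QuotientGroup.quotientKerEquivOfSurjective π hsurj)⟩

end CfsgLib.Geo.D3
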