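/-
Groups generated by transvections in dimension three: a triangle of root groups and an opposite transvection
give a special linear group over a subfield.
-/
import Cfsg.Agent.Geo.DimThree.Basic

set_option autoImplicit false

namespace CfsgLib.Geo.D3

open Matrix Cfsg Cfsg.Geo CfsgLib.Geo CfsgLib.Geo.SL3

variable {F : Type*} [Field F] {M : Subgroup (GL (Fin 3) F)} {K : Subfield F} {v φ : Fin 3 → F}

/-- The standard basis vectors. -/
abbrev e (F : Type*) [Field F] (i : Fin 3) : Fin 3 → F := Pi.single i 1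

lemma dot_e (x : Fin 3 → F) (i : Fin 3) : x ⬝ᵥ e F i = x i := by simp [e]

lemma e_dot (x : Fin 3 → F) (i : Fin 3) : e F i ⬝ᵥ x = x i := by simp [e]

lemma e_ne (i : Fin 3) : e F i ≠ 0 := by simp [e]

/-- Every pair of opposite transvections, one with root group `K`, is regular over `K`. -/
def Reg (M : Subgroup (GL (Fin 3) F)) (K : Subfield F) : Prop :=
  ∀ v φ w ψ : Fin 3 → F, IsT M v φ → IsT M w ψ → aval v φ w ψ ≠ 0 → (root M v φ : Set F) = K →
    (root M w ψ : Set F) = K ∧ aval v φ w ψ ∈ K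

/-- All `K`-multiples of the elementary transvection `(i, j)` lie in `M`. -/
def El (M : Subgroup (GL (Fin 3) F)) (K : Subfield F) (i j : Fin 3) : Prop :=
  ∀ c ∈ K, HasTv M (c • e F i) (e F j)

lemma HasTv.conj_tv' {a θ b η : Fin 3 → F} (h : HasTv M a θ) (hb : HasTv M b η) :
    HasTv M (a + (η ⬝ᵥ a) • b) (θ - (θ ⬝ᵥ b) • η) := by
  have hg := HasTv.conj h hb.2
  rw [tvec_mulVec] at hg
  convert hg using 1
  show θ - (θ ⬝ᵥ b) • η = θ ᵥ* (1 - vecMulVec b η)
  rw [Matrix.vecMul_sub, Matrix.vecMul_one, Matrix.vecMul_vecMulVec]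

lemma El.trans {i j k : Fin 3} (hik : i ≠ k) (h : El M K i j) (h' : El M K j k) : El M K i k := by
  intro c hc
  have h1 := HasTv.comm (h c hc) (h' 1 K.one_mem) (by rw [dotProduct_smul, e_dot]; simp [hik.symm])
  rwa [one_smul, dot_e, show e F j j = 1 from Pi.single_eq_same j 1, one_smul] at h1

/-- A triangle of root groups and one more rational root group give all six. -/
theorem six_of_frame (h01 : El M K 0 1) (h12 : El M K 1 2) (h02 : El M K 0 2)
    (hx : ∀ c ∈ K, HasTv M (c • v) φ) (hv : v 2 = 1) (hvK : RatVec K v) (hφK : RatVec K φ) (hφ0 : φ 0 ≠ 0) :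
    ∀ i j : Fin 3, i ≠ j → El M K i j := by
  have hdot := (hx 1 K.one_mem).dot
  simp only [one_smul, vec3_dotProduct, hv] at hdot
  have h20 : El M K 2 0 := by
    intro d hd
    set c := d / φ 0 with hcdef
    have hcK : c ∈ K := K.div_mem hd (hφK 0)
    have a1 := HasTv.conj_tv' (hx c hcK) (h12 _ (K.neg_mem (hvK 1)))
    have a2 := HasTv.conj_tv' a1 (h02 _ (K.neg_mem (hvK 0)))
    have a3 := HasTv.conj_tv' a2 (h01 _ (K.div_mem (hφK 1) (hφK 0)))
    simp only [dotProduct_add, dotProduct_smul, sub_dotProduct, smul_dotProduct, e_dot, dot_e,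
      smul_eq_mul, hv] at a3
    have key : HasTv M (c • e F 2) (φ 0 • e F 0) := by
      convert a3 using 1
      · funext i
        fin_cases i <;> simp [e, hv] <;> ring
      · funext i
        fin_cases i
        · simp [e]
        · simp [e]; field_simp; ring
        · simp [e]; linear_combination -hdot
    rw [← hasTv_smul_iff (φ 0) hφ0, smul_smul, hcdef, mul_div_cancel₀ _ hφ0] at key
    exact key
  have h21 : El M K 2 1 := h20.trans (by decide) h01
  have h10 : El M K 1 0 := h12.trans (by decide) h20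
  intro i j hij
  fin_cases i <;> fin_cases j <;> first | exact absurd rfl hij | assumption

lemma map_val (x : GL (Fin 3) K) (i j : Fin 3) :
    ((Matrix.GeneralLinearGroup.map (n := Fin 3) (K.subtype : K →+* F) x : GL (Fin 3) F) :
      Matrix (Fin 3) (Fin 3) F) i j = ((x : Matrix (Fin 3) (Fin 3) K) i j : F) := rfl

lemma map_tvec {a θ : Fin 3 → K} (h : θ ⬝ᵥ a = 0)
    (h' : (fun i => (θ i : F)) ⬝ᵥ (fun i => (a i : F)) = 0) :
    Matrix.GeneralLinearGroup.map (n := Fin 3) (K.subtype : K →+* F) (tvec a θ h) =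
      tvec (fun i => (a i : F)) (fun i => (θ i : F)) h' := by
  refine Units.ext (Matrix.ext fun i j => ?_)
  rw [map_val, tvec_val, tvec_val]
  rcases eq_or_ne i j with rfl | hij
  · simp [vecMulVec_apply]
  · simp [vecMulVec_apply, hij]

theorem slOver_le_of_six (h : ∀ i j : Fin 3, i ≠ j → El M K i j) : slOver K ≤ M := by
  refine Subgroup.map_le_iff_le_comap.2 (specialLinear_le_of_elementary fun i j hij c => ?_)
  obtain ⟨h0, hm⟩ := h i j hij (c : F) c.2
  refine ⟨by simp [hij.symm], ?_⟩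
  rw [Subgroup.mem_comap, map_tvec _ (by
    refine Finset.sum_eq_zero fun k _ => ?_
    rcases eq_or_ne k j with rfl | hk
    · simp [hij.symm]
    · simp [hk])]
  have eq1 : (fun k => ((c • (Pi.single i 1 : Fin 3 → K)) k : F)) = (c : F) • e F i := by
    funext k
    rcases eq_or_ne k i with rfl | hk
    · simp [e]
    · simp [e, hk]
  have eq2 : (fun k => ((Pi.single j 1 : Fin 3 → K) k : F)) = e F j := by
    funext k
    rcases eq_or_ne k j with rfl | hk
    · simp [e]
    · simp [e, hk]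
  convert hm using 2
  exact gl_ext_mulVec fun z => by simp only [tvec_mulVec, eq1, eq2]

lemma tvec_mem_slOver (h : φ ⬝ᵥ v = 0) (hr : RatTv K v φ) : tvec v φ h ∈ slOver K := by
  have hent : ∀ k l, (tvec v φ h : Matrix (Fin 3) (Fin 3) F) k l ∈ K := fun k l => by
    rw [tvec_val, Matrix.add_apply, vecMulVec_apply, Matrix.one_apply]
    refine K.add_mem ?_ (hr k l)
    split_ifs
    exacts [K.one_mem, K.zero_mem]
  obtain ⟨x, hx⟩ := mem_range_map hent
  refine ⟨x, mem_specialLinear.2 (K.subtype.injective ?_), hx⟩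
  rw [RingHom.map_det, map_one]
  have hd := mem_specialLinear.1 (tvec_mem_specialLinear v φ h)
  rw [← hx] at hd
  exact hd

/-- A transvection whose incidences with the six roots and three further ones are rational is rational. -/
theorem ratTv_of_off_diag (hv : v ≠ 0) (hφ : φ ≠ 0) (h : φ ⬝ᵥ v = 0)
    (hoff : ∀ i j : Fin 3, i ≠ j → φ i * v j ∈ K)
    (hdiff : ∀ i j : Fin 3, i ≠ j → φ i * v i - φ j * v j ∈ K) : RatTv K v φ := by
  obtain ⟨i, j, hij, hne⟩ : ∃ i j : Fin 3, i ≠ j ∧ φ i * v j ≠ 0 := by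
    by_contra hc
    push Not at hc
    obtain ⟨j, hj⟩ := Function.ne_iff.1 hv
    have hz : ∀ i, i ≠ j → φ i = 0 := fun i hi => (mul_eq_zero.1 (hc i j hi)).resolve_right hj
    refine hφ (funext fun i => ?_)
    rcases eq_or_ne i j with rfl | hi
    · rw [dotProduct, Finset.sum_eq_single i (fun b _ hb => by rw [hz b hb, zero_mul])
        (fun hn => absurd (Finset.mem_univ i) hn)] at h
      exact (mul_eq_zero.1 h).resolve_right hj
    · exact hz i hi
  obtain ⟨k, hki, hkj⟩ : ∃ k : Fin 3, k ≠ i ∧ k ≠ j :=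
    (by decide : ∀ a b : Fin 3, ∃ c, c ≠ a ∧ c ≠ b) i j
  have hk : φ k * v k ∈ K := by
    have : φ k * v k = φ k * v j * (φ i * v k) / (φ i * v j) := by
      rw [eq_div_iff hne]; ring
    rw [this]
    exact K.div_mem (K.mul_mem (hoff k j hkj) (hoff i k hki.symm)) (hoff i j hij)
  intro a b
  rw [mul_comm]
  rcases eq_or_ne b a with rfl | hba
  · rcases eq_or_ne b k with rfl | hbk
    · exact hk
    · have := K.add_mem (hdiff b k hbk) hk
      rwa [sub_add_cancel] at this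
  · exact hoff b a hba

/-- Six root groups and rational incidences with the elementary transvections give `SL₃(K)`. -/
theorem eq_slOver_of_six (hM : Hyp M) (h : ∀ i j : Fin 3, i ≠ j → El M K i j)
    (hreg : ∀ w ψ : Fin 3 → F, IsT M w ψ → ∀ i j : Fin 3, i ≠ j → ψ i * w j ∈ K) :
    M = slOver K := by
  refine le_antisymm (hM.le_of_tv fun w ψ hw => tvec_mem_slOver hw.dot
    (ratTv_of_off_diag hw.v_ne hw.φ_ne hw.dot (hreg w ψ hw) (fun i j hij => ?_))) (slOver_le_of_six h)
  have hu : HasTv M (-e F j) (e F i) := by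
    have := h j i hij.symm (-1) (K.neg_mem K.one_mem)
    rwa [neg_one_smul] at this
  have h2 := hreg _ _ (hw.conj_tv hu) i j hij
  simp only [Pi.sub_apply, Pi.add_apply, Pi.smul_apply, Pi.neg_apply, e_dot, dot_e, dotProduct_neg,
    Pi.single_eq_same, Pi.single_eq_of_ne hij.symm, smul_eq_mul] at h2
  have := K.neg_mem (K.add_mem (K.sub_mem h2 (hreg w ψ hw i j hij)) (hreg w ψ hw j i hij.symm))
  convert this using 1
  ring

/-- A triangle with regular incidences gives a special linear group over a subfield. -/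
theorem isLinearType_of_frame (hM : Hyp M) (hR : Reg M K) (h01 : IsT M (e F 0) (e F 1))
    (h12 : IsT M (e F 1) (e F 2)) (h02 : IsT M (e F 0) (e F 2)) (hK : (root M (e F 0) (e F 2) : Set F) = K)
    (hmax : ∀ w ψ : Fin 3 → F, IsT M w ψ → (K : Set F) ⊆ root M w ψ → (root M w ψ : Set F) = K) :
    IsLinearType M := by
  obtain ⟨x0, θ0, hx0, ha0⟩ := hM.exists_opp h02
  have hx2 : x0 2 ≠ 0 := by
    intro h0; exact ha0 (by rw [aval, e_dot, h0, zero_mul])
  have hx := hx0.smul (inv_ne_zero hx2)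
  generalize hw : ((x0 2)⁻¹ • x0 : Fin 3 → F) = x at hx
  generalize hη : ((x0 2)⁻¹⁻¹ • θ0 : Fin 3 → F) = θ at hx
  have hv2 : x 2 = 1 := by rw [← hw]; simp [hx2]
  have hθ0 : θ 0 ≠ 0 := by
    rw [← hη]; intro h0
    simp [hx2] at h0
    exact ha0 (by rw [aval, dot_e, h0, mul_zero])
  -- remove the first coordinate
  have hgd : e F 2 ⬝ᵥ (x 0 • e F 0) = 0 := by simp
  suffices main : ∀ {M' : Subgroup (GL (Fin 3) F)}, Hyp M' → Reg M' K → IsT M' (e F 0) (e F 1) →
      IsT M' (e F 1) (e F 2) → IsT M' (e F 0) (e F 2) → (root M' (e F 0) (e F 2) : Set F) = K →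
      (∀ w ψ : Fin 3 → F, IsT M' w ψ → (K : Set F) ⊆ root M' w ψ → (root M' w ψ : Set F) = K) →
      ∀ v φ : Fin 3 → F, IsT M' v φ → v 0 = 0 → v 2 = 1 → φ 0 ≠ 0 → IsLinearType M' by
    set g := tvec (x 0 • e F 0) (e F 2) hgd
    have hgi : ∀ y : Fin 3 → F, ((g⁻¹ : GL (Fin 3) F) : Matrix (Fin 3) (Fin 3) F) *ᵥ y = y - y 2 • (x 0 • e F 0) := fun y => by
      show (1 - vecMulVec (x 0 • e F 0) (e F 2)) *ᵥ y = _
      rw [Matrix.sub_mulVec, Matrix.one_mulVec, Matrix.vecMulVec_mulVec, e_dot]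
      funext i; simp
    have hgr : ∀ ψ : Fin 3 → F, ψ ᵥ* (g : Matrix (Fin 3) (Fin 3) F) = ψ + (x 0 * ψ 0) • e F 2 := fun ψ => by
      show ψ ᵥ* (1 + vecMulVec (x 0 • e F 0) (e F 2)) = _
      rw [Matrix.vecMul_add, Matrix.vecMul_one, Matrix.vecMul_vecMulVec, dotProduct_smul, dot_e, smul_eq_mul]
    have hback : ∀ {w ψ : Fin 3 → F} {s : F}, s ∈ root (inBasis M g) w ψ ↔
        s ∈ root M ((g : Matrix (Fin 3) (Fin 3) F) *ᵥ w) (ψ ᵥ* ((g⁻¹ : GL (Fin 3) F) : Matrix (Fin 3) (Fin 3) F)) := by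
      intro w ψ s
      rw [mem_root, mem_root, hasTv_inBasis, Matrix.mulVec_smul]
    have hT : ∀ {w ψ : Fin 3 → F}, IsT (inBasis M g) w ψ →
        IsT M ((g : Matrix (Fin 3) (Fin 3) F) *ᵥ w) (ψ ᵥ* ((g⁻¹ : GL (Fin 3) F) : Matrix (Fin 3) (Fin 3) F)) :=
      fun {w ψ} h => by
      have := h.inBasis g⁻¹
      rwa [inBasis_inv_self, inv_inv] at this
    have ht : ∀ {w ψ : Fin 3 → F}, IsT M w ψ → w 2 = 0 → ψ 0 = 0 → IsT (inBasis M g) w ψ := by
      intro w ψ h h1 h2
      have := h.inBasis g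
      rwa [hgi, hgr, h1, h2, zero_smul, sub_zero, mul_zero, zero_smul, add_zero] at this
    have hR' : Reg (inBasis M g) K := by
      intro w ψ w' ψ' h h' hne hroot
      have eroot : ∀ u η, (root (inBasis M g) u η : Set F) = root M ((g : Matrix (Fin 3) (Fin 3) F) *ᵥ u)
          (η ᵥ* ((g⁻¹ : GL (Fin 3) F) : Matrix (Fin 3) (Fin 3) F)) := fun u η => Set.ext fun s => hback
      have ea : aval w ψ w' ψ' = aval ((g : Matrix (Fin 3) (Fin 3) F) *ᵥ w)
          (ψ ᵥ* ((g⁻¹ : GL (Fin 3) F) : Matrix (Fin 3) (Fin 3) F)) ((g : Matrix (Fin 3) (Fin 3) F) *ᵥ w')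
          (ψ' ᵥ* ((g⁻¹ : GL (Fin 3) F) : Matrix (Fin 3) (Fin 3) F)) := by
        simp only [aval, vecMul_dotProduct_mulVec]
      rw [eroot] at hroot ⊢
      rw [ea] at hne ⊢
      exact hR _ _ _ _ (hT h) (hT h') hne hroot
    refine IsLinearType.of_inBasis (g := g) (main (hM.inBasis g) hR' (ht h01 (by simp) (by simp))
      (ht h12 (by simp) (by simp)) (ht h02 (by simp) (by simp)) ?_ ?_ (x - x 0 • e F 0) (θ + (x 0 * θ 0) • e F 2)
      ?_ (by simp) (by simp [hv2]) (by simpa using hθ0))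
    · rw [← hK]
      refine Set.ext fun s => hback.trans ?_
      have a1 : (g : Matrix (Fin 3) (Fin 3) F) *ᵥ e F 0 = e F 0 := by rw [tvec_mulVec]; simp
      have a2 : e F 2 ᵥ* ((g⁻¹ : GL (Fin 3) F) : Matrix (Fin 3) (Fin 3) F) = e F 2 := by
        show e F 2 ᵥ* (1 - vecMulVec (x 0 • e F 0) (e F 2)) = _
        rw [Matrix.vecMul_sub, Matrix.vecMul_one, Matrix.vecMul_vecMulVec]
        simp
      rw [a1, a2]
      rfl
    · intro w ψ h hsub
      have eroot : (root (inBasis M g) w ψ : Set F) = root M ((g : Matrix (Fin 3) (Fin 3) F) *ᵥ w)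
          (ψ ᵥ* ((g⁻¹ : GL (Fin 3) F) : Matrix (Fin 3) (Fin 3) F)) := Set.ext fun s => hback
      rw [eroot] at hsub ⊢
      exact hmax _ _ (hT h) hsub
    · have := hx.inBasis g
      rw [hgi, hgr, hv2, one_smul] at this
      exact this
  intro M hM hR h01 h12 h02 hK hmax v φ hx hv0 hv hφ0
  have hax : aval (e F 0) (e F 2) v φ = φ 0 := by rw [aval, e_dot, dot_e, hv, one_mul]
  obtain ⟨hrx, haK⟩ := hR _ _ _ _ h02 hx (by rw [hax]; exact hφ0) hK
  rw [hax] at haK
  have h02' : El M K 0 2 := fun c hc => by rw [← SetLike.mem_coe, ← hK] at hc; exact hc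
  have hrow : ∀ r ∈ K, IsT M (e F 0) (e F 1 + r • e F 2) ∧ φ 0 * (v 1 + r) ∈ K ∧
      (v 1 + r ≠ 0 → (root M (e F 0) (e F 1 + r • e F 2) : Set F) = K) := by
    intro r hr
    have hax' : HasTv M (e F 0) (r • e F 2) := by
      rcases eq_or_ne r 0 with rfl | hr0
      · rw [zero_smul]; exact hasTv_zero_right M _
      · exact (hasTv_smul_iff r hr0).1 (h02' r hr)
    have hne : e F 1 + r • e F 2 ≠ 0 := fun e0 => by simpa [e] using congrFun e0 1
    have ht : IsT M (e F 0) (e F 1 + r • e F 2) := ⟨e_ne 0, hne, h01.mem.add_axis hax'⟩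
    have ea : aval v φ (e F 0) (e F 1 + r • e F 2) = φ 0 * (v 1 + r) := by
      simp [aval, hv]
    by_cases h0 : v 1 + r = 0
    · exact ⟨ht, by rw [h0, mul_zero]; exact K.zero_mem, fun h => absurd h0 h⟩
    · obtain ⟨h1, h2⟩ := hR _ _ _ _ hx ht (by rw [ea]; exact mul_ne_zero hφ0 h0) hrx
      exact ⟨ht, ea ▸ h2, fun _ => h1⟩
  have hcol : ∀ r ∈ K, IsT M (r • e F 0 + e F 1) (e F 2) ∧ r * φ 0 + φ 1 ∈ K ∧
      (r * φ 0 + φ 1 ≠ 0 → (root M (r • e F 0 + e F 1) (e F 2) : Set F) = K) := by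
    intro r hr
    have hne : r • e F 0 + e F 1 ≠ 0 := fun e0 => by simpa [e] using congrFun e0 1
    have ht : IsT M (r • e F 0 + e F 1) (e F 2) := ⟨hne, e_ne 2, HasTv.add_center (h02' r hr) h12.mem⟩
    have ea : aval v φ (r • e F 0 + e F 1) (e F 2) = r * φ 0 + φ 1 := by
      simp [aval, hv]
    by_cases h0 : r * φ 0 + φ 1 = 0
    · exact ⟨ht, by rw [h0]; exact K.zero_mem, fun h => absurd h0 h⟩
    · obtain ⟨h1, h2⟩ := hR _ _ _ _ hx ht (by rw [ea]; exact h0) hrx
      exact ⟨ht, ea ▸ h2, fun _ => h1⟩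
  have hv1 : v 1 ∈ K := by
    have := K.div_mem (hrow 0 K.zero_mem).2.1 haK
    rwa [add_zero, mul_div_cancel_left₀ _ hφ0] at this
  have hφ1 : φ 1 ∈ K := by simpa using (hcol 0 K.zero_mem).2.1
  have h01' : El M K 0 1 := by
    intro c hc
    obtain ⟨r, hr, hr0⟩ : ∃ r ∈ K, v 1 + r ≠ 0 := by
      by_cases h0 : v 1 = 0
      · exact ⟨1, K.one_mem, by simp [h0]⟩
      · exact ⟨0, K.zero_mem, by simpa using h0⟩
    have h1 : HasTv M (c • e F 0) (e F 1 + r • e F 2) := by
      rw [← mem_root, ← SetLike.mem_coe, (hrow r hr).2.2 hr0]; exact hc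
    have h2 : HasTv M (c • e F 0) (r • e F 2) := by
      rcases eq_or_ne r 0 with rfl | hr'
      · rw [zero_smul]; exact hasTv_zero_right M _
      · rw [← hasTv_smul_iff r hr', smul_smul]; exact h02' _ (K.mul_mem hr hc)
    simpa using h1.sub_axis h2
  have h12' : El M K 1 2 := by
    intro c hc
    obtain ⟨r, hr, hr0⟩ : ∃ r ∈ K, r * φ 0 + φ 1 ≠ 0 := by
      by_cases h0 : φ 1 = 0
      · exact ⟨1, K.one_mem, by simp [h0, hφ0]⟩
      · exact ⟨0, K.zero_mem, by simpa using h0⟩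
    have h1 : HasTv M (c • (r • e F 0 + e F 1)) (e F 2) := by
      rw [← mem_root, ← SetLike.mem_coe, (hcol r hr).2.2 hr0]; exact hc
    simpa [smul_smul] using h1.sub_center (h02' (c * r) (K.mul_mem hc hr))
  have hvK : RatVec K v := by
    intro i; fin_cases i
    · exact hv0 ▸ K.zero_mem
    · exact hv1
    · exact hv ▸ K.one_mem
  have hφK : RatVec K φ := by
    have hdot := hx.dot
    rw [vec3_dotProduct, hv, hv0, mul_zero, zero_add, mul_one] at hdot
    intro i; fin_cases i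
    · exact haK
    · exact hφ1
    · show φ 2 ∈ K
      rw [show φ 2 = -(φ 1 * v 1) by linear_combination hdot]
      exact K.neg_mem (K.mul_mem hφ1 hv1)
  have hsix := six_of_frame h01' h12' h02' (fun c hc => by rw [← mem_root, ← SetLike.mem_coe, hrx]; exact hc)
    hv hvK hφK hφ0
  refine ⟨K, 1, ?_⟩
  have hEq : M = slOver K := eq_slOver_of_six hM hsix fun w ψ hw i j hij => by
    by_cases h0 : ψ i * w j = 0
    · rw [h0]; exact K.zero_mem
    have hy : IsT M (e F i) (e F j) := ⟨e_ne i, e_ne j, by simpa using hsix i j hij 1 K.one_mem⟩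
    have ea : aval (e F i) (e F j) w ψ = ψ i * w j := by rw [aval, e_dot, dot_e, mul_comm]
    have h1 := hR _ _ _ _ hy hw (by rwa [ea]) (hmax _ _ hy fun c hc => hsix i j hij c hc)
    exact ea ▸ h1.2
  rw [← hEq]
  ext z
  simp

end CfsgLib.Geo.D3
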