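/-
Subgroups of SL₂ of a finite field containing translations on both sides.
-/
import Cfsg.Agent.Dickson.Transfer
import Cfsg.Agent.Classical.SmallSubPSL

set_option autoImplicit false
set_option linter.unusedSectionVars false

namespace CfsgLib.Geo.D3.SL2Core

open Matrix OnePoint
open CfsgLib.Dickson
open CfsgLib.Linear.SmallSub (proj proj_eq_one_iff)

variable {F : Type*} [Field F]

/-- `SL₂(F)`. -/
abbrev S2 (F : Type*) [Field F] := Matrix.SpecialLinearGroup (Fin 2) F

/-- The parameters of the upper translations in `H`. -/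
def upRoot (H : Subgroup (S2 F)) : AddSubgroup F where
  carrier := {x | CfsgLib.SL2Pair.up x ∈ H}
  zero_mem' := by
    show CfsgLib.SL2Pair.up (0 : F) ∈ H
    rw [CfsgLib.SL2Pair.up_zero]; exact H.one_mem
  add_mem' {x y} hx hy := by
    show CfsgLib.SL2Pair.up (x + y) ∈ H
    rw [← CfsgLib.SL2Pair.up_mul]; exact H.mul_mem hx hy
  neg_mem' {x} hx := by
    show CfsgLib.SL2Pair.up (-x) ∈ H
    rw [← CfsgLib.SL2Pair.up_inv]; exact H.inv_mem hx

/-- The parameters of the lower translations in `H`. -/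
def lowRoot (H : Subgroup (S2 F)) : AddSubgroup F where
  carrier := {x | CfsgLib.SL2Pair.low x ∈ H}
  zero_mem' := by
    show CfsgLib.SL2Pair.low (0 : F) ∈ H
    rw [CfsgLib.SL2Pair.low_zero]; exact H.one_mem
  add_mem' {x y} hx hy := by
    show CfsgLib.SL2Pair.low (x + y) ∈ H
    rw [← CfsgLib.SL2Pair.low_mul]; exact H.mul_mem hx hy
  neg_mem' {x} hx := by
    show CfsgLib.SL2Pair.low (-x) ∈ H
    rw [← CfsgLib.SL2Pair.low_inv]; exact H.inv_mem hx

lemma mem_upRoot {H : Subgroup (S2 F)} {x : F} : x ∈ upRoot H ↔ CfsgLib.SL2Pair.up x ∈ H := Iff.rfl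

lemma mem_lowRoot {H : Subgroup (S2 F)} {x : F} : x ∈ lowRoot H ↔ CfsgLib.SL2Pair.low x ∈ H := Iff.rfl

lemma up_pow (x : F) : ∀ n : ℕ, CfsgLib.SL2Pair.up x ^ n = CfsgLib.SL2Pair.up ((n : F) * x)
  | 0 => by simp [CfsgLib.SL2Pair.up_zero]
  | n + 1 => by rw [pow_succ, up_pow x n, CfsgLib.SL2Pair.up_mul]; congr 1; push_cast; ring

lemma low_pow (x : F) : ∀ n : ℕ, CfsgLib.SL2Pair.low x ^ n = CfsgLib.SL2Pair.low ((n : F) * x)
  | 0 => by simp [CfsgLib.SL2Pair.low_zero]
  | n + 1 => by rw [pow_succ, low_pow x n, CfsgLib.SL2Pair.low_mul]; congr 1; push_cast; ring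

/-- An element of order dividing `p` lies in a subgroup as soon as its image in PSL does. -/
lemma mem_of_proj_eq (p : ℕ) [Fact p.Prime] [CharP F p] {H : Subgroup (S2 F)} {h u : S2 F} (hh : h ∈ H)
    (hu : u ^ (p + 1) = u) (e : proj h = proj u) : u ∈ H := by
  obtain ⟨c, hc⟩ := (proj_eq_one_iff (h⁻¹ * u)).1 (by rw [map_mul, map_inv, e, inv_mul_cancel])
  have hc2 : c ^ 2 = 1 := by
    have hd := (h⁻¹ * u).2
    rw [hc, Matrix.det_smul, Matrix.det_one, mul_one, Fintype.card_fin] at hd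
    exact hd
  have hcp : c ^ (p + 1) = 1 := by
    rcases mul_eq_zero.1 (show (c - 1) * (c + 1) = 0 by linear_combination hc2) with hz | hz
    · rw [sub_eq_zero.1 hz, one_pow]
    · rw [eq_neg_of_add_eq_zero_left hz, pow_succ, neg_one_pow_char F p]; ring
  have hcomm : Commute h (h⁻¹ * u) := Subtype.ext (by
    rw [Matrix.SpecialLinearGroup.coe_mul, Matrix.SpecialLinearGroup.coe_mul _ h, hc]
    simp)
  have hz1 : (h⁻¹ * u) ^ (p + 1) = 1 := Subtype.ext (by
    rw [Matrix.SpecialLinearGroup.coe_pow, hc, smul_pow, one_pow, hcp, one_smul,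
      Matrix.SpecialLinearGroup.coe_one])
  have : u ^ (p + 1) ∈ H := by
    rw [show u = h * (h⁻¹ * u) by group, hcomm.mul_pow, hz1, mul_one]
    exact pow_mem hh _
  rwa [hu] at this

section Image

variable {K : Type*} [Field K] [DecidableEq K]

/-- The lower translation in `PGL₂(K)`. -/
noncomputable def lowT (y : K) : PGL2 K := mob 1 0 y 1 (by simp)

theorem pslHom_low (φ : F →+* K) (b : F) :
    pslHom φ (proj (CfsgLib.SL2Pair.low b)) = lowT (φ b) := by
  show pslHom φ (QuotientGroup.mk (CfsgLib.SL2Pair.low b)) = _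
  rw [pslHom_mk, lowT, mob]
  simp only [MonoidHom.comp_apply]
  congr 1
  ext i j
  fin_cases i <;> fin_cases j <;> simp [CfsgLib.SL2Pair.low_coe]

theorem pslHom_up' (φ : F →+* K) (a : F) :
    pslHom φ (proj (CfsgLib.SL2Pair.up a)) = aff (1 : Kˣ) (φ a) :=
  pslHom_up φ a

theorem lowT_smul_infty {y : K} (hy : y ≠ 0) : lowT y • (∞ : OnePoint K) = ((y⁻¹ : K) : OnePoint K) := by
  simp [lowT, mob_smul_infty, hy]

theorem fix_lowT {y : K} (hy : y ≠ 0) : fix (lowT y) = {((0 : K) : OnePoint K)} := by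
  ext x
  rcases x with _ | t
  · show lowT y • (∞ : OnePoint K) = ∞ ↔ (∞ : OnePoint K) ∈ ({((0 : K) : OnePoint K)} : Set (OnePoint K))
    simp [lowT_smul_infty hy]
  · show lowT y • (t : OnePoint K) = (t : OnePoint K) ↔ (t : OnePoint K) ∈ ({((0 : K) : OnePoint K)} : Set (OnePoint K))
    rw [lowT, mob_smul_coe, Set.mem_singleton_iff]
    by_cases h : y * t + 1 = 0
    · rw [if_pos h]
      have ht : t ≠ 0 := by rintro rfl; simp at h
      simp [ht]
    · rw [if_neg h, OnePoint.coe_eq_coe, OnePoint.coe_eq_coe, one_mul, add_zero, div_eq_iff h]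
      constructor
      · intro e
        exact (pow_eq_zero_iff two_ne_zero).1 ((mul_eq_zero.1 (show y * t ^ 2 = 0 by linear_combination -e)).resolve_left hy)
      · rintro rfl; simp

theorem dil_conj_aff (c : Kˣ) (x : K) : aff c 0 * aff (1 : Kˣ) x * (aff c 0)⁻¹ = aff (1 : Kˣ) ((c : K) * x) := by
  rw [mul_inv_eq_iff_eq_mul, aff_mul, aff_mul]
  simp

theorem dil_conj_lowT (c : Kˣ) (y : K) : aff c 0 * lowT y * (aff c 0)⁻¹ = lowT (y / (c : K)) := by
  rw [mul_inv_eq_iff_eq_mul, lowT, lowT, aff, mob, mob, mob, ← map_mul, ← map_mul]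
  congr 1
  ext i j
  fin_cases i <;> fin_cases j <;> simp [GeneralLinearGroup.mkOfDetNeZero, Matrix.mul_apply, Fin.sum_univ_two]

variable {L : Type*} [Field L] [DecidableEq L]

theorem exists_psl_pair (φ : L →+* K) {w z : OnePoint L} (hwz : w ≠ z) :
    ∃ s ∈ pslImage φ, s • OnePoint.map φ w = ∞ ∧ s • OnePoint.map φ z = ((0 : K) : OnePoint K) := by
  obtain ⟨s, hs, hsw⟩ : ∃ s ∈ pslImage φ, s • OnePoint.map φ w = (∞ : OnePoint K) := by
    rcases w with _ | t
    · exact ⟨1, one_mem _, by rw [one_smul]; rfl⟩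
    · let s := pslHom φ (QuotientGroup.mk (CfsgLib.SL2Pair.up (t - 1) * CfsgLib.SL2Pair.low (1 : L)))
      have hs : s • (∞ : OnePoint K) = ((φ t : K) : OnePoint K) := by
        show pslHom φ _ • _ = _
        rw [QuotientGroup.mk_mul, map_mul, mul_smul, pslHom_low_smul_infty, pslHom_up, aff_smul_coe]
        simp
      exact ⟨s⁻¹, inv_mem ⟨_, rfl⟩, inv_smul_eq_iff.2 hs.symm⟩
  obtain ⟨t, ht⟩ : ∃ t : L, s • OnePoint.map φ z = ((φ t : K) : OnePoint K) := by
    obtain ⟨y, rfl⟩ := hs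
    rw [MonoidHom.comp_apply, mapHom_smul] at hsw ⊢
    have hw' : Matrix.ProjectiveSpecialLinearGroup.toPGL y • w = (∞ : OnePoint L) :=
      Option.map_injective φ.injective hsw
    rcases hz : Matrix.ProjectiveSpecialLinearGroup.toPGL y • z with _ | t
    · exact absurd (MulAction.injective _ (hw'.trans hz.symm)) hwz
    · exact ⟨t, rfl⟩
  refine ⟨pslHom φ (QuotientGroup.mk (CfsgLib.SL2Pair.up (-t))) * s, mul_mem ⟨_, rfl⟩ hs, ?_, ?_⟩
  · rw [mul_smul, hsw, pslHom_up, aff_smul_infty]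
  · rw [mul_smul, ht, pslHom_up, aff_smul_coe]
    simp

omit [DecidableEq L] in
theorem of_aff_mem {S : Subfield K} {x : K} (h : aff (1 : Kˣ) x ∈ pglImage S.subtype) : x ∈ S := by
  classical
  obtain ⟨y, hy⟩ := h
  have := mapHom_smul S.subtype y ((0 : S) : OnePoint S)
  rw [hy, OnePoint.map_some, map_zero, aff_smul_coe] at this
  rcases hz : y • ((0 : S) : OnePoint S) with _ | t
  · rw [hz] at this; exact absurd this (coe_ne_infty _)
  · rw [hz] at this
    have e : x = (t : K) := by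
      have := coe_injective (this.trans (OnePoint.map_some (f := S.subtype) t))
      simpa using this
    rw [e]; exact t.2

omit [DecidableEq L] in
theorem of_lowT_mem {S : Subfield K} {y : K} (h : lowT y ∈ pglImage S.subtype) : y ∈ S := by
  classical
  rcases eq_or_ne y 0 with rfl | hy
  · exact zero_mem S
  obtain ⟨g, hg⟩ := h
  have := mapHom_smul S.subtype g (∞ : OnePoint S)
  rw [hg, OnePoint.map_infty, lowT_smul_infty hy] at this
  rcases hz : g • (∞ : OnePoint S) with _ | t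
  · rw [hz] at this; exact absurd this (coe_ne_infty _)
  · rw [hz] at this
    have e : y⁻¹ = (t : K) := coe_injective (this.trans (OnePoint.map_some (f := S.subtype) t))
    rw [← inv_inv y, e]; exact inv_mem t.2

end Image

/-- A root group injected into a finite group has order dividing the order of that group. -/
theorem card_dvd {G : Type*} [Group G] (j : Multiplicative F →* G) (hj : Function.Injective j)
    {S : AddSubgroup F} {T : Subgroup G} (h : ∀ a ∈ S, j (Multiplicative.ofAdd a) ∈ T) :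
    Nat.card S ∣ Nat.card T := by
  have hle : (AddSubgroup.toSubgroup S).map j ≤ T := by
    rintro _ ⟨a, ha, rfl⟩
    exact h (Multiplicative.toAdd a) ha
  have := Subgroup.card_dvd_of_le hle
  rwa [Subgroup.card_map_of_injective hj] at this

/-- An elementary abelian group of exponent `p` inside a group whose order `p` divides exactly once. -/
theorem card_eq_prime [Finite F] (p : ℕ) [Fact p.Prime] [CharP F p] {S : AddSubgroup F} {s : F} (hs : s ∈ S)
    (hs0 : s ≠ 0) {N : ℕ} (h : Nat.card S ∣ N) : p ∣ N ∧ (¬ p * p ∣ N → Nat.card S = p) := by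
  have hp : p.Prime := Fact.out
  obtain ⟨n, -, hn⟩ : ∃ n : ℕ+, p.Prime ∧ Nat.card F = p ^ (n : ℕ) := by
    let _ := Fintype.ofFinite F
    rw [Nat.card_eq_fintype_card]; exact FiniteField.card F p
  obtain ⟨i, -, hi⟩ := (Nat.dvd_prime_pow hp).1 (hn ▸ AddSubgroup.card_addSubgroup_dvd_card S)
  have h1 : Nat.card S ≠ 1 := fun e =>
    hs0 ((AddSubgroup.eq_bot_iff_forall S).1 (AddSubgroup.card_eq_one.1 e) s hs)
  have hi0 : i ≠ 0 := fun e => h1 (by rw [hi, e, pow_zero])
  refine ⟨(dvd_pow_self p hi0).trans (hi ▸ h), fun hN => ?_⟩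
  rw [hi]
  by_contra hne
  have h2 : 2 ≤ i := by
    rcases i with _ | _ | i
    · exact absurd rfl hi0
    · exact absurd (pow_one p) hne
    · omega
  exact hN (((pow_two p).symm ▸ pow_dvd_pow p h2).trans (hi ▸ h))

/-- **Two opposite root groups in SL₂.** -/
theorem sl2_core [Finite F] (p : ℕ) [Fact p.Prime] [CharP F p] {H : Subgroup (S2 F)}
    (h1 : (1 : F) ∈ lowRoot H) {a₀ : F} (ha₀ : a₀ ∈ upRoot H) (ha₀0 : a₀ ≠ 0) :
    (∃ L : Subfield F, (upRoot H : Set F) = L ∧ (lowRoot H : Set F) = L) ∨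
      ((p = 2 ∨ p = 3) ∧ Nat.card (upRoot H) = p ∧ Nat.card (lowRoot H) = p) := by
  classical
  have hp : p.Prime := Fact.out
  let K := AlgebraicClosure F
  let φ : F →+* K := algebraMap F K
  have : CharP K p := (φ.charP_iff φ.injective p).1 inferInstance
  let Ψ : S2 F →* PGL2 K := (pslHom φ).comp (proj (F := F))
  let H' : Subgroup (PGL2 K) := H.map Ψ
  have hsurj : Function.Surjective (Ψ.subgroupMap H) := Ψ.subgroupMap_surjective H
  have : Finite H' := Finite.of_surjective _ hsurj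
  have hΨu : ∀ a, Ψ (CfsgLib.SL2Pair.up a) = aff (1 : Kˣ) (φ a) := fun a => pslHom_up' φ a
  have hΨl : ∀ b, Ψ (CfsgLib.SL2Pair.low b) = lowT (φ b) := fun b => pslHom_low φ b
  have hu' : ∀ a ∈ upRoot H, aff (1 : Kˣ) (φ a) ∈ H' := fun a ha => ⟨_, ha, hΨu a⟩
  have hl' : ∀ b ∈ lowRoot H, lowT (φ b) ∈ H' := fun b hb => ⟨_, hb, hΨl b⟩
  have hcu : Nat.card (upRoot H) ∣ Nat.card H' := by
    refine card_dvd (Ψ.comp (MonoidHom.mk' (fun a => CfsgLib.SL2Pair.up (Multiplicative.toAdd a))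
      (fun a b => (CfsgLib.SL2Pair.up_mul _ _).symm))) ?_ (fun a ha => ⟨_, ha, rfl⟩)
    intro a b hab
    have hab' : aff (1 : Kˣ) (φ (Multiplicative.toAdd a)) = aff (1 : Kˣ) (φ (Multiplicative.toAdd b)) := by
      rw [← hΨu, ← hΨu]; exact hab
    exact Multiplicative.toAdd.injective (φ.injective (aff_inj hab').2)
  have hcl : Nat.card (lowRoot H) ∣ Nat.card H' := by
    let j : Multiplicative F →* PGL2 K :=
      Ψ.comp (MonoidHom.mk' (fun a => CfsgLib.SL2Pair.low (Multiplicative.toAdd a))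
        (fun a b => (CfsgLib.SL2Pair.low_mul _ _).symm))
    refine card_dvd j ?_ (fun a ha => ⟨_, ha, rfl⟩)
    rw [injective_iff_map_eq_one]
    intro a ha
    by_contra hne
    have hy : φ (Multiplicative.toAdd a) ≠ 0 := (map_ne_zero φ).2 (fun e => hne e)
    have e : lowT (φ (Multiplicative.toAdd a)) • (∞ : OnePoint K) = ∞ := by
      rw [← hΨl, show Ψ (CfsgLib.SL2Pair.low (Multiplicative.toAdd a)) = 1 from ha, one_smul]
    rw [lowT_smul_infty hy] at e
    exact coe_ne_infty _ e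
  have hfa : fix (aff (1 : Kˣ) (φ a₀)) = {∞} := fix_aff_one ((map_ne_zero φ).2 ha₀0)
  have hfl : fix (lowT (φ 1)) = {((0 : K) : OnePoint K)} := fix_lowT (by simp)
  obtain ⟨hpdvd, hAp⟩ := card_eq_prime p ha₀ ha₀0 hcu
  obtain ⟨-, hBp⟩ := card_eq_prime p h1 one_ne_zero hcl
  rcases classification p H' with ⟨x, hx⟩ | ⟨n, -, hpn, hN, -⟩ | ⟨h5, hN, -⟩ | ⟨h5, hN, -⟩ |
    ⟨hp2, hp5, hN, -⟩ | ⟨f, hf, g, hg⟩
  · exfalso
    have e1 : x ∈ fix (aff (1 : Kˣ) (φ a₀)) := hx _ (hu' a₀ ha₀)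
    have e2 : x ∈ fix (lowT (φ 1)) := hx _ (hl' 1 h1)
    rw [hfa, Set.mem_singleton_iff] at e1
    rw [hfl, Set.mem_singleton_iff, e1] at e2
    exact infty_ne_coe _ e2
  · right
    rw [hN] at hpdvd hAp hBp
    obtain rfl : p = 2 := (Nat.prime_dvd_prime_iff_eq hp Nat.prime_two).1
      ((hp.dvd_mul.1 hpdvd).resolve_right hpn)
    have h4 : ¬ 2 * 2 ∣ 2 * n := fun h => hpn ((Nat.mul_dvd_mul_iff_left two_pos).1 h)
    exact ⟨Or.inl rfl, hAp h4, hBp h4⟩
  · exfalso
    rw [hN] at hpdvd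
    rcases hp.dvd_mul.1 (show p ∣ 4 * 3 by norm_num; exact hpdvd) with h | h <;>
      have := Nat.le_of_dvd (by norm_num) h <;> omega
  · exfalso
    rw [hN] at hpdvd
    rcases hp.dvd_mul.1 (show p ∣ 8 * 3 by norm_num; exact hpdvd) with h | h
    · have := (Nat.prime_dvd_prime_iff_eq hp Nat.prime_two).1
        (hp.dvd_of_dvd_pow (show p ∣ 2 ^ 3 by norm_num; exact h))
      omega
    · have := (Nat.prime_dvd_prime_iff_eq hp Nat.prime_three).1 h
      omega
  · right
    rw [hN] at hpdvd hAp hBp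
    obtain rfl : p = 3 := by
      rcases hp.dvd_mul.1 (show p ∣ 4 * 15 by norm_num; exact hpdvd) with h | h
      · exact absurd ((Nat.prime_dvd_prime_iff_eq hp Nat.prime_two).1
          (hp.dvd_of_dvd_pow (show p ∣ 2 ^ 2 by norm_num; exact h))) hp2
      · rcases hp.dvd_mul.1 (show p ∣ 3 * 5 by norm_num; exact h) with h | h
        · exact (Nat.prime_dvd_prime_iff_eq hp Nat.prime_three).1 h
        · exact absurd ((Nat.prime_dvd_prime_iff_eq hp Nat.prime_five).1 h) hp5
    exact ⟨Or.inr rfl, hAp (by norm_num), hBp (by norm_num)⟩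
  · left
    set L := frobFix (K := K) p f
    have := finite_frobFix (K := K) p hf
    have : CharP L p := (L.subtype.charP_iff Subtype.val_injective p).2 inferInstance
    have hpp : pslImage L.subtype ≤ pglImage L.subtype := by rintro _ ⟨y, rfl⟩; exact ⟨_, rfl⟩
    have hin : conjH g H' ≤ pglImage L.subtype ∧ pslImage L.subtype ≤ conjH g H' := by
      rcases hg with hg | ⟨-, hg⟩
      · exact ⟨hg.le, hpp.trans hg.ge⟩
      · exact ⟨hg.le.trans hpp, hg.ge⟩
    have hrat : ∀ {u : PGL2 K} {x : OnePoint K}, u ∈ H' → u ^ p = 1 → fix u = {x} →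
        ∃ w : OnePoint L, g • x = OnePoint.map L.subtype w := fun {u x} hu hup hfix =>
      rational_fix p L.subtype (hin.1 (mem_conjH hu)) (by rw [conj_pow, hup, mul_one, mul_inv_cancel])
        (by rw [fix_conj, hfix, Set.image_singleton])
    obtain ⟨w, hw⟩ := hrat (hu' a₀ ha₀) (by rw [aff_one_pow, CharP.cast_eq_zero, zero_mul, aff_one_zero]) hfa
    obtain ⟨z, hz⟩ := hrat (hl' 1 h1) (by
      rw [← hΨl, ← map_pow, low_pow, CharP.cast_eq_zero, zero_mul, CfsgLib.SL2Pair.low_zero, map_one]) hfl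
    obtain ⟨s, hs, hsw, hsz⟩ := exists_psl_pair L.subtype (w := w) (z := z) (fun e => by
      rw [← e] at hz
      exact infty_ne_coe (0 : K) (MulAction.injective g (hw.trans hz.symm)))
    obtain ⟨c, hc⟩ := eq_dil_of_fix (g := s * g) (by rw [mul_smul, hw, hsw]) (by rw [mul_smul, hz, hsz])
    have hfwd : ∀ x ∈ H', aff c 0 * x * (aff c 0)⁻¹ ∈ pglImage L.subtype := fun x hx => by
      rw [← hc, show s * g * x * (s * g)⁻¹ = s * (g * x * g⁻¹) * s⁻¹ by group]
      exact mul_mem (mul_mem (hpp hs) (hin.1 (mem_conjH hx))) (inv_mem (hpp hs))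
    have hbwd : ∀ x, aff c 0 * x * (aff c 0)⁻¹ ∈ pslImage L.subtype → x ∈ H' := fun x hx => by
      rw [← hc, show s * g * x * (s * g)⁻¹ = s * (g * x * g⁻¹) * s⁻¹ by group] at hx
      have := hin.2 (mul_mem (mul_mem (inv_mem hs) hx) hs)
      obtain ⟨y, hy, hye⟩ := this
      have : y = x := by
        simp only [MulEquiv.coe_toMonoidHom, MulAut.conj_apply] at hye
        rw [show s⁻¹ * (s * (g * x * g⁻¹) * s⁻¹) * s = g * x * g⁻¹ by group] at hye
        simpa using hye
      exact this ▸ hy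
    have hcu' : ∀ a ∈ upRoot H, (c : K) * φ a ∈ L := fun a ha => of_aff_mem (by
      rw [← dil_conj_aff]; exact hfwd _ (hu' a ha))
    have hcl' : ∀ b ∈ lowRoot H, φ b / (c : K) ∈ L := fun b hb => of_lowT_mem (by
      rw [← dil_conj_lowT]; exact hfwd _ (hl' b hb))
    have hcL : (c : K) ∈ L := by
      have := hcl' 1 h1
      rw [map_one, one_div] at this
      exact inv_mem_iff.1 this
    have hback : ∀ {u : S2 F}, u ^ (p + 1) = u → Ψ u ∈ H' → u ∈ H := fun {u} hu ⟨h, hh, e⟩ =>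
      mem_of_proj_eq p hh hu (pslHom_injective φ e)
    refine ⟨L.comap φ, Set.ext fun a => ⟨fun ha => ?_, fun ha => ?_⟩,
      Set.ext fun b => ⟨fun hb => ?_, fun hb => ?_⟩⟩
    · have := div_mem (hcu' a ha) hcL
      rwa [mul_div_assoc, mul_div_cancel₀ _ c.ne_zero] at this
    · refine hback (by rw [up_pow, Nat.cast_add, CharP.cast_eq_zero, Nat.cast_one, zero_add, one_mul]) ?_
      refine hbwd _ ?_
      rw [hΨu, dil_conj_aff]
      exact ⟨QuotientGroup.mk (CfsgLib.SL2Pair.up (⟨_, mul_mem hcL ha⟩ : L)), pslHom_up L.subtype _⟩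
    · have := mul_mem (hcl' b hb) hcL
      rwa [div_mul_cancel₀ _ c.ne_zero] at this
    · refine hback (by rw [low_pow, Nat.cast_add, CharP.cast_eq_zero, Nat.cast_one, zero_add, one_mul]) ?_
      refine hbwd _ ?_
      rw [hΨl, dil_conj_lowT]
      exact ⟨QuotientGroup.mk (CfsgLib.SL2Pair.low (⟨_, div_mem hb hcL⟩ : L)), pslHom_low L.subtype _⟩

end CfsgLib.Geo.D3.SL2Core
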