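/-
Two opposite root groups of a subgroup of GL₃.
-/
import Cfsg.Agent.Geo.DimThree.Basic
import Cfsg.Agent.Geo.DimThree.SLTwoCore

set_option autoImplicit false

namespace CfsgLib.Geo.D3

open Matrix Cfsg Cfsg.Geo CfsgLib.Geo

variable {F : Type*} [Field F] {M : Subgroup (GL (Fin 3) F)} {v φ w ψ : Fin 3 → F}

lemma root_smul {c : F} (hc : c ≠ 0) (v φ : Fin 3 → F) : root M (c • v) (c⁻¹ • φ) = root M v φ := by
  ext s
  rw [mem_root, mem_root, smul_comm s c v, hasTv_smul_iff c hc, smul_smul, mul_inv_cancel₀ hc, one_smul]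

/-- The frame of the secant of two centres. -/
def secP (v w : Fin 3 → F) : Matrix (Fin 3) (Fin 2) F := (Matrix.of ![v, w])ᵀ

/-- The coordinates on the secant. -/
def secQ (φ ψ : Fin 3 → F) (a : F) : Matrix (Fin 2) (Fin 3) F := Matrix.of ![ψ, a⁻¹ • φ]

lemma secP_mulVec (v w : Fin 3 → F) (c : Fin 2 → F) : secP v w *ᵥ c = c 0 • v + c 1 • w := by
  ext i
  simp [secP, Matrix.mulVec, dotProduct, Fin.sum_univ_two, mul_comm]

lemma secQ_mulVec (φ ψ : Fin 3 → F) (a : F) (y : Fin 3 → F) :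
    secQ φ ψ a *ᵥ y = ![ψ ⬝ᵥ y, a⁻¹ * (φ ⬝ᵥ y)] := by
  ext i
  fin_cases i
  · simp [secQ, Matrix.mulVec]
  · show (a⁻¹ • φ) ⬝ᵥ y = a⁻¹ * (φ ⬝ᵥ y)
    rw [smul_dotProduct, smul_eq_mul]

lemma secQ_mul_secP (h1 : φ ⬝ᵥ v = 0) (h2 : ψ ⬝ᵥ w = 0) (h3 : ψ ⬝ᵥ v = 1) (ha : φ ⬝ᵥ w ≠ 0) :
    secQ φ ψ (φ ⬝ᵥ w) * secP v w = 1 := by
  refine Matrix.ext_iff_mulVec.2 fun c => ?_
  rw [← Matrix.mulVec_mulVec, secP_mulVec, secQ_mulVec, one_mulVec]
  ext i
  fin_cases i <;> simp [dotProduct_add, dotProduct_smul, h1, h2, h3]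
  field_simp

/-- The action of `SL₂` on the secant, extended trivially. -/
noncomputable def secHom (P : Matrix (Fin 3) (Fin 2) F) (Q : Matrix (Fin 2) (Fin 3) F) (h : Q * P = 1) :
    SL2Core.S2 F →* GL (Fin 3) F :=
  MonoidHom.toHomUnits
    { toFun := fun A => 1 + P * ((A : Matrix (Fin 2) (Fin 2) F) - 1) * Q
      map_one' := by simp
      map_mul' := fun A B => by
        have key : ∀ X Y : Matrix (Fin 2) (Fin 2) F,
            (P * X * Q) * (P * Y * Q) = P * (X * Y) * Q := fun X Y => by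
          rw [Matrix.mul_assoc (P * X) Q, ← Matrix.mul_assoc Q, ← Matrix.mul_assoc Q, h, Matrix.one_mul,
            ← Matrix.mul_assoc, Matrix.mul_assoc P X Y]
        rw [Matrix.SpecialLinearGroup.coe_mul, Matrix.mul_add, Matrix.add_mul, Matrix.one_mul,
          Matrix.mul_one, Matrix.add_mul, Matrix.one_mul, key]
        rw [show ((A : Matrix (Fin 2) (Fin 2) F) * B - 1) = ((A : Matrix (Fin 2) (Fin 2) F) - 1) +
          (((B : Matrix (Fin 2) (Fin 2) F) - 1) + ((A : Matrix (Fin 2) (Fin 2) F) - 1) * ((B : Matrix (Fin 2) (Fin 2) F) - 1)) by noncomm_ring]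
        rw [Matrix.mul_add, Matrix.mul_add, Matrix.add_mul, Matrix.add_mul]
        abel }

lemma secHom_val (P : Matrix (Fin 3) (Fin 2) F) (Q : Matrix (Fin 2) (Fin 3) F) (h : Q * P = 1)
    (A : SL2Core.S2 F) :
    ((secHom P Q h A : GL (Fin 3) F) : Matrix (Fin 3) (Fin 3) F) = 1 + P * ((A : Matrix (Fin 2) (Fin 2) F) - 1) * Q :=
  rfl

section Pair

variable (h1 : φ ⬝ᵥ v = 0) (h2 : ψ ⬝ᵥ w = 0) (h3 : ψ ⬝ᵥ v = 1) (ha : φ ⬝ᵥ w ≠ 0)

lemma secHom_up (x : F) :
    secHom _ _ (secQ_mul_secP h1 h2 h3 ha) (CfsgLib.SL2Pair.up x) =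
      tvec ((x / (φ ⬝ᵥ w)) • v) φ (by rw [dotProduct_smul, h1, smul_zero]) := by
  refine gl_ext_mulVec fun y => ?_
  rw [secHom_val, tvec_mulVec, add_mulVec, one_mulVec, ← Matrix.mulVec_mulVec, ← Matrix.mulVec_mulVec,
    secQ_mulVec, secP_mulVec]
  simp [CfsgLib.SL2Pair.up_coe, Matrix.mulVec, dotProduct, Fin.sum_univ_two, Matrix.sub_apply, smul_smul]
  ring_nf

lemma secHom_low (x : F) :
    secHom _ _ (secQ_mul_secP h1 h2 h3 ha) (CfsgLib.SL2Pair.low x) =
      tvec (x • w) ψ (by rw [dotProduct_smul, h2, smul_zero]) := by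
  refine gl_ext_mulVec fun y => ?_
  rw [secHom_val, tvec_mulVec, add_mulVec, one_mulVec, ← Matrix.mulVec_mulVec, ← Matrix.mulVec_mulVec,
    secQ_mulVec, secP_mulVec]
  simp [CfsgLib.SL2Pair.low_coe, Matrix.mulVec, dotProduct, Fin.sum_univ_two, Matrix.sub_apply, smul_smul]
  ring_nf

lemma mem_upRoot_secHom (x : F) :
    x ∈ SL2Core.upRoot (M.comap (secHom _ _ (secQ_mul_secP h1 h2 h3 ha))) ↔ x / (φ ⬝ᵥ w) ∈ root M v φ := by
  rw [SL2Core.mem_upRoot, Subgroup.mem_comap, secHom_up h1 h2 h3 ha, mem_root]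
  exact ⟨fun h => ⟨_, h⟩, fun h => h.2⟩

lemma mem_lowRoot_secHom (x : F) :
    x ∈ SL2Core.lowRoot (M.comap (secHom _ _ (secQ_mul_secP h1 h2 h3 ha))) ↔ x ∈ root M w ψ := by
  rw [SL2Core.mem_lowRoot, Subgroup.mem_comap, secHom_low h1 h2 h3 ha, mem_root]
  exact ⟨fun h => ⟨_, h⟩, fun h => h.2⟩

end Pair

/-- An additive subgroup of prime order `p = char F` containing `1` is the prime field. -/
lemma eq_primeField [Finite F] (p : ℕ) [Fact p.Prime] [CharP F p] {S : AddSubgroup F} (h1 : (1 : F) ∈ S)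
    (hc : Nat.card S = p) : (S : Set F) = ((ZMod.castHom (dvd_refl p) F).fieldRange : Set F) := by
  have hcK : Nat.card (ZMod.castHom (dvd_refl p) F).fieldRange = p := by
    have e := Nat.card_congr (Equiv.ofInjective _ (ZMod.castHom (dvd_refl p) F).injective)
    rw [Nat.card_zmod] at e
    exact e.symm
  refine (Set.eq_of_subset_of_ncard_le ?_ ?_ (Set.toFinite _)).symm
  · rintro _ ⟨z, rfl⟩
    obtain ⟨n, rfl⟩ := ZMod.natCast_zmod_surjective z
    rw [map_natCast, ← nsmul_one]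
    exact S.nsmul_mem h1 n
  · rw [← Nat.card_coe_set_eq, ← Nat.card_coe_set_eq]
    exact (hc.trans hcK.symm).le

/-- **Two opposite root groups.** -/
theorem root_pair [Finite F] (ht : IsT M v φ) (hx : IsT M w ψ) (ha : aval v φ w ψ ≠ 0) :
    ∃ K : Subfield F, (root M v φ : Set F) = K ∧ (root M w ψ : Set F) = K ∧
      (aval v φ w ψ ∈ K ∨ ((ringChar F = 2 ∨ ringChar F = 3) ∧ Nat.card K = ringChar F)) := by
  have hβ : ψ ⬝ᵥ v ≠ 0 := right_ne_zero_of_mul ha
  set β := ψ ⬝ᵥ v with hβdef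
  have ht' := ht.smul (inv_ne_zero hβ)
  set a := aval v φ w ψ with hadef
  rw [inv_inv] at ht'
  have h3 : ψ ⬝ᵥ (β⁻¹ • v) = 1 := by rw [dotProduct_smul, smul_eq_mul, inv_mul_cancel₀ hβ]
  have e : (β • φ) ⬝ᵥ w = a := by
    rw [hadef, aval, ← hβdef, smul_dotProduct, smul_eq_mul, mul_comm]
  have hroot : root M (β⁻¹ • v) (β • φ) = root M v φ := by
    simpa using root_smul (M := M) (inv_ne_zero hβ) v φ
  have ha' : (β • φ) ⬝ᵥ w ≠ 0 := by rwa [e]
  obtain ⟨p, hchar⟩ := CharP.exists F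
  have := Fact.mk (CharP.char_is_prime F p)
  have hrc : ringChar F = p := ringChar.eq F p
  set H := M.comap (secHom _ _ (secQ_mul_secP ht'.dot hx.dot h3 ha')) with hH
  have hup : ∀ x, x ∈ SL2Core.upRoot H ↔ x / a ∈ root M v φ := fun x => by
    rw [hH, mem_upRoot_secHom ht'.dot hx.dot h3 ha', e, hroot]
  have hlow : ∀ x, x ∈ SL2Core.lowRoot H ↔ x ∈ root M w ψ := fun x =>
    mem_lowRoot_secHom ht'.dot hx.dot h3 ha' x
  have haA : a ∈ SL2Core.upRoot H := (hup a).2 (by rw [div_self ha]; exact mem_root_one ht)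
  rcases SL2Core.sl2_core p ((hlow 1).2 (mem_root_one hx)) haA ha with ⟨L, hA, hB⟩ | ⟨hp, hcA, hcB⟩
  · have haL : a ∈ L := (Set.ext_iff.1 hA a).1 haA
    refine ⟨L, Set.ext fun y => ?_, Set.ext fun y => (hlow y).symm.trans (Set.ext_iff.1 hB y), Or.inl haL⟩
    have := (hup (y * a)).symm.trans (Set.ext_iff.1 hA (y * a))
    rw [mul_div_assoc, div_self ha, mul_one] at this
    exact this.trans ⟨fun h => by
      have := div_mem h haL
      rwa [mul_div_assoc, div_self ha, mul_one] at this, fun h => mul_mem h haL⟩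
  · have hcv : Nat.card (root M v φ) = p := by
      refine Eq.trans ?_ hcA
      refine Nat.card_congr ((Equiv.mulRight₀ a ha).subtypeEquiv fun y => ?_)
      show y ∈ root M v φ ↔ y * a ∈ SL2Core.upRoot H
      rw [hup, mul_div_assoc, div_self ha, mul_one]
    have hcw : Nat.card (root M w ψ) = p := by
      rw [← hcB]
      exact Nat.card_congr (Equiv.subtypeEquivRight fun y => (hlow y).symm)
    refine ⟨(ZMod.castHom (dvd_refl p) F).fieldRange, eq_primeField p (mem_root_one ht) hcv,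
      eq_primeField p (mem_root_one hx) hcw, Or.inr ?_⟩
    rw [hrc]
    refine ⟨hp, ?_⟩
    have e := Nat.card_congr (Equiv.ofInjective _ (ZMod.castHom (dvd_refl p) F).injective)
    rw [Nat.card_zmod] at e
    exact e.symm

/-- The elements of `SL₂` induced on the secant by elements of `M` trivial on the quotient by it. -/
noncomputable def secGroup (M : Subgroup (GL (Fin 3) F)) (P : Matrix (Fin 3) (Fin 2) F) (Q : Matrix (Fin 2) (Fin 3) F) :
    Subgroup (SL2Core.S2 F) where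
  carrier := {A | ∃ g ∈ M, (g : Matrix (Fin 3) (Fin 3) F) * P = P * (A : Matrix (Fin 2) (Fin 2) F) ∧
    (1 - P * Q) * (g : Matrix (Fin 3) (Fin 3) F) = 1 - P * Q}
  one_mem' := ⟨1, M.one_mem, by simp, by simp⟩
  mul_mem' := by
    rintro A B ⟨g, hg, hgP, hgE⟩ ⟨k, hk, hkP, hkE⟩
    refine ⟨g * k, M.mul_mem hg hk, ?_, ?_⟩
    · rw [Units.val_mul, Matrix.mul_assoc, hkP, ← Matrix.mul_assoc, hgP, Matrix.mul_assoc,
        Matrix.SpecialLinearGroup.coe_mul]
    · rw [Units.val_mul, ← Matrix.mul_assoc, hgE, hkE]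
  inv_mem' := by
    rintro A ⟨g, hg, hgP, hgE⟩
    refine ⟨g⁻¹, M.inv_mem hg, ?_, ?_⟩
    · have e : P = (g : Matrix (Fin 3) (Fin 3) F) * P * ((A⁻¹ : SL2Core.S2 F) : Matrix (Fin 2) (Fin 2) F) := by
        rw [hgP, Matrix.mul_assoc, ← Matrix.SpecialLinearGroup.coe_mul, mul_inv_cancel,
          Matrix.SpecialLinearGroup.coe_one, Matrix.mul_one]
      conv_lhs => rw [e]
      rw [← Matrix.mul_assoc, ← Matrix.mul_assoc, ← Units.val_mul, inv_mul_cancel, Units.val_one, Matrix.one_mul]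
    · conv_lhs => rw [← hgE]
      rw [Matrix.mul_assoc, ← Units.val_mul, mul_inv_cancel, Units.val_one, Matrix.mul_one]

/-- **Four transvections at one centre.** In characteristic two, if a centre carries exactly three axes and
two of them differ at an opposite centre, the values lie in the field with four elements. -/
theorem four_root [Finite F] [CharP F 2] {φ2 : Fin 3 → F} (ht : IsT M v φ) (ht2 : IsT M v φ2)
    (hx : IsT M w ψ) (hψ : ψ ⬝ᵥ v = 1) (h1 : φ ⬝ᵥ w ≠ 0) (h2 : φ2 ⬝ᵥ w ≠ 0) (h12 : φ ⬝ᵥ w ≠ φ2 ⬝ᵥ w)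
    (honly : ∀ θ, HasTv M v θ → θ = 0 ∨ θ = φ ∨ θ = φ2 ∨ θ = φ + φ2) :
    (φ ⬝ᵥ w) ^ 3 = 1 ∧ (φ2 ⬝ᵥ w) ^ 3 = 1 := by
  classical
  have := Fact.mk Nat.prime_two
  set a := φ ⬝ᵥ w with ha
  set b := φ2 ⬝ᵥ w with hb
  have hQP := secQ_mul_secP ht.dot hx.dot hψ h1
  set P := secP v w with hP
  set Q := secQ φ ψ a with hQ
  set H := secGroup M P Q
  have hEP : (1 - P * Q) * P = 0 := by
    rw [Matrix.sub_mul, Matrix.one_mul, Matrix.mul_assoc, hQP, Matrix.mul_one, sub_self]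
  have hEv : ∀ c : Fin 2 → F, (1 - P * Q) *ᵥ (c 0 • v + c 1 • w) = 0 := fun c => by
    rw [← secP_mulVec, Matrix.mulVec_mulVec, hEP, Matrix.zero_mulVec]
  have hab0 : a + b ≠ 0 := fun e => h12 (CharTwo.add_eq_zero.1 e)
  have hlow : (1 : F) ∈ SL2Core.lowRoot H := by
    refine ⟨tvec w ψ hx.dot, hx.mem.2, Matrix.ext_iff_mulVec.2 fun c => ?_, ?_⟩
    · rw [← Matrix.mulVec_mulVec, ← Matrix.mulVec_mulVec, hP, secP_mulVec, secP_mulVec, tvec_mulVec]
      simp [CfsgLib.SL2Pair.low_coe, Matrix.mulVec, vecHead, vecTail, dotProduct_add, dotProduct_smul, hψ, hx.dot, add_smul]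
      abel
    · have e := hEv ![0, 1]
      simp at e
      rw [tvec_val, Matrix.mul_add, Matrix.mul_one, Matrix.mul_vecMulVec, e, Matrix.zero_vecMulVec, add_zero]
  have hupθ : ∀ θ, HasTv M v θ → θ ⬝ᵥ w ∈ SL2Core.upRoot H := fun θ hθ => by
    refine ⟨tvec v θ hθ.1, hθ.2, Matrix.ext_iff_mulVec.2 fun c => ?_, ?_⟩
    · rw [← Matrix.mulVec_mulVec, ← Matrix.mulVec_mulVec, hP, secP_mulVec, secP_mulVec, tvec_mulVec]
      simp [CfsgLib.SL2Pair.up_coe, Matrix.mulVec, vecHead, vecTail, dotProduct_add, dotProduct_smul, hθ.1, add_smul, mul_comm]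
      abel
    · have e := hEv ![1, 0]
      simp at e
      rw [tvec_val, Matrix.mul_add, Matrix.mul_one, Matrix.mul_vecMulVec, e, Matrix.zero_vecMulVec, add_zero]
  have haA := hupθ φ ht.mem
  have hbA := hupθ φ2 ht2.mem
  have hbnot : (0 : F) ∉ ({a, b, a + b} : Set F) := by simp [Ne.symm h1, Ne.symm h2, Ne.symm hab0]
  rcases SL2Core.sl2_core 2 hlow haA h1 with ⟨L, hA, hB⟩ | ⟨-, hcA, -⟩
  swap
  · exfalso
    have hsub : ({0, a, b} : Set F) ⊆ SL2Core.upRoot H := by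
      rintro y (rfl | rfl | rfl)
      exacts [zero_mem _, haA, hbA]
    have h3 : ({0, a, b} : Set F).ncard = 3 :=
      Set.ncard_eq_three.2 ⟨0, a, b, Ne.symm h1, Ne.symm h2, h12, rfl⟩
    have := Set.ncard_le_ncard hsub (Set.toFinite _)
    rw [h3, ← Nat.card_coe_set_eq] at this
    exact absurd (hcA ▸ this : 3 ≤ 2) (by norm_num)
  have hsub : (L : Set F) ⊆ {0, a, b, a + b} := by
    intro x hxL
    rcases eq_or_ne x 0 with rfl | hx0
    · exact Or.inl rfl
    obtain ⟨g, hg, hgP, hgE⟩ : CfsgLib.SL2Pair.up x ∈ H := (Set.ext_iff.1 hA x).2 hxL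
    have hgv : (g : Matrix (Fin 3) (Fin 3) F) *ᵥ v = v := by
      have e := congrArg (fun X => X *ᵥ ![(1 : F), 0]) hgP
      simp only [← Matrix.mulVec_mulVec, hP, secP_mulVec] at e
      simpa [CfsgLib.SL2Pair.up_coe] using e
    have hgw : (g : Matrix (Fin 3) (Fin 3) F) *ᵥ w = w + x • v := by
      have e := congrArg (fun X => X *ᵥ ![(0 : F), 1]) hgP
      simp only [← Matrix.mulVec_mulVec, hP, secP_mulVec] at e
      simpa [CfsgLib.SL2Pair.up_coe, add_comm] using e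
    set N := (g : Matrix (Fin 3) (Fin 3) F) - 1 with hN
    set μ := ψ ᵥ* N with hμ
    set ν := a⁻¹ • (φ ᵥ* N) with hν
    have hNy : ∀ y, N *ᵥ y = (g : Matrix (Fin 3) (Fin 3) F) *ᵥ y - y := fun y => by
      rw [hN, sub_mulVec, one_mulVec]
    have hgy : ∀ y, (g : Matrix (Fin 3) (Fin 3) F) *ᵥ y = y + (μ ⬝ᵥ y) • v + (ν ⬝ᵥ y) • w := by
      intro y
      have e := congrArg (fun X => X *ᵥ y) hgE
      simp only [← Matrix.mulVec_mulVec] at e
      rw [← sub_eq_zero, ← Matrix.mulVec_sub, ← hNy, sub_mulVec, one_mulVec, ← Matrix.mulVec_mulVec, hQ,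
        secQ_mulVec, hP, secP_mulVec, sub_eq_zero] at e
      rw [hμ, hν, smul_dotProduct, smul_eq_mul, ← dotProduct_mulVec, ← dotProduct_mulVec, add_assoc]
      simp only [Matrix.cons_val_zero, Matrix.cons_val_one] at e
      rw [← e, hNy]
      abel
    have hμv : μ ⬝ᵥ v = 0 := by rw [hμ, ← dotProduct_mulVec, hNy, hgv, sub_self, dotProduct_zero]
    have hμw : μ ⬝ᵥ w = x := by
      rw [hμ, ← dotProduct_mulVec, hNy, hgw, add_sub_cancel_left, dotProduct_smul, hψ, smul_eq_mul, mul_one]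
    have hνv : ν ⬝ᵥ v = 0 := by
      rw [hν, smul_dotProduct, ← dotProduct_mulVec, hNy, hgv, sub_self, dotProduct_zero, smul_zero]
    have hνw : ν ⬝ᵥ w = 0 := by
      rw [hν, smul_dotProduct, ← dotProduct_mulVec, hNy, hgw, add_sub_cancel_left, dotProduct_smul, ht.dot,
        smul_zero, smul_zero]
    have hd : (x • ν) ⬝ᵥ v = 0 := by rw [smul_dotProduct, hνv, smul_zero]
    have hsq : HasTv M v (x • ν) := by
      refine ⟨hd, ?_⟩
      have e : tvec v (x • ν) hd = g * g := gl_ext_mulVec fun y => by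
        rw [tvec_mulVec, mul_mulVec, hgy y, mulVec_add, mulVec_add, mulVec_smul, mulVec_smul, hgy y, hgv, hgw,
          smul_dotProduct, smul_eq_mul, smul_add, smul_smul]
        have h2F : (2 : F) = 0 := CharTwo.two_eq_zero
        calc y + (x * (ν ⬝ᵥ y)) • v
            = y + ((ν ⬝ᵥ y) * x) • v + ((2 : F) • ((μ ⬝ᵥ y) • v) + (2 : F) • ((ν ⬝ᵥ y) • w)) := by
              rw [h2F, zero_smul, zero_smul, add_zero, add_zero, mul_comm]
          _ = _ := by module
      rw [e]; exact M.mul_mem hg hg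
    have hν0 : ν = 0 := by
      have hz : (x • ν) ⬝ᵥ w = 0 := by rw [smul_dotProduct, hνw, smul_zero]
      rcases honly _ hsq with e | e | e | e
      · exact (smul_eq_zero.1 e).resolve_left hx0
      · rw [e] at hz; exact absurd hz h1
      · rw [e] at hz; exact absurd hz h2
      · rw [e, add_dotProduct] at hz; exact absurd hz hab0
    have htv : HasTv M v μ := by
      refine ⟨hμv, ?_⟩
      have e : tvec v μ hμv = g := gl_ext_mulVec fun y => by
        rw [tvec_mulVec, hgy y, hν0, zero_dotProduct, zero_smul, add_zero]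
      rw [e]; exact hg
    rw [← hμw]
    rcases honly _ htv with e | e | e | e <;> rw [e]
    · simp
    · exact Or.inr (Or.inl rfl)
    · exact Or.inr (Or.inr (Or.inl rfl))
    · rw [add_dotProduct]; exact Or.inr (Or.inr (Or.inr rfl))
  have haL : a ∈ L := (Set.ext_iff.1 hA a).1 haA
  have hbL : b ∈ L := (Set.ext_iff.1 hA b).1 hbA
  have hLeq : (L : Set F) = {0, a, b, a + b} := by
    refine Set.Subset.antisymm hsub ?_
    rintro y (rfl | rfl | rfl | rfl)
    exacts [zero_mem L, haL, hbL, add_mem haL hbL]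
  have hcard : Nat.card L = 4 := by
    show Nat.card (L : Set F) = 4
    rw [Nat.card_coe_set_eq, hLeq, Set.ncard_insert_of_notMem hbnot (Set.toFinite _),
      Set.ncard_eq_three.2 ⟨a, b, a + b, h12, by simpa using h2, by simpa using h1, rfl⟩]
  let _ := Fintype.ofFinite L
  have key : ∀ y : F, y ∈ L → y ≠ 0 → y ^ 3 = 1 := fun y hy hy0 => by
    have e := FiniteField.pow_card_sub_one_eq_one (⟨y, hy⟩ : L) (fun e => hy0 (congrArg Subtype.val e))
    rw [← Nat.card_eq_fintype_card, hcard] at e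
    exact congrArg Subtype.val e
  exact ⟨key a haL h1, key b hbL h2⟩

end CfsgLib.Geo.D3
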