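/-
Groups generated by transvections in dimension three: frames from a single incidence and root groups of prime order.
-/
import Cfsg.Agent.Geo.DimThree.Linear
import Cfsg.Agent.Geo.DimThree.RootPair
import Cfsg.Agent.Classical.DicksonGen

set_option autoImplicit false

namespace CfsgLib.Geo.D3

open Matrix Cfsg Cfsg.Geo CfsgLib.Geo CfsgLib.Geo.SL3

variable {F : Type*} [Field F] {M : Subgroup (GL (Fin 3) F)} {K : Subfield F}

lemma IsT.of_inBasis {g : GL (Fin 3) F} {v φ : Fin 3 → F} (h : IsT (D3.inBasis M g) v φ) :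
    IsT M ((g : Matrix (Fin 3) (Fin 3) F) *ᵥ v) (φ ᵥ* ((g⁻¹ : GL (Fin 3) F) : Matrix (Fin 3) (Fin 3) F)) := by
  have := h.inBasis g⁻¹
  rwa [inBasis_inv_self, inv_inv] at this

lemma root_inBasis (g : GL (Fin 3) F) (v φ : Fin 3 → F) :
    root (inBasis M g) v φ =
      root M ((g : Matrix (Fin 3) (Fin 3) F) *ᵥ v) (φ ᵥ* ((g⁻¹ : GL (Fin 3) F) : Matrix (Fin 3) (Fin 3) F)) := by
  ext s
  rw [mem_root, mem_root, hasTv_inBasis, Matrix.mulVec_smul]

/-- A triangle of transvections in the coordinates `e 0`, `e 1`, `e 2`. -/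
structure Tri (M : Subgroup (GL (Fin 3) F)) : Prop where
  t01 : IsT M (e F 0) (e F 1)
  t12 : IsT M (e F 1) (e F 2)
  t02 : IsT M (e F 0) (e F 2)

/-- A single incidence gives a triangle in a suitable basis. -/
theorem exists_tri {v φ w ψ : Fin 3 → F} (ht : IsT M v φ) (hx : IsT M w ψ) (h1 : φ ⬝ᵥ w ≠ 0)
    (h2 : ψ ⬝ᵥ v = 0) : ∃ g : GL (Fin 3) F, Tri (inBasis M g) ∧
      (∀ s ∈ root M v φ, s ∈ root (inBasis M g) (e F 0) (e F 2)) ∧
      (∀ s ∈ root M w ψ, s ∈ root (inBasis M g) (e F 0) (e F 2)) := by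
  set w' : Fin 3 → F := (φ ⬝ᵥ w)⁻¹ • w with hw'
  set ψ' : Fin 3 → F := ((φ ⬝ᵥ w)⁻¹)⁻¹ • ψ with hψ'
  have hx' : IsT M w' ψ' := hx.smul (inv_ne_zero h1)
  have hφw : φ ⬝ᵥ w' = 1 := by rw [hw', dotProduct_smul, smul_eq_mul, inv_mul_cancel₀ h1]
  have hψv : ψ' ⬝ᵥ v = 0 := by rw [hψ', smul_dotProduct, h2, smul_zero]
  obtain ⟨u, hu⟩ : ∃ u : Fin 3 → F, ψ' ⬝ᵥ u = 1 := by
    obtain ⟨i, hi⟩ := Function.ne_iff.1 hx'.φ_ne
    exact ⟨Pi.single i (ψ' i)⁻¹, by rw [dotProduct_single]; exact mul_inv_cancel₀ hi⟩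
  set z : Fin 3 → F := u - (φ ⬝ᵥ u) • w' with hz
  have hφz : φ ⬝ᵥ z = 0 := by rw [hz, dotProduct_sub, dotProduct_smul, hφw, smul_eq_mul, mul_one, sub_self]
  have hψz : ψ' ⬝ᵥ z = 1 := by rw [hz, dotProduct_sub, dotProduct_smul, hx'.dot, smul_zero, sub_zero, hu]
  obtain ⟨g, hg⟩ := exists_gl_cols (b := ![v, w', z]) (by
    rw [Fintype.linearIndependent_iff]
    intro f hf
    rw [Fin.sum_univ_three] at hf
    have a1 := congrArg (fun y => φ ⬝ᵥ y) hf
    have a2 := congrArg (fun y => ψ' ⬝ᵥ y) hf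
    simp [dotProduct_add, dotProduct_smul, ht.dot, hx'.dot, hφw, hψv, hφz, hψz] at a1 a2
    simp [a1, a2, ht.v_ne] at hf
    intro i; fin_cases i <;> assumption)
  have hgi : ∀ i, ((g⁻¹ : GL (Fin 3) F) : Matrix (Fin 3) (Fin 3) F) *ᵥ (![v, w', z] i) = e F i := fun i => by
    rw [← hg, inv_mulVec_mulVec]
  have hax : ∀ (θ : Fin 3 → F) (i : Fin 3), θ ⬝ᵥ v = e F i 0 → θ ⬝ᵥ w' = e F i 1 → θ ⬝ᵥ z = e F i 2 →
      θ ᵥ* (g : Matrix (Fin 3) (Fin 3) F) = e F i := fun θ i p0 p1 p2 => funext fun j => by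
    rw [← dot_e (θ ᵥ* (g : Matrix (Fin 3) (Fin 3) F)) j, ← Matrix.dotProduct_mulVec, hg]
    fin_cases j
    exacts [p0, p1, p2]
  have e1 : φ ᵥ* (g : Matrix (Fin 3) (Fin 3) F) = e F 1 :=
    hax φ 1 (by simp [e, ht.dot]) (by simp [e, hφw]) (by simp [e, hφz])
  have e2 : ψ' ᵥ* (g : Matrix (Fin 3) (Fin 3) F) = e F 2 :=
    hax ψ' 2 (by simp [e, hψv]) (by simp [e, hx'.dot]) (by simp [e, hψz])
  have T1 := ht.inBasis g
  rw [e1, show v = ![v, w', z] 0 from rfl, hgi] at T1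
  have T2 := hx'.inBasis g
  rw [e2, show w' = ![v, w', z] 1 from rfl, hgi] at T2
  have r1 : ∀ s ∈ root M v φ, HasTv (inBasis M g) (s • e F 0) (e F 1) := fun s hs => by
    rw [← mem_root, root_inBasis, hg, show e F 1 ᵥ* ((g⁻¹ : GL (Fin 3) F) : Matrix (Fin 3) (Fin 3) F) = φ by
      rw [← e1, Matrix.vecMul_vecMul, ← Units.val_mul, mul_inv_cancel, Units.val_one, Matrix.vecMul_one]]
    exact hs
  have r2 : ∀ s ∈ root M w ψ, HasTv (inBasis M g) (s • e F 1) (e F 2) := fun s hs => by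
    rw [← mem_root, root_inBasis, hg, show e F 2 ᵥ* ((g⁻¹ : GL (Fin 3) F) : Matrix (Fin 3) (Fin 3) F) = ψ' by
      rw [← e2, Matrix.vecMul_vecMul, ← Units.val_mul, mul_inv_cancel, Units.val_one, Matrix.vecMul_one]]
    show s ∈ root M w' ψ'
    rw [hw', hψ', root_smul (inv_ne_zero h1)]
    exact hs
  have q1 : ∀ s ∈ root M v φ, s ∈ root (inBasis M g) (e F 0) (e F 2) := fun s hs => by
    have := HasTv.comm (r1 s hs) T2.mem (by simp [e])
    rwa [dot_e, show e F 1 1 = 1 from Pi.single_eq_same 1 1, one_smul, ← mem_root] at this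
  have q2 : ∀ s ∈ root M w ψ, s ∈ root (inBasis M g) (e F 0) (e F 2) := fun s hs => by
    rcases eq_or_ne s 0 with rfl | hs0
    · exact zero_mem _
    have := HasTv.comm T1.mem (r2 s hs) (by simp [e])
    rw [dotProduct_smul, dot_e, show e F 1 1 = 1 from Pi.single_eq_same 1 1, smul_eq_mul, mul_one,
      ← hasTv_smul_iff s hs0, ← mem_root] at this
    exact this
  refine ⟨g, ⟨T1, T2, e_ne 0, e_ne 2, ?_⟩, q1, q2⟩
  have := q1 1 (mem_root_one ht)
  rwa [mem_root, one_smul] at this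

/-- An exceptional pair in characteristic three. -/
theorem sq_eq_neg_one_of_three [Finite F] [CharP F 3] {v φ w ψ : Fin 3 → F} (ht : IsT M v φ)
    (hx : IsT M w ψ) (ha : aval v φ w ψ ≠ 0) (hroot : ∀ s ∈ root M v φ, s = 0 ∨ s = 1 ∨ s = -1) :
    (aval v φ w ψ = 1 ∨ aval v φ w ψ = -1) ∨ aval v φ w ψ ^ 2 = -1 := by
  classical
  have hβ : ψ ⬝ᵥ v ≠ 0 := right_ne_zero_of_mul ha
  set β := ψ ⬝ᵥ v with hβdef
  have ht' := ht.smul (inv_ne_zero hβ)
  set a := aval v φ w ψ with hadef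
  rw [inv_inv] at ht'
  have h3 : ψ ⬝ᵥ (β⁻¹ • v) = 1 := by rw [dotProduct_smul, smul_eq_mul, inv_mul_cancel₀ hβ]
  have e0 : (β • φ) ⬝ᵥ w = a := by rw [hadef, aval, ← hβdef, smul_dotProduct, smul_eq_mul, mul_comm]
  have hr : root M (β⁻¹ • v) (β • φ) = root M v φ := by simpa using root_smul (M := M) (inv_ne_zero hβ) v φ
  have ha' : (β • φ) ⬝ᵥ w ≠ 0 := by rwa [e0]
  let L : Subfield F := Subfield.closure ({a} : Set F)
  haveI := Fintype.ofFinite L
  haveI : CharP L 3 := (RingHom.charP_iff (f := L.subtype) L.subtype.injective 3).2 inferInstance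
  set lam : L := ⟨a, Subfield.subset_closure rfl⟩
  by_cases hex : Fintype.card L = 9 ∧ lam ^ 2 = -1
  · exact Or.inr (by simpa [lam] using congrArg Subtype.val hex.2)
  refine Or.inl ?_
  have hgen : Subfield.closure ({lam} : Set L) = ⊤ := by
    have hle : L ≤ (Subfield.closure ({lam} : Set L)).map L.subtype := by
      refine Subfield.closure_le.2 ?_
      rintro _ rfl
      exact ⟨lam, Subfield.subset_closure rfl, rfl⟩
    refine eq_top_iff.2 fun y _ => ?_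
    obtain ⟨z, hz, hzy⟩ := hle y.2
    rwa [← Subtype.ext (hzy : (z : F) = y)]
  have htop := CfsgLib.Linear.DicksonGen.two_top_of_three (lam := lam) (fun h => ha (congrArg Subtype.val h)) hgen hex
  set P := secHom _ _ (secQ_mul_secP ht'.dot hx.dot h3 ha')
  let ι : Matrix.SpecialLinearGroup (Fin 2) L →* SL2Core.S2 F := Matrix.SpecialLinearGroup.map (L.subtype : L →+* F)
  have hlo : ∀ y : L, ι (CfsgLib.SL2Pair.low y) = CfsgLib.SL2Pair.low (y : F) := fun y => by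
    apply Subtype.ext; ext i j
    fin_cases i <;> fin_cases j <;> simp [ι, CfsgLib.SL2Pair.low_coe]
  have hup : ∀ y : L, ι (CfsgLib.SL2Pair.up y) = CfsgLib.SL2Pair.up (y : F) := fun y => by
    apply Subtype.ext; ext i j
    fin_cases i <;> fin_cases j <;> simp [ι, CfsgLib.SL2Pair.up_coe]
  have hle : CfsgLib.Linear.DicksonGen.two lam ≤ (M.comap P).comap ι := by
    refine (Subgroup.closure_le _).2 ?_
    rintro A (rfl | rfl)
    · show ι (CfsgLib.SL2Pair.low (1 : L)) ∈ M.comap P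
      rw [hlo, OneMemClass.coe_one, ← SL2Core.mem_lowRoot, mem_lowRoot_secHom ht'.dot hx.dot h3 ha']
      exact mem_root_one hx
    · show ι (CfsgLib.SL2Pair.up lam) ∈ M.comap P
      rw [hup, ← SL2Core.mem_upRoot, mem_upRoot_secHom ht'.dot hx.dot h3 ha', e0, hr,
        show (lam : F) / a = 1 from div_self ha]
      exact mem_root_one ht
  have h1 : CfsgLib.SL2Pair.up (1 : L) ∈ (M.comap P).comap ι := hle (htop ▸ Subgroup.mem_top _)
  rw [Subgroup.mem_comap, hup, OneMemClass.coe_one, ← SL2Core.mem_upRoot,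
    mem_upRoot_secHom ht'.dot hx.dot h3 ha', e0, hr] at h1
  rcases hroot _ h1 with h | h | h
  · exact absurd (div_eq_zero_iff.1 h) (by simp [ha])
  · exact Or.inl (by rw [div_eq_one_iff_eq ha] at h; exact h.symm)
  · exact Or.inr (by rw [div_eq_iff ha] at h; linear_combination h)

/-- A triangle on which every opposite transvection is rational gives a special linear group. -/
theorem isLinearType_of_good (hM : Hyp M) (hroot : ∀ v φ : Fin 3 → F, IsT M v φ → (root M v φ : Set F) = K)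
    (hT : Tri M)
    (hgood : ∀ g : GL (Fin 3) F, Tri (inBasis M g) → ∀ y η : Fin 3 → F, IsT (inBasis M g) y η →
      y 2 ≠ 0 → η 0 ≠ 0 → y 1 / y 2 ∈ K ∧ η 0 * y 2 ∈ K ∧ η 1 * y 2 ∈ K) :
    IsLinearType M := by
  obtain ⟨x0, θ0, hx0, ha0⟩ := hM.exists_opp hT.t02
  have hx2 : x0 2 ≠ 0 := fun h0 => ha0 (by rw [aval, e_dot, h0, zero_mul])
  have hθ00 : θ0 0 ≠ 0 := fun h0 => ha0 (by rw [aval, dot_e, h0, mul_zero])
  set c := x0 0 / x0 2 with hc
  have hgd : e F 2 ⬝ᵥ (c • e F 0) = 0 := by simp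
  set g := tvec (c • e F 0) (e F 2) hgd with hg
  have hgi : ∀ y : Fin 3 → F, ((g⁻¹ : GL (Fin 3) F) : Matrix (Fin 3) (Fin 3) F) *ᵥ y = y - y 2 • (c • e F 0) :=
    fun y => by
      show (1 - vecMulVec (c • e F 0) (e F 2)) *ᵥ y = _
      rw [Matrix.sub_mulVec, Matrix.one_mulVec, Matrix.vecMulVec_mulVec, e_dot]
      funext i; simp
  have hgr : ∀ ψ : Fin 3 → F, ψ ᵥ* (g : Matrix (Fin 3) (Fin 3) F) = ψ + (c * ψ 0) • e F 2 := fun ψ => by
    show ψ ᵥ* (1 + vecMulVec (c • e F 0) (e F 2)) = _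
    rw [Matrix.vecMul_add, Matrix.vecMul_one, Matrix.vecMul_vecMulVec, dotProduct_smul, dot_e, smul_eq_mul]
  have ht : ∀ {w ψ : Fin 3 → F}, IsT M w ψ → w 2 = 0 → ψ 0 = 0 → IsT (inBasis M g) w ψ := fun {w ψ} h h1 h2 => by
    have := h.inBasis g
    rwa [hgi, hgr, h1, h2, zero_smul, sub_zero, mul_zero, zero_smul, add_zero] at this
  have hT' : Tri (inBasis M g) :=
    ⟨ht hT.t01 (by simp) (by simp), ht hT.t12 (by simp) (by simp), ht hT.t02 (by simp) (by simp)⟩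
  have hx' := hx0.inBasis g
  rw [hgi, hgr] at hx'
  generalize hv : x0 - x0 2 • (c • e F 0) = v at hx'
  generalize hφ : θ0 + (c * θ0 0) • e F 2 = φ at hx'
  have hv0 : v 0 = 0 := by rw [← hv]; simp [hc, hx2]; field_simp; ring
  have hv2 : v 2 = x0 2 := by rw [← hv]; simp
  have hφ0 : φ 0 = θ0 0 := by rw [← hφ]; simp
  obtain ⟨k1, k2, k3⟩ := hgood g hT' v φ hx' (by rwa [hv2]) (by rwa [hφ0])
  have hv2' : v 2 ≠ 0 := by rwa [hv2]
  have hy := hx'.smul (inv_ne_zero hv2')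
  rw [inv_inv] at hy
  have hdot := hy.dot
  simp only [vec3_dotProduct, Pi.smul_apply, smul_eq_mul, hv0, mul_zero, zero_add] at hdot
  have hroot' : ∀ v φ : Fin 3 → F, IsT (inBasis M g) v φ → (root (inBasis M g) v φ : Set F) = K := fun v φ h => by
    rw [root_inBasis]; exact hroot _ _ h.of_inBasis
  have hEl : ∀ {i j : Fin 3}, IsT (inBasis M g) (e F i) (e F j) → El (inBasis M g) K i j := fun h c hc => by
    rw [← mem_root, ← SetLike.mem_coe, hroot' _ _ h]; exact hc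
  have hvK : RatVec K ((v 2)⁻¹ • v) := by
    intro i; fin_cases i
    · simp [hv0]
    · show (v 2)⁻¹ * v 1 ∈ K
      rwa [inv_mul_eq_div]
    · show (v 2)⁻¹ * v 2 ∈ K
      rw [inv_mul_cancel₀ hv2']; exact K.one_mem
  have hφK : RatVec K (v 2 • φ) := by
    intro i; fin_cases i
    · show v 2 * φ 0 ∈ K; rwa [mul_comm]
    · show v 2 * φ 1 ∈ K; rwa [mul_comm]
    · show v 2 * φ 2 ∈ K
      rw [show v 2 * φ 2 = -((φ 1 * v 2) * (v 1 / v 2)) by field_simp at hdot ⊢; linear_combination hdot]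
      exact K.neg_mem (K.mul_mem k3 k1)
  have hsix := six_of_frame (hEl hT'.t01) (hEl hT'.t12) (hEl hT'.t02)
    (fun c hc => by rw [← mem_root, ← SetLike.mem_coe, hroot' _ _ hy]; exact hc) (by simp [hv2'])
    hvK hφK (by simp [hv2', hφ0, hθ00])
  refine IsLinearType.of_inBasis (g := g) ⟨K, 1, ?_⟩
  rw [← eq_slOver_of_six (hM.inBasis g) hsix fun w ψ hw i j hij => ?_]
  · ext z; simp
  by_cases h0 : ψ i * w j = 0
  · rw [h0]; exact K.zero_mem
  obtain ⟨k, hki, hkj⟩ : ∃ k : Fin 3, k ≠ i ∧ k ≠ j := (by decide : ∀ a b : Fin 3, ∃ c, c ≠ a ∧ c ≠ b) i j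
  obtain ⟨π, hπ0, hπ1, hπ2⟩ : ∃ π : Equiv.Perm (Fin 3), π 0 = i ∧ π 1 = k ∧ π 2 = j :=
    (by decide : ∀ a b c : Fin 3, a ≠ b → c ≠ a → c ≠ b →
      ∃ π : Equiv.Perm (Fin 3), π 0 = a ∧ π 1 = c ∧ π 2 = b) i j k hij hki hkj
  obtain ⟨P, hP⟩ := exists_gl_cols (F := F) (b := fun l => e F (π l)) (by
    rw [Fintype.linearIndependent_iff]
    intro f hf l
    have := congrFun hf (π l)
    simpa [Finset.sum_apply, Pi.single_apply, π.injective.eq_iff] using this)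
  have hPr : ∀ ψ : Fin 3 → F, ψ ᵥ* (P : Matrix (Fin 3) (Fin 3) F) = fun l => ψ (π l) := fun ψ => funext fun l => by
    rw [← dot_e (ψ ᵥ* (P : Matrix (Fin 3) (Fin 3) F)) l, ← Matrix.dotProduct_mulVec, hP, dot_e]
  have hPi : ∀ l, ((P⁻¹ : GL (Fin 3) F) : Matrix (Fin 3) (Fin 3) F) *ᵥ e F (π l) = e F l := fun l => by
    rw [← hP, inv_mulVec_mulVec]
  have hPw : (((P⁻¹ : GL (Fin 3) F) : Matrix (Fin 3) (Fin 3) F) *ᵥ w) 2 = w j := by
    have hrow : e F 2 = e F j ᵥ* (P : Matrix (Fin 3) (Fin 3) F) := by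
      rw [hPr]; funext l; rw [← hπ2]; simp [Pi.single_apply, π.injective.eq_iff]
    rw [← e_dot (((P⁻¹ : GL (Fin 3) F) : Matrix (Fin 3) (Fin 3) F) *ᵥ w) 2, hrow, inBasis_map_dot, e_dot]
  have hPt : ∀ a b : Fin 3, a ≠ b → IsT (inBasis (inBasis M g) P) (e F a) (e F b) := fun a b hab => by
    have h : IsT (inBasis M g) (e F (π a)) (e F (π b)) :=
      ⟨e_ne _, e_ne _, by simpa using hsix _ _ (fun h => hab (π.injective h)) 1 K.one_mem⟩
    have := h.inBasis P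
    rwa [hPi, hPr, show (fun l => e F (π b) (π l)) = e F b from funext fun l => by
      simp [Pi.single_apply, π.injective.eq_iff]] at this
  have hy' := hw.inBasis P
  rw [inBasis_inBasis] at hPt hy'
  have := (hgood (g * P) ⟨hPt 0 1 (by decide), hPt 1 2 (by decide), hPt 0 2 (by decide)⟩ _ _ hy'
    (by rw [hPw]; exact right_ne_zero_of_mul h0)
    (by rw [hPr]; simp only [hπ0]; exact left_ne_zero_of_mul h0)).2.1
  rw [hPw, hPr] at this
  simpa only [hπ0] using this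

end CfsgLib.Geo.D3
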