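/-
Groups generated by transvections in dimension three without single incidences: a hermitian gauge.
-/
import Cfsg.Agent.Geo.DimThree.Linear
import Cfsg.Agent.Aschbacher.Form.Hermitian

set_option autoImplicit false

namespace CfsgLib.Geo.D3

open Matrix Cfsg Cfsg.Geo CfsgLib.Geo CfsgLib.Geo.SL3

variable {F : Type*} [Field F] {M : Subgroup (GL (Fin 3) F)} {K : Subfield F}

/-- No two transvections of `M` have a single incidence. -/
def NoSingle (M : Subgroup (GL (Fin 3) F)) : Prop :=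
  ∀ v φ w ψ : Fin 3 → F, IsT M v φ → IsT M w ψ → φ ⬝ᵥ w = 0 → ψ ⬝ᵥ v = 0

/-- No single incidences, one field for all root groups, all incidence products in that field. -/
structure UHyp (M : Subgroup (GL (Fin 3) F)) (K : Subfield F) : Prop where
  noSingle : NoSingle M
  root_eq : ∀ v φ : Fin 3 → F, IsT M v φ → (root M v φ : Set F) = K
  aval_mem : ∀ v φ w ψ : Fin 3 → F, IsT M v φ → IsT M w ψ → aval v φ w ψ ∈ K

/-- The triple product of incidences. -/
def cyc3 (v φ w ψ u θ : Fin 3 → F) : F := (φ ⬝ᵥ w) * (ψ ⬝ᵥ u) * (θ ⬝ᵥ v)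

section frob

variable [Finite F]

lemma mem_of_pow_card (K : Subfield F) {x : F} (hx : x ^ Nat.card K = x) : x ∈ K := by
  classical
  haveI := Fintype.ofFinite F
  haveI := Fintype.ofFinite K
  have hq : 1 < Nat.card K := Finite.one_lt_card
  set f : Polynomial F := Polynomial.X ^ Nat.card K - Polynomial.X with hf
  have hne : f ≠ 0 := FiniteField.X_pow_card_sub_X_ne_zero F hq
  by_contra hxK
  let S : Finset F := insert x (Finset.univ.image fun y : K => (y : F))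
  have hS : S ⊆ f.roots.toFinset := fun y hy => by
    rw [Multiset.mem_toFinset, Polynomial.mem_roots hne]
    rcases Finset.mem_insert.1 hy with rfl | hy
    · simp [hf, hx, ← Nat.card_eq_fintype_card]
    · obtain ⟨z, -, rfl⟩ := Finset.mem_image.1 hy
      have : ((z : K) ^ Nat.card K : K) = z := (by rw [Nat.card_eq_fintype_card]; exact FiniteField.pow_card z)
      simp [hf, ← SubmonoidClass.coe_pow, ← Nat.card_eq_fintype_card, this]
  have h1 := (Finset.card_le_card hS).trans f.roots.toFinset_card_le |>.trans f.card_roots'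
  rw [Finset.card_insert_of_notMem (by simpa using hxK), Finset.card_image_of_injective _ Subtype.val_injective,
    Finset.card_univ, ← Nat.card_eq_fintype_card, hf, FiniteField.X_pow_card_sub_X_natDegree_eq F hq] at h1
  omega

lemma exists_frobenius (K : Subfield F) : ∃ σ : F →+* F, ∀ x, σ x = x ^ Nat.card K := by
  haveI := Fintype.ofFinite F
  haveI := Fintype.ofFinite K
  obtain ⟨p, hp⟩ := CharP.exists F
  haveI : Fact p.Prime := ⟨CharP.char_is_prime F p⟩
  haveI : CharP K p := (RingHom.charP_iff (f := K.subtype) K.subtype.injective p).2 hp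
  obtain ⟨n, -, hn⟩ := FiniteField.card K p
  exact ⟨iterateFrobenius F p n, fun x => by rw [iterateFrobenius_def, Nat.card_eq_fintype_card, hn]⟩

lemma pow_card_of_mem {K : Subfield F} {x : F} (hx : x ∈ K) : x ^ Nat.card K = x := by
  haveI := Fintype.ofFinite K
  exact by rw [Nat.card_eq_fintype_card]; exact congrArg Subtype.val (FiniteField.pow_card (⟨x, hx⟩ : K))

end frob

/-- In an opposite pair without single incidences a third transvection completes a nondegenerate triangle. -/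
theorem exists_third (hM : Hyp M) {v φ w ψ : Fin 3 → F} (ht : IsT M v φ) (hx : IsT M w ψ)
    (ha : aval v φ w ψ ≠ 0) : ∃ z ζ : Fin 3 → F, IsT M z ζ ∧ LinearIndependent F ![v, w, z] ∧
      cyc3 v φ w ψ z ζ + cyc3 w ψ v φ z ζ ≠ 0 := by
  have hc : φ ⬝ᵥ w ≠ 0 := left_ne_zero_of_mul ha
  have hd : ψ ⬝ᵥ v ≠ 0 := right_ne_zero_of_mul ha
  obtain ⟨Q, hQ1, hQ2⟩ := Plane.exists_inc_both (Projectivization.mk F φ ht.φ_ne) (Projectivization.mk F ψ hx.φ_ne)
  have hQr := Q.rep_nonzero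
  rw [← Q.mk_rep, Plane.inc_mk] at hQ1 hQ2
  generalize hqe : Q.rep = r at hQ1 hQ2 hQr
  have hli : LinearIndependent F ![v, w, r] := by
    rw [Fintype.linearIndependent_iff]
    intro f hf
    rw [Fin.sum_univ_three] at hf
    have h1 := congrArg (fun y => φ ⬝ᵥ y) hf
    have h0 := congrArg (fun y => ψ ⬝ᵥ y) hf
    simp [dotProduct_add, dotProduct_smul, ht.dot, hx.dot, hQ1, hQ2, hc, hd] at h1 h0
    simp [h0, h1, hQr] at hf
    intro i; fin_cases i <;> assumption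
  obtain ⟨g, hg⟩ := exists_gl_cols hli
  set θW : Fin 3 → F := e F 2 ᵥ* ((g⁻¹ : GL (Fin 3) F) : Matrix (Fin 3) (Fin 3) F) with hθW
  have hdec : ∀ y : Fin 3 → F, ∃ α β : F, y = α • v + β • w + (θW ⬝ᵥ y) • r := by
    intro y
    set k := ((g⁻¹ : GL (Fin 3) F) : Matrix (Fin 3) (Fin 3) F) *ᵥ y with hk
    refine ⟨k 0, k 1, ?_⟩
    have e2 : θW ⬝ᵥ y = k 2 := by rw [hθW, ← Matrix.dotProduct_mulVec, ← hk, e_dot]
    have esum : k = k 0 • e F 0 + k 1 • e F 1 + k 2 • e F 2 := by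
      funext i; fin_cases i <;> simp [e]
    conv_lhs => rw [← mulVec_inv_mulVec g y, ← hk, esum]
    rw [Matrix.mulVec_add, Matrix.mulVec_add, Matrix.mulVec_smul, Matrix.mulVec_smul, Matrix.mulVec_smul, hg, hg, hg,
      e2]
    rfl
  have hθv : θW ⬝ᵥ v = 0 := by
    rw [hθW, show v = (g : Matrix (Fin 3) (Fin 3) F) *ᵥ e F 0 from (hg 0).symm, ← Matrix.dotProduct_mulVec,
      inv_mulVec_mulVec, e_dot]
    simp
  have hθw : θW ⬝ᵥ w = 0 := by
    rw [hθW, show w = (g : Matrix (Fin 3) (Fin 3) F) *ᵥ e F 1 from (hg 1).symm, ← Matrix.dotProduct_mulVec,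
      inv_mulVec_mulVec, e_dot]
    simp
  have hθne : θW ≠ 0 := fun h0 => by
    have := congrArg (fun y => y ⬝ᵥ r) h0
    simp only [hθW, zero_dotProduct] at this
    rw [show r = (g : Matrix (Fin 3) (Fin 3) F) *ᵥ e F 2 from (hg 2).symm, ← Matrix.dotProduct_mulVec,
      inv_mulVec_mulVec, e_dot] at this
    simp at this
  obtain ⟨z, ζ, hz, hzW, hζr⟩ : ∃ z ζ : Fin 3 → F, IsT M z ζ ∧ θW ⬝ᵥ z ≠ 0 ∧ ζ ⬝ᵥ r ≠ 0 := by
    obtain ⟨v1, ζ1, h1, h1W⟩ := hM.exists_centre_ne hθne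
    obtain ⟨v2, ζ2, h2, h2r⟩ := hM.exists_axis_ne hQr
    by_cases h1r : ζ1 ⬝ᵥ r = 0
    swap
    · exact ⟨v1, ζ1, h1, h1W, h1r⟩
    by_cases h2W : θW ⬝ᵥ v2 = 0
    swap
    · exact ⟨v2, ζ2, h2, h2W, h2r⟩
    suffices hcl : ∃ u η : Fin 3 → F, IsT M u η ∧ θW ⬝ᵥ u = 0 ∧ η ⬝ᵥ r ≠ 0 ∧ ζ1 ⬝ᵥ u ≠ 0 by
      obtain ⟨u, η, hu, huW, hur, hζu⟩ := hcl
      refine ⟨_, _, hu.conj_tv h1.mem, ?_, ?_⟩
      · rw [dotProduct_add, huW, zero_add, dotProduct_smul, smul_eq_mul]
        exact mul_ne_zero hζu h1W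
      · rw [sub_dotProduct, smul_dotProduct, h1r, smul_zero, sub_zero]
        exact hur
    by_cases h12 : ζ1 ⬝ᵥ v2 = 0
    swap
    · exact ⟨v2, ζ2, h2, h2W, h2r, h12⟩
    obtain ⟨α, β, e2⟩ := hdec v2
    rw [h2W, zero_smul, add_zero] at e2
    obtain ⟨a, b, e1⟩ : ∃ a b : F, ζ1 ⬝ᵥ v = a ∧ ζ1 ⬝ᵥ w = b := ⟨_, _, rfl, rfl⟩
    have hab : a ≠ 0 ∨ b ≠ 0 := by
      by_contra hcon
      push Not at hcon
      obtain ⟨y, hy⟩ := Function.ne_iff.1 h1.φ_ne
      refine hy ?_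
      obtain ⟨α', β', e3⟩ := hdec (Pi.single y 1)
      have := congrArg (fun t => ζ1 ⬝ᵥ t) e3
      simpa [dotProduct_add, dotProduct_smul, e1, hcon, h1r] using this
    rw [e2] at h12
    simp only [dotProduct_add, dotProduct_smul, smul_eq_mul, e1] at h12
    have key : β * a ≠ 0 ∨ α * b ≠ 0 := by
      by_contra hcon
      push Not at hcon
      obtain ⟨k1, k2⟩ := hcon
      rcases hab with ha' | hb'
      · have hβ := (mul_eq_zero.1 k1).resolve_right ha'
        rw [hβ, zero_mul, add_zero] at h12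
        exact h2.v_ne (by rw [e2, (mul_eq_zero.1 h12).resolve_right ha', hβ, zero_smul, zero_smul, add_zero])
      · have hα := (mul_eq_zero.1 k2).resolve_right hb'
        rw [hα, zero_mul, zero_add] at h12
        exact h2.v_ne (by rw [e2, (mul_eq_zero.1 h12).resolve_right hb', hα, zero_smul, zero_smul, add_zero])
    have hr1 : ζ1 ⬝ᵥ v2 = 0 := by rw [e2]; simpa [dotProduct_add, dotProduct_smul, e1] using h12
    rcases key with k | k
    · refine ⟨_, _, h2.conj_tv ht.mem, ?_, ?_, ?_⟩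
      · rw [dotProduct_add, h2W, dotProduct_smul, hθv, smul_zero, add_zero]
      · rw [sub_dotProduct, smul_dotProduct, hQ1, smul_zero, sub_zero]; exact h2r
      · rw [dotProduct_add, hr1, zero_add, dotProduct_smul, e1.1, e2, dotProduct_add, dotProduct_smul,
          dotProduct_smul, ht.dot, smul_zero, zero_add, smul_eq_mul, smul_eq_mul]
        intro h0
        exact k (by rcases mul_eq_zero.1 h0 with h | h
                    · rw [(mul_eq_zero.1 h).resolve_right hc, zero_mul]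
                    · rw [h, mul_zero])
    · refine ⟨_, _, h2.conj_tv hx.mem, ?_, ?_, ?_⟩
      · rw [dotProduct_add, h2W, dotProduct_smul, hθw, smul_zero, add_zero]
      · rw [sub_dotProduct, smul_dotProduct, hQ2, smul_zero, sub_zero]; exact h2r
      · rw [dotProduct_add, hr1, zero_add, dotProduct_smul, e1.2, e2, dotProduct_add, dotProduct_smul,
          dotProduct_smul, hx.dot, smul_zero, add_zero, smul_eq_mul, smul_eq_mul]
        intro h0
        exact k (by rcases mul_eq_zero.1 h0 with h | h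
                    · rw [(mul_eq_zero.1 h).resolve_right hd, zero_mul]
                    · rw [h, mul_zero])
  refine ⟨z, ζ, hz, ?_, ?_⟩
  · rw [Fintype.linearIndependent_iff]
    intro f hf
    rw [Fin.sum_univ_three] at hf
    have h2 := congrArg (fun y => θW ⬝ᵥ y) hf
    simp [dotProduct_add, dotProduct_smul, hθv, hθw, hzW] at h2
    simp only [Matrix.cons_val_zero, Matrix.cons_val_one, Matrix.cons_val_two, Matrix.head_cons, Matrix.tail_cons,
      h2, zero_smul, add_zero] at hf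
    have h1 := congrArg (fun y => φ ⬝ᵥ y) hf
    have h0 := congrArg (fun y => ψ ⬝ᵥ y) hf
    simp [dotProduct_add, dotProduct_smul, ht.dot, hx.dot, hc, hd] at h1 h0
    intro i; fin_cases i <;> assumption
  · obtain ⟨α, β, ez⟩ := hdec z
    have hζ := hz.dot
    rw [ez] at hζ
    simp only [dotProduct_add, dotProduct_smul, smul_eq_mul] at hζ
    have e1 : φ ⬝ᵥ z = β * (φ ⬝ᵥ w) := by
      conv_lhs => rw [ez]
      simp [dotProduct_add, dotProduct_smul, ht.dot, hQ1]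
    have e0 : ψ ⬝ᵥ z = α * (ψ ⬝ᵥ v) := by
      conv_lhs => rw [ez]
      simp [dotProduct_add, dotProduct_smul, hx.dot, hQ2]
    rw [show cyc3 v φ w ψ z ζ + cyc3 w ψ v φ z ζ =
        -((φ ⬝ᵥ w) * (ψ ⬝ᵥ v) * ((θW ⬝ᵥ z) * (ζ ⬝ᵥ r))) by
      simp only [cyc3, e0, e1]; linear_combination (φ ⬝ᵥ w) * (ψ ⬝ᵥ v) * hζ]
    exact neg_ne_zero.2 (mul_ne_zero (mul_ne_zero hc hd) (mul_ne_zero hzW hζr))

/-- The triangle identity: the two triple products are conjugate up to sign. -/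
theorem UHyp.cyc3_frob [Finite F] (hU : UHyp M K) {v φ w ψ u θ : Fin 3 → F} (h0 : IsT M v φ) (h1 : IsT M w ψ)
    (h2 : IsT M u θ) :
    cyc3 v φ w ψ u θ ^ Nat.card K = -cyc3 w ψ v φ u θ ∧ cyc3 w ψ v φ u θ ^ Nat.card K = -cyc3 v φ w ψ u θ := by
  obtain ⟨σ, hσ⟩ := exists_frobenius K
  rw [← hσ, ← hσ]
  have hA := hU.aval_mem
  have k01 : φ ⬝ᵥ w = 0 ↔ ψ ⬝ᵥ v = 0 := ⟨hU.noSingle _ _ _ _ h0 h1, hU.noSingle _ _ _ _ h1 h0⟩
  have k02 : φ ⬝ᵥ u = 0 ↔ θ ⬝ᵥ v = 0 := ⟨hU.noSingle _ _ _ _ h0 h2, hU.noSingle _ _ _ _ h2 h0⟩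
  have k12 : ψ ⬝ᵥ u = 0 ↔ θ ⬝ᵥ w = 0 := ⟨hU.noSingle _ _ _ _ h1 h2, hU.noSingle _ _ _ _ h2 h1⟩
  set B := cyc3 v φ w ψ u θ with hBdef
  set B' := cyc3 w ψ v φ u θ with hB'def
  by_cases hz : B = 0 ∨ B' = 0
  · have : B = 0 ∧ B' = 0 := by
      simp only [hBdef, hB'def, cyc3, mul_eq_zero] at hz ⊢
      tauto
    rw [this.1, this.2, map_zero, neg_zero]
    exact ⟨rfl, rfl⟩
  push Not at hz
  obtain ⟨hB0, hB'0⟩ := hz
  have hN : B * B' ∈ K := by
    have := K.mul_mem (K.mul_mem (hA _ _ _ _ h0 h1) (hA _ _ _ _ h1 h2)) (hA _ _ _ _ h0 h2)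
    convert this using 1
    simp only [hBdef, hB'def, cyc3, aval]; ring
  -- conjugate the second transvection by the first
  have hconj : ∀ s ∈ K, IsT M (w + (φ ⬝ᵥ w) • (s • v)) (ψ - (ψ ⬝ᵥ (s • v)) • φ) := by
    intro s hs
    have hsm : HasTv M (s • v) φ := by
      rw [← mem_root, ← SetLike.mem_coe, hU.root_eq _ _ h0]; exact hs
    exact h1.conj_tv hsm
  have hd : B - B' ∈ K := by
    have := hA _ _ _ _ (hconj 1 K.one_mem) h2
    have h4 := K.add_mem (K.sub_mem this (hA _ _ _ _ h1 h2)) (K.mul_mem (hA _ _ _ _ h0 h1) (hA _ _ _ _ h0 h2))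
    convert h4 using 1
    simp only [hBdef, hB'def, cyc3, aval, one_smul, dotProduct_add, sub_dotProduct, dotProduct_smul, smul_dotProduct,
      smul_eq_mul]
    ring
  have hBK : B ∈ K → B' = -B := by
    intro hB
    have hz' : φ ⬝ᵥ u ≠ 0 ∧ ψ ⬝ᵥ v ≠ 0 ∧ θ ⬝ᵥ v ≠ 0 ∧ φ ⬝ᵥ w ≠ 0 := by
      simp only [hBdef, hB'def, cyc3, mul_ne_zero_iff] at hB0 hB'0
      tauto
    obtain ⟨n02, n10, n20, n01⟩ := hz'
    set s := B / (aval v φ w ψ * aval v φ u θ) with hsdef
    have hsK : s ∈ K := K.div_mem hB (K.mul_mem (hA _ _ _ _ h0 h1) (hA _ _ _ _ h0 h2))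
    have e1 : (ψ - (ψ ⬝ᵥ (s • v)) • φ) ⬝ᵥ u = 0 := by
      simp only [sub_dotProduct, smul_dotProduct, dotProduct_smul, smul_eq_mul, hsdef, hBdef, cyc3, aval]
      field_simp
      ring
    have e2 := hU.noSingle _ _ _ _ (hconj s hsK) h2 e1
    simp only [dotProduct_add, dotProduct_smul, smul_eq_mul, hsdef, hBdef, cyc3, aval] at e2
    field_simp at e2
    simp only [hBdef, hB'def, cyc3]
    linear_combination e2
  have hfix : ∀ x ∈ K, σ x = x := fun x hx => by rw [hσ, pow_card_of_mem hx]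
  by_cases hB : B ∈ K
  · have e := hBK hB
    exact ⟨by rw [hfix B hB, e, neg_neg], by rw [e, map_neg, hfix B hB]⟩
  · have hd' := hfix _ hd
    have hN' := hfix _ hN
    rw [map_sub] at hd'
    rw [map_mul] at hN'
    have hne : σ B ≠ B := fun e => hB (mem_of_pow_card K (by rw [← hσ]; exact e))
    have h : (σ B - B) * (σ B + B') = 0 := by linear_combination hN' + σ B * hd'
    have e := eq_neg_of_add_eq_zero_left ((mul_eq_zero.1 h).resolve_left (sub_ne_zero.2 hne))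
    exact ⟨e, by linear_combination e - hd'⟩

end CfsgLib.Geo.D3
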