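/-
Groups generated by transvections in dimension three: no single incidences and root groups of order three.
-/
import Cfsg.Agent.Geo.DimThree.Gauge
import Cfsg.Agent.Geo.DimThree.Frame

set_option autoImplicit false

namespace CfsgLib.Geo.D3

open Matrix Cfsg Cfsg.Geo CfsgLib.Geo CfsgLib.Geo.SL3

/-- Pairs standing for the elements of the field with nine elements. -/
abbrev N9 := ZMod 3 × ZMod 3

/-- Multiplication of pairs, the second unit squaring to minus one. -/
def n9mul (a b : N9) : N9 := (a.1 * b.1 - a.2 * b.2, a.1 * b.2 + a.2 * b.1)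

/-- The pairs whose fourth power is trivial, and zero. -/
def n9W (a : N9) : Bool := decide (a.1 = 0 ∨ a.2 = 0)

/-- The pairs whose fourth power is trivial. -/
def n9U (a : N9) : Bool := n9W a && decide (a ≠ 0)

lemma no_exception : ∀ p q d : N9, n9W p = true → n9W q = true → p ≠ 0 → q ≠ 0 →
    n9U (q + d - n9mul (0, 1) p) = true → n9U (q - d - n9mul (0, 1) p) = true →
    n9U (p + d - n9mul (0, 1) q) = true → n9U (p - d - n9mul (0, 1) q) = true →
    n9U ((0, 1) + d - n9mul p q) = true → n9U ((0, 1) - d - n9mul p q) = true →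
    n9mul d d + n9mul (n9mul (0, 1) p) q = 0 := by
  decide +kernel

variable {F : Type*} [Field F] {M : Subgroup (GL (Fin 3) F)} {K : Subfield F}

/-- Without single incidences and with root groups of order three all incidence products are rational. -/
theorem aval_mem_of_noSingle_three [Finite F] [CharP F 3] (hM : Hyp M) (hns : NoSingle M)
    (hK : ∀ x ∈ K, x = 0 ∨ x = 1 ∨ x = -1)
    (hroot : ∀ v φ : Fin 3 → F, IsT M v φ → (root M v φ : Set F) = K) :
    ∀ v φ w ψ : Fin 3 → F, IsT M v φ → IsT M w ψ → aval v φ w ψ ∈ K := by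
  intro v φ w ψ ht hx
  by_contra hnot
  have hW : ∀ a b c d : Fin 3 → F, IsT M a b → IsT M c d →
      aval a b c d = 0 ∨ (aval a b c d = 1 ∨ aval a b c d = -1) ∨ aval a b c d ^ 2 = -1 := fun a b c d h1 h2 => by
    by_cases h0 : aval a b c d = 0
    · exact Or.inl h0
    exact Or.inr (sq_eq_neg_one_of_three h1 h2 h0 fun s hs => hK s (by
      rw [← SetLike.mem_coe, ← hroot a b h1]; exact hs))
  set i := aval v φ w ψ with hidef
  have hi : i ^ 2 = -1 := by
    rcases hW v φ w ψ ht hx with h | (h | h) | h <;> rw [← hidef] at h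
    · exact absurd (h ▸ K.zero_mem) hnot
    · exact absurd (h ▸ K.one_mem) hnot
    · exact absurd (h ▸ K.neg_mem K.one_mem) hnot
    · exact h
  have hi0 : i ≠ 0 := fun h => hnot (h ▸ K.zero_mem)
  obtain ⟨u, θ, hu, -, hsum⟩ := exists_third hM ht hx hi0
  let c : ZMod 3 →+* F := ZMod.castHom (dvd_refl 3) F
  have hcinj : Function.Injective c := c.injective
  let E : N9 → F := fun a => c a.1 + c a.2 * i
  have hEadd : ∀ a b, E (a + b) = E a + E b := fun a b => by
    simp only [E, Prod.fst_add, Prod.snd_add, map_add]; ring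
  have hEsub : ∀ a b, E (a - b) = E a - E b := fun a b => by
    simp only [E, Prod.fst_sub, Prod.snd_sub, map_sub]; ring
  have hEmul : ∀ a b, E (n9mul a b) = E a * E b := fun a b => by
    simp only [E, n9mul, map_add, map_sub, map_mul]
    linear_combination -(c a.2 * c b.2) * hi
  have hEinj : ∀ a : N9, E a = 0 → a = 0 := by
    rintro ⟨x, y⟩ h
    simp only [E] at h
    rcases eq_or_ne (c y) 0 with hy | hy
    · rw [hy, zero_mul, add_zero] at h
      exact Prod.ext (hcinj (h.trans (map_zero c).symm)) (hcinj (hy.trans (map_zero c).symm))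
    · exfalso
      refine hnot ?_
      rw [show i = c (-x / y) by rw [map_div₀, map_neg, eq_div_iff hy]; linear_combination h]
      obtain ⟨n, hn⟩ := ZMod.natCast_zmod_surjective (-x / y)
      rw [← hn, map_natCast]
      exact natCast_mem K n
  have hEinj' : ∀ a b, E a = E b → a = b := fun a b h => sub_eq_zero.1 (hEinj _ (by rw [hEsub, h, sub_self]))
  have hEi : E (0, 1) = i := by simp [E]
  have hval : ∀ a b c' d : Fin 3 → F, IsT M a b → IsT M c' d → ∃ p : N9, n9W p = true ∧ aval a b c' d = E p := by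
    intro a b c' d h1 h2
    rcases hW a b c' d h1 h2 with h | (h | h) | h
    · exact ⟨0, by decide, by simp [E, h]⟩
    · exact ⟨(1, 0), by decide, by simp [E, h]⟩
    · exact ⟨(-1, 0), by decide, by simp [E, h]⟩
    · rcases eq_or_eq_neg_of_sq_eq_sq _ i (h.trans hi.symm) with e | e
      · exact ⟨(0, 1), by decide, by simp [E, e]⟩
      · exact ⟨(0, -1), by decide, by simp [E, e]⟩
  have hback : ∀ {a b c' d : Fin 3 → F} {x : N9}, IsT M a b → IsT M c' d → aval a b c' d = E x → n9W x = true := by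
    intro a b c' d x h1 h2 h
    obtain ⟨p, hp, e⟩ := hval a b c' d h1 h2
    rwa [hEinj' x p (h.symm.trans e)]
  set B := cyc3 v φ w ψ u θ with hB
  set B' := cyc3 w ψ v φ u θ with hB'
  have k02 : φ ⬝ᵥ u = 0 ↔ θ ⬝ᵥ v = 0 := ⟨hns _ _ _ _ ht hu, hns _ _ _ _ hu ht⟩
  have k12 : ψ ⬝ᵥ u = 0 ↔ θ ⬝ᵥ w = 0 := ⟨hns _ _ _ _ hx hu, hns _ _ _ _ hu hx⟩
  obtain ⟨p, hp, ep⟩ := hval v φ u θ ht hu
  obtain ⟨q, hq, eq'⟩ := hval w ψ u θ hx hu
  have hp0 : p ≠ 0 := by
    intro h
    rw [h, show E 0 = 0 by simp [E]] at ep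
    rcases mul_eq_zero.1 ep with e | e
    · exact hsum (by simp only [hB, hB', cyc3, e, k02.1 e, mul_zero, zero_mul, add_zero])
    · exact hsum (by simp only [hB, hB', cyc3, e, k02.2 e, mul_zero, zero_mul, add_zero])
  have hq0 : q ≠ 0 := by
    intro h
    rw [h, show E 0 = 0 by simp [E]] at eq'
    rcases mul_eq_zero.1 eq' with e | e
    · exact hsum (by simp only [hB, hB', cyc3, e, k12.1 e, mul_zero, zero_mul, add_zero])
    · exact hsum (by simp only [hB, hB', cyc3, e, k12.2 e, mul_zero, zero_mul, add_zero])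
  have hconj : ∀ {a b c' d : Fin 3 → F}, IsT M a b → IsT M c' d → ∀ s : F, s = 1 ∨ s = -1 →
      IsT M (c' + (b ⬝ᵥ c') • (s • a)) (d - (d ⬝ᵥ (s • a)) • b) := by
    intro a b c' d h1 h2 s hs
    refine h2.conj_tv ?_
    rcases hs with rfl | rfl
    · rw [one_smul]; exact h1.mem
    · rw [neg_one_smul]; exact h1.mem.neg_center
  -- the difference of the two triple products
  obtain ⟨r, hr, er⟩ := hval _ _ u θ (hconj ht hx 1 (Or.inl rfl)) hu
  set d : N9 := r - q + n9mul (0, 1) p with hddef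
  have hd : E d = B - B' := by
    rw [hddef, hEadd, hEsub, hEmul, hEi, ← er, ← eq', ← ep, hidef]
    simp only [hB, hB', cyc3, aval, one_smul, dotProduct_add, sub_dotProduct, dotProduct_smul, smul_dotProduct,
      smul_eq_mul]
    ring
  have hU : ∀ {a b c' d' : Fin 3 → F} {s : F} {e1 e2 : Fin 3 → F} {x : N9},
      (IsT M (c' + (b ⬝ᵥ c') • (s • a)) (d' - (d' ⬝ᵥ (s • a)) • b) ∧
        (cyc3 a b c' d' e1 e2 + cyc3 c' d' a b e1 e2 ≠ 0)) → IsT M e1 e2 →
      aval (c' + (b ⬝ᵥ c') • (s • a)) (d' - (d' ⬝ᵥ (s • a)) • b) e1 e2 = E x → n9U x = true := by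
    intro a b c' d' s e1 e2 x hh h2 h
    obtain ⟨h1, hne⟩ := hh
    simp only [n9U, Bool.and_eq_true, decide_eq_true_eq]
    refine ⟨hback h1 h2 h, fun hx0 => hne ?_⟩
    rw [hx0, show E 0 = 0 by simp [E]] at h
    have hz : (d' - (d' ⬝ᵥ (s • a)) • b) ⬝ᵥ e1 = 0 ∧ e2 ⬝ᵥ (c' + (b ⬝ᵥ c') • (s • a)) = 0 := by
      rcases mul_eq_zero.1 h with e | e
      · exact ⟨e, hns _ _ _ _ h1 h2 e⟩
      · exact ⟨hns _ _ _ _ h2 h1 e, e⟩
    simp only [sub_dotProduct, smul_dotProduct, dotProduct_add, dotProduct_smul, smul_eq_mul] at hz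
    simp only [cyc3]
    linear_combination (b ⬝ᵥ c') * (e2 ⬝ᵥ a) * hz.1 + (b ⬝ᵥ e1) * (d' ⬝ᵥ a) * hz.2
  have hsum2 : cyc3 w ψ v φ u θ + cyc3 v φ w ψ u θ ≠ 0 := by rw [add_comm]; exact hsum
  have hsum3 : cyc3 u θ v φ w ψ + cyc3 v φ u θ w ψ ≠ 0 := by
    convert hsum using 1
    simp only [hB, hB', cyc3]; ring
  have key := no_exception p q d hp hq hp0 hq0
    (hU ⟨hconj ht hx 1 (Or.inl rfl), hsum⟩ hu (by
      rw [hEsub, hEadd, hEmul, hEi, hd, ← eq', ← ep, hidef]
      simp only [hB, hB', cyc3, aval, one_smul, dotProduct_add, sub_dotProduct, dotProduct_smul, smul_dotProduct,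
        smul_eq_mul]
      ring))
    (hU ⟨hconj ht hx (-1) (Or.inr rfl), hsum⟩ hu (by
      rw [hEsub, hEsub, hEmul, hEi, hd, ← eq', ← ep, hidef]
      simp only [hB, hB', cyc3, aval, neg_smul, one_smul, dotProduct_add, sub_dotProduct, dotProduct_smul,
        smul_dotProduct, dotProduct_neg, smul_neg, neg_dotProduct, smul_eq_mul]
      ring))
    (hU ⟨hconj hx ht (-1) (Or.inr rfl), hsum2⟩ hu (by
      rw [hEsub, hEadd, hEmul, hEi, hd, ← eq', ← ep, hidef]
      simp only [hB, hB', cyc3, aval, neg_smul, one_smul, dotProduct_add, sub_dotProduct, dotProduct_smul,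
        smul_dotProduct, dotProduct_neg, smul_neg, neg_dotProduct, smul_eq_mul]
      ring))
    (hU ⟨hconj hx ht 1 (Or.inl rfl), hsum2⟩ hu (by
      rw [hEsub, hEsub, hEmul, hEi, hd, ← eq', ← ep, hidef]
      simp only [hB, hB', cyc3, aval, one_smul, dotProduct_add, sub_dotProduct, dotProduct_smul, smul_dotProduct,
        smul_eq_mul]
      ring))
    (hU ⟨hconj hu ht 1 (Or.inl rfl), hsum3⟩ hx (by
      rw [hEsub, hEadd, hEmul, hEi, hd, ← eq', ← ep, hidef]
      simp only [hB, hB', cyc3, aval, one_smul, dotProduct_add, sub_dotProduct, dotProduct_smul, smul_dotProduct,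
        smul_eq_mul]
      ring))
    (hU ⟨hconj hu ht (-1) (Or.inr rfl), hsum3⟩ hx (by
      rw [hEsub, hEsub, hEmul, hEi, hd, ← eq', ← ep, hidef]
      simp only [hB, hB', cyc3, aval, neg_smul, one_smul, dotProduct_add, sub_dotProduct, dotProduct_smul,
        smul_dotProduct, dotProduct_neg, smul_neg, neg_dotProduct, smul_eq_mul]
      ring))
  have e0 := congrArg E key
  rw [hEadd, hEmul, hEmul, hEmul, hd, hEi, ← ep, ← eq', show E 0 = 0 by simp [E], hidef] at e0
  refine hsum ?_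
  have h3 : (3 : F) = 0 := by exact_mod_cast CharP.cast_eq_zero F 3
  have hsq : (B + B') ^ 2 = 0 := by
    have hN : B * B' = aval v φ w ψ * aval v φ u θ * aval w ψ u θ := by simp only [hB, hB', cyc3, aval]; ring
    linear_combination e0 + (4 : F) * hN + (aval v φ w ψ * aval v φ u θ * aval w ψ u θ) * h3
  exact pow_eq_zero_iff two_ne_zero |>.1 hsq

end CfsgLib.Geo.D3
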