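/-
Groups generated by transvections in dimension three: root groups of order three with a single incidence.
-/
import Cfsg.Agent.Geo.DimThree.Frame

set_option autoImplicit false

namespace CfsgLib.Geo.D3

open Matrix Cfsg Cfsg.Geo CfsgLib.Geo CfsgLib.Geo.SL3

variable {F : Type*} [Field F] {M : Subgroup (GL (Fin 3) F)} {K : Subfield F}

/-- An opposite transvection whose centre lies on the coordinate plane of the triangle has its value in the
root group. -/
lemma value_mem_root (hT : Tri M) {v φ : Fin 3 → F} (hx : IsT M v φ) (hv1 : v 1 = 0) (hv2 : v 2 = 1) :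
    φ 0 ∈ root M (e F 0) (e F 1) := by
  rcases eq_or_ne (φ 0) 0 with h0 | h0
  · rw [h0]; exact zero_mem _
  have h1 := HasTv.comm hx.mem hT.t01.mem (by rw [e_dot, hv1])
  rw [dot_e] at h1
  have h2 := HasTv.conj_tv' h1 hT.t02.mem
  rw [e_dot, hv2, one_smul, smul_dotProduct, show e F 1 ⬝ᵥ e F 0 = (0 : F) by simp [e], smul_zero, zero_smul,
    sub_zero] at h2
  have h3 := h2.sub_center h1
  rw [add_sub_cancel_left, ← hasTv_smul_iff _ h0] at h3
  exact h3

/-- The possible values in characteristic three. -/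
def WVal (x : F) : Prop := x = 0 ∨ x = 1 ∨ x = -1 ∨ x ^ 2 = -1

lemma wVal_ratio [CharP F 3] {a b : F} (ha : a ≠ 0) (hWa : WVal a) (hb : WVal b) (h1 : WVal (b + a))
    (h2 : WVal (b - a)) : b = 0 ∨ b = a ∨ b = -a := by
  have h3 : (3 : F) = 0 := by exact_mod_cast CharP.cast_eq_zero F 3
  have hne2 : (2 : F) ≠ 0 := fun h => one_ne_zero (α := F) (by linear_combination h3 - h)
  have key : ∀ x y : F, x ^ 2 = 1 → y ^ 2 = -1 → ¬ WVal (x + y) := by
    intro x y hx hy hW
    have hy0 : y ≠ 0 := fun h => one_ne_zero (α := F) (by rw [h] at hy; linear_combination hy)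
    have hx0 : x ≠ 0 := fun h => one_ne_zero (α := F) (by rw [h] at hx; linear_combination -hx)
    have hxy : (x + y) ^ 2 = 2 * x * y := by linear_combination hx + hy
    rcases hW with h | h | h | h
    · rw [h] at hxy
      exact mul_ne_zero (mul_ne_zero hne2 hx0) hy0 (by linear_combination -hxy)
    all_goals
      have e1 : (2 * x * y) ^ 2 = 1 := by rw [← hxy, h]; norm_num
      exact one_ne_zero (α := F) (by linear_combination -4 * y ^ 2 * hx - 4 * hy + e1 + 2 * h3)
  have sqW : ∀ x : F, WVal x → x = 0 ∨ x ^ 2 = 1 ∨ x ^ 2 = -1 := by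
    intro x hx
    rcases hx with h | h | h | h
    · exact Or.inl h
    · exact Or.inr (Or.inl (by rw [h]; ring))
    · exact Or.inr (Or.inl (by rw [h]; ring))
    · exact Or.inr (Or.inr h)
  rcases (sqW a hWa).resolve_left ha with hA | hA <;> rcases sqW b hb with hB | hB | hB
  · exact Or.inl hB
  · exact Or.inr (eq_or_eq_neg_of_sq_eq_sq b a (hB.trans hA.symm))
  · exact absurd (by rwa [add_comm] at h1) (key a b hA hB)
  · exact Or.inl hB
  · exact absurd h1 (key b a hB hA)
  · exact Or.inr (eq_or_eq_neg_of_sq_eq_sq b a (hB.trans hA.symm))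

/-- In characteristic three every opposite transvection of a triangle is rational over the prime field. -/
theorem good_three [Finite F] [CharP F 3] (hK : ∀ x ∈ K, x = 0 ∨ x = 1 ∨ x = -1)
    (hroot : ∀ v φ : Fin 3 → F, IsT M v φ → (root M v φ : Set F) = K) (hT : Tri M) {y η : Fin 3 → F}
    (hy : IsT M y η) (hy2 : y 2 ≠ 0) (hη0 : η 0 ≠ 0) : y 1 / y 2 ∈ K ∧ η 0 * y 2 ∈ K ∧ η 1 * y 2 ∈ K := by
  have hx := hy.smul (inv_ne_zero hy2)
  rw [inv_inv] at hx
  set v : Fin 3 → F := (y 2)⁻¹ • y with hv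
  set φ : Fin 3 → F := y 2 • η with hφ
  have hv2 : v 2 = 1 := by simp [hv, hy2]
  have hφ0 : φ 0 ≠ 0 := by simp [hφ, hy2, hη0]
  have hW : ∀ (w ψ : Fin 3 → F), IsT M w ψ → WVal (aval w ψ v φ) := by
    intro w ψ hw
    by_cases h0 : aval w ψ v φ = 0
    · exact Or.inl h0
    rcases sq_eq_neg_one_of_three hw hx h0 (fun s hs => hK s (by rw [← SetLike.mem_coe, ← hroot w ψ hw]; exact hs))
      with (h | h) | h
    exacts [Or.inr (Or.inl h), Or.inr (Or.inr (Or.inl h)), Or.inr (Or.inr (Or.inr h))]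
  have sW : ∀ r ∈ K, WVal (φ 0 * (v 1 + r)) ∧ WVal (r * φ 0 + φ 1) := by
    intro r hr
    have h02 : HasTv M (r • e F 0) (e F 2) := by
      rw [← mem_root, ← SetLike.mem_coe, hroot _ _ hT.t02]; exact hr
    have hax : HasTv M (e F 0) (r • e F 2) := by
      rcases eq_or_ne r 0 with rfl | hr0
      · rw [zero_smul]; exact hasTv_zero_right M _
      · exact (hasTv_smul_iff r hr0).1 h02
    refine ⟨?_, ?_⟩
    · have := hW (e F 0) (e F 1 + r • e F 2)
        ⟨e_ne 0, fun e0 => by simpa [e] using congrFun e0 1, hT.t01.mem.add_axis hax⟩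
      rwa [aval, add_dotProduct, smul_dotProduct, e_dot, e_dot, hv2, dot_e, smul_eq_mul, mul_one, mul_comm] at this
    · have := hW (r • e F 0 + e F 1) (e F 2)
        ⟨fun e0 => by simpa [e] using congrFun e0 1, e_ne 2, HasTv.add_center h02 hT.t12.mem⟩
      rwa [aval, e_dot, hv2, one_mul, dotProduct_add, dotProduct_smul, dot_e, dot_e, smul_eq_mul] at this
  have hW0 : WVal (φ 0) := by
    have := hW _ _ hT.t02
    rwa [aval, e_dot, hv2, one_mul, dot_e] at this
  obtain ⟨z1, z2⟩ := sW 0 K.zero_mem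
  obtain ⟨p1, p2⟩ := sW 1 K.one_mem
  obtain ⟨n1, n2⟩ := sW (-1) (K.neg_mem K.one_mem)
  have hv1K : v 1 ∈ K := by
    rcases wVal_ratio hφ0 hW0 (b := φ 0 * v 1) (by simpa using z1) (by simpa [mul_add] using p1)
      (by simpa [mul_add, sub_eq_add_neg] using n1) with h | h | h
    · rw [(mul_eq_zero.1 h).resolve_left hφ0]; exact K.zero_mem
    · rw [mul_left_cancel₀ hφ0 (h.trans (mul_one _).symm)]; exact K.one_mem
    · rw [mul_left_cancel₀ hφ0 (h.trans (mul_neg_one _).symm)]; exact K.neg_mem K.one_mem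
  have hval : φ 0 ∈ K := by
    have hu : HasTv M (-v 1 • e F 1) (e F 2) := by
      rw [← mem_root, ← SetLike.mem_coe, hroot _ _ hT.t12]; exact K.neg_mem hv1K
    have := value_mem_root hT (hx.conj_tv hu) (by simp [hv2]) (by simp [hv2])
    rw [← SetLike.mem_coe, hroot _ _ hT.t01] at this
    simpa using this
  have hφ1 : φ 1 ∈ K := by
    rcases wVal_ratio hφ0 hW0 (b := φ 1) (by simpa using z2) (by simpa [add_comm] using p2)
      (by simpa [add_comm, sub_eq_add_neg] using n2) with h | h | h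
    · rw [h]; exact K.zero_mem
    · rw [h]; exact hval
    · rw [h]; exact K.neg_mem hval
  refine ⟨?_, ?_, ?_⟩
  · rw [← inv_mul_eq_div]; exact hv1K
  · rw [mul_comm]; exact hval
  · rw [mul_comm]; exact hφ1

/-- Root groups of order three and a single incidence. -/
theorem isLinearType_three [Finite F] [CharP F 3] (hM : Hyp M) (hK : ∀ x ∈ K, x = 0 ∨ x = 1 ∨ x = -1)
    (hroot : ∀ v φ : Fin 3 → F, IsT M v φ → (root M v φ : Set F) = K) (hT : Tri M) : IsLinearType M :=
  isLinearType_of_good hM hroot hT fun _ hT' _ _ hy h2 h0 =>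
    good_three hK (fun v φ h => by rw [root_inBasis]; exact hroot _ _ h.of_inBasis) hT' hy h2 h0

end CfsgLib.Geo.D3
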