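/-
Three full isotropic centres, two of them joined and the third off their secant, give the whole special
unitary group in dimension three.
-/
import Cfsg.Agent.Geo.UnitTv
import Mathlib.LinearAlgebra.Dimension.Finite

set_option autoImplicit false

namespace CfsgLib.Geo.D3

open Matrix Cfsg Cfsg.Geo CfsgLib.Geo CfsgLib.Geo.UTv

variable {K : Type*} [Field K] [Finite K] {q : ℕ} (hK : Nat.card K = q ^ 2)

local notation "hh" => Cfsg.hermForm 3 K q
local notation "σ" => frobEquiv hK

include hK

/-- The trace form of two coordinates on a hyperbolic pair. -/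
lemma trace_shear {c : K} (hc : c + σ c = 0) (a b : K) :
    (a + c * b) * σ b + b * σ (a + c * b) = a * σ b + b * σ a := by
  rw [map_add, map_mul]
  linear_combination (b * σ b) * hc

variable {M : Subgroup (GL (Fin 3) K)}

/-- The shear of a full centre. -/
lemma shear_mem {u : Fin 3 → K} (hu : UTv.Full q M u) {c : K} (hc : c + σ c = 0) :
    ∃ g ∈ M, ∀ x : Fin 3 → K, (g : Matrix (Fin 3) (Fin 3) K) *ᵥ x = x + (c * hh x u) • u := by
  rw [frobEquiv_apply] at hc
  obtain ⟨hd, hm⟩ := hu.2 c hc
  exact ⟨_, hm, fun x => utv_mulVec hK hu.1 c x⟩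

/-- The shears of a hyperbolic pair of full centres move a vector to every vector with the same anisotropic
coordinates, away from the real multiples of the second coordinate. -/
lemma reach_generic {u v : Fin 3 → K} (hu : UTv.Full q M u) (hv : UTv.Full q M v) (huv : hh u v = 1)
    {x : Fin 3 → K} {a b a' b' : K} (ha : hh x v = a) (hb : hh x u = b)
    (hN : a * σ b + b * σ a ≠ 0) (hN' : a' * σ b' + b' * σ a' = a * σ b + b * σ a)
    (hgen : σ (b' / b) ≠ b' / b) :
    ∃ g ∈ M, (g : Matrix (Fin 3) (Fin 3) K) *ᵥ x = x + (a' - a) • u + (b' - b) • v := by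
  have hf := isUnitaryForm hK (n := 3)
  have hb0 : b ≠ 0 := by rintro h; rw [h] at hN; simp at hN
  have hb'0 : b' ≠ 0 := by rintro h; rw [h] at hgen; simp at hgen
  have hσb : σ b ≠ 0 := (map_ne_zero _).2 hb0
  have hσb' : σ b' ≠ 0 := (map_ne_zero _).2 hb'0
  set α := a / b with hα
  set t := b' / b - 1 with ht
  have hαT : α + σ α ≠ 0 := by
    rw [hα, map_div₀, div_add_div _ _ hb0 hσb]
    exact div_ne_zero hN (mul_ne_zero hb0 hσb)
  have htT : t - σ t ≠ 0 := by
    rw [ht, map_sub, map_one, sub_sub_sub_cancel_right]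
    exact sub_ne_zero.2 fun h => hgen h.symm
  set c₂ := (t - σ t) / (α + σ α) with hc₂
  have hc₂0 : c₂ ≠ 0 := div_ne_zero htT hαT
  have hσc₂ : σ c₂ = -c₂ := by
    rw [hc₂, map_div₀, map_sub, map_add, hf.involutive, hf.involutive, add_comm (σ α) α, ← neg_div,
      neg_sub]
  have hc₂T : c₂ + σ c₂ = 0 := by rw [hσc₂, add_neg_cancel]
  set c₁ := t / c₂ - α with hc₁
  have e2 : c₂ * (α + σ α) = t - σ t := div_mul_cancel₀ _ hαT
  have hc₁T : c₁ + σ c₁ = 0 := by
    rw [hc₁, map_sub, map_div₀, hσc₂]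
    field_simp
    linear_combination -e2
  set a₁ := a + c₁ * b with ha₁
  have e1 : c₂ * a₁ = b' - b := by
    rw [ha₁, hc₁, hα, ht]
    field_simp
    ring
  set c₃ := (a' - a₁) / b' with hc₃
  have hc₃T : c₃ + σ c₃ = 0 := by
    rw [hc₃, map_div₀, map_sub, div_add_div _ _ hb'0 hσb', div_eq_zero_iff]
    left
    have h1 := trace_shear hK hc₁T a b
    have h2 := trace_shear hK hc₂T b a₁
    rw [e1, add_sub_cancel] at h2
    rw [← ha₁] at h1
    linear_combination hN' - h1 - h2
  obtain ⟨g₁, hg₁, h₁⟩ := shear_mem hK hu hc₁T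
  obtain ⟨g₂, hg₂, h₂⟩ := shear_mem hK hv hc₂T
  obtain ⟨g₃, hg₃, h₃⟩ := shear_mem hK hu hc₃T
  have hvu : hh v u = 1 := by rw [hf.herm, huv, map_one]
  refine ⟨g₃ * g₂ * g₁, mul_mem (mul_mem hg₃ hg₂) hg₁, ?_⟩
  simp only [mul_mulVec, h₁, h₂, h₃, hf.add_left, hf.smul_left, hu.1, huv, hvu, ha, hb, mul_one,
    mul_zero, add_zero, ← ha₁, e1, add_sub_cancel]
  rw [hc₃, div_mul_cancel₀ _ hb'0, ha₁]
  module

/-- The shears of a hyperbolic pair of full centres are transitive on the coordinates of given nonzero norm. -/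
lemma reach {u v : Fin 3 → K} (hu : UTv.Full q M u) (hv : UTv.Full q M v) (huv : hh u v = 1)
    {x : Fin 3 → K} {a b a' b' : K} (ha : hh x v = a) (hb : hh x u = b)
    (hN : a * σ b + b * σ a ≠ 0) (hN' : a' * σ b' + b' * σ a' = a * σ b + b * σ a) :
    ∃ g ∈ M, (g : Matrix (Fin 3) (Fin 3) K) *ᵥ x = x + (a' - a) • u + (b' - b) • v := by
  have hf := isUnitaryForm hK (n := 3)
  by_cases hgen : σ (b' / b) = b' / b
  swap
  · exact reach_generic hK hu hv huv ha hb hN hN' hgen
  obtain ⟨c, hc0, hc⟩ := CfsgLib.Unitary.exists_skew hK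
  have hcT : c + σ c = 0 := by
    rw [frobEquiv_apply]; linear_combination hc
  have hb0 : b ≠ 0 := by rintro h; rw [h] at hN; simp at hN
  have hb'0 : b' ≠ 0 := by
    rintro h; rw [h] at hN'; exact hN (by simpa using hN'.symm)
  have hN1 : a * σ (b + c * a) + (b + c * a) * σ a = a * σ b + b * σ a := by
    linear_combination trace_shear hK hcT b a
  obtain ⟨g₀, hg₀, h₀⟩ := shear_mem hK hv hcT
  have hgen' : σ (b' / (b + c * a)) ≠ b' / (b + c * a) := by
    intro h
    rw [map_div₀] at h hgen
    have hσb : σ b ≠ 0 := (map_ne_zero _).2 hb0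
    rw [div_eq_div_iff hσb hb0] at hgen
    rcases eq_or_ne (b + c * a) 0 with hz | hz
    · rw [hz] at hN1; exact hN (by simpa using hN1.symm)
    rw [div_eq_div_iff ((map_ne_zero _).2 hz) hz, map_add, map_mul] at h
    have e : σ b' * (c * (a * σ b + b * σ a)) = 0 := by
      linear_combination (σ b) * h - (σ b + σ c * σ a) * hgen
        + (σ b' * b * σ a) * hcT
    rcases mul_eq_zero.1 e with e' | e'
    · exact hb'0 ((map_eq_zero _).1 e')
    · rcases mul_eq_zero.1 e' with e'' | e''
      · exact hc0 e''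
      · exact hN e''
  have hvu : hh v u = 1 := by rw [hf.herm, huv, map_one]
  set y := x + (c * a) • v with hy
  have hay : hh y v = a := by rw [hy, hf.add_left, hf.smul_left, hv.1, mul_zero, add_zero, ha]
  have hby : hh y u = b + c * a := by rw [hy, hf.add_left, hf.smul_left, hvu, mul_one, hb]
  obtain ⟨g, hg, h⟩ := reach_generic hK hu hv huv hay hby (hN1.symm ▸ hN) (hN'.trans hN1.symm) hgen'
  refine ⟨g * g₀, mul_mem hg hg₀, ?_⟩
  rw [mul_mulVec, h₀, ha, h, hy]
  module

/-- Two joined full centres and a third one off their secant give all of `SU₃(q)`. -/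
theorem suGL_le (hq : 3 ≤ q) (hM : M ≤ UTv.suGL 3 K q) {u v w : Fin 3 → K} (hu : UTv.Full q M u)
    (hv : UTv.Full q M v) (hw : UTv.Full q M w) (huv : hh u v ≠ 0)
    (hw' : w ∉ Submodule.span K {u, v}) : UTv.suGL 3 K q ≤ M := by
  have hf := isUnitaryForm hK (n := 3)
  -- scale to a hyperbolic pair
  suffices H : ∀ u : Fin 3 → K, UTv.Full q M u → hh u v = 1 → w ∉ Submodule.span K {u, v} →
      UTv.suGL 3 K q ≤ M by
    refine H ((hh u v)⁻¹ • u) (full_smul hK hu _)
      (by rw [hf.smul_left, inv_mul_cancel₀ huv]) fun h => hw' ?_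
    refine Submodule.span_le.2 ?_ h
    intro x hx
    rcases hx with rfl | rfl
    · exact Submodule.smul_mem _ _ (Submodule.subset_span (Set.mem_insert u _))
    · exact Submodule.subset_span (Set.mem_insert_of_mem u rfl)
  clear hu huv hw' u
  intro u hu huv hw'
  have hvu : hh v u = 1 := by rw [hf.herm, huv, map_one]
  refine UTv.suGL_le_of_full' hK (by norm_num) (fun h => by omega) fun x hx => ?_
  -- coordinates
  have hli : LinearIndependent K ![w, u, v] := by
    refine LinearIndependent.finCons (LinearIndependent.pair_iff.2 fun r s h => ?_) ?_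
    · have h1 := congrArg (fun z => hh z v) h
      have h2 := congrArg (fun z => hh z u) h
      have h0 : hh (0 : Fin 3 → K) v = 0 := by rw [← zero_smul K v, hf.smul_left, zero_mul]
      have h0' : hh (0 : Fin 3 → K) u = 0 := by rw [← zero_smul K u, hf.smul_left, zero_mul]
      simp only [hf.add_left, hf.smul_left, huv, hvu, hu.1, hv.1, mul_one, mul_zero, add_zero, zero_add,
        h0, h0'] at h1 h2
      exact ⟨h1, h2⟩
    · rwa [Matrix.range_cons_cons_empty]
  have hcoord : ∀ z : Fin 3 → K, ∃ γ r s : K, z = γ • w + r • u + s • v := by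
    intro z
    have hb := hli.span_eq_top_of_card_eq_finrank (by simp)
    have hz : z ∈ Submodule.span K (Set.range ![w, u, v]) := hb ▸ Submodule.mem_top
    obtain ⟨c, hc⟩ := (Submodule.mem_span_range_iff_exists_fun K).1 hz
    rw [Fin.sum_univ_three] at hc
    exact ⟨c 0, c 1, c 2, hc.symm⟩
  obtain ⟨γ, r, s, rfl⟩ := hcoord x
  rcases eq_or_ne γ 0 with rfl | hγ
  · -- on the secant
    rw [zero_smul, zero_add] at hx ⊢
    rcases eq_or_ne s 0 with rfl | hs
    · rw [zero_smul, add_zero]
      exact full_smul hK hu r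
    have e : r • u + s • v = s • (v + (r / s) • u) := by
      rw [smul_add, smul_smul, mul_div_cancel₀ _ hs, add_comm]
    rw [e] at hx ⊢
    refine full_smul hK (full_add_smul hK hM hu hv (by rw [hvu]; exact one_ne_zero) _ ?_) s
    rw [hf.smul_left, Unit.smul_right hf] at hx
    exact ((mul_eq_zero.1 hx).resolve_left hs |> mul_eq_zero.1).resolve_left ((map_ne_zero _).2 hs)
  -- off the secant: a conjugate of `w`
  set a := hh w v with ha
  set b := hh w u with hb
  have huw : hh u w = σ b := by rw [hb, hf.herm]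
  have hvw : hh v w = σ a := by rw [ha, hf.herm]
  have hN : a * σ b + b * σ a ≠ 0 := by
    intro hN
    set n := w + (-a) • u + (-b) • v with hn
    have h1 : hh n v = 0 := by
      rw [hn, hf.add_left, hf.add_left, hf.smul_left, hf.smul_left, huv, hv.1]; ring
    have h2 : hh n u = 0 := by
      rw [hn, hf.add_left, hf.add_left, hf.smul_left, hf.smul_left, hvu, hu.1]; ring
    have h3 : hh n w = 0 := by
      rw [hn, hf.add_left, hf.add_left, hf.smul_left, hf.smul_left, hw.1, huw, hvw]
      linear_combination -hN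
    have hn0 : n ≠ 0 := by
      intro h
      refine hw' (Submodule.mem_span_pair.2 ⟨a, b, ?_⟩)
      have hwe : w = n + (a • u + b • v) := by rw [hn]; module
      rw [hwe, h, zero_add]
    obtain ⟨⟨y, hy⟩, -⟩ := hf.nondegenerate n hn0
    obtain ⟨γ', r', s', rfl⟩ := hcoord y
    apply hy
    rw [hf.herm]
    simp only [Unit.add_right hf, Unit.smul_right hf, h1, h2, h3, mul_zero, add_zero, map_zero]
  have e : γ • w + r • u + s • v = γ • (w + (r / γ) • u + (s / γ) • v) := by
    simp only [smul_add, smul_smul, mul_div_cancel₀ _ hγ]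
  rw [e] at hx ⊢
  rw [hf.smul_left, Unit.smul_right hf] at hx
  have hiso := ((mul_eq_zero.1 hx).resolve_left hγ |> mul_eq_zero.1).resolve_left ((map_ne_zero _).2 hγ)
  simp only [hf.add_left, Unit.add_right hf, hf.smul_left, Unit.smul_right hf, hw.1, hu.1, hv.1, huv, hvu,
    huw, hvw, ← ha, ← hb, mul_one, mul_zero, add_zero, zero_add] at hiso
  have hN' : (a + r / γ) * σ (b + s / γ) + (b + s / γ) * σ (a + r / γ) = a * σ b + b * σ a := by
    rw [map_add, map_add]
    linear_combination hiso
  obtain ⟨g, hg, hgw⟩ := reach hK hu hv huv (x := w) rfl rfl hN hN'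
  have := full_conj hK hM hw hg
  rw [hgw, add_sub_cancel_left, add_sub_cancel_left] at this
  exact full_smul hK this γ

end CfsgLib.Geo.D3
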