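/-
Groups generated by transvections in dimension three without single incidences are special unitary groups.
-/
import Cfsg.Agent.Geo.DimThree.Gauge
import Cfsg.Agent.Geo.DimThree.UnitFull

set_option autoImplicit false

namespace CfsgLib.Geo.D3

open Matrix Cfsg Cfsg.Geo CfsgLib.Geo CfsgLib.Geo.SL3

variable {F : Type*} [Field F] {M : Subgroup (GL (Fin 3) F)} {K : Subfield F}

lemma UHyp.inBasis (hU : UHyp M K) (g : GL (Fin 3) F) : UHyp (D3.inBasis M g) K := by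
  have hT : ∀ {w ψ : Fin 3 → F}, IsT (D3.inBasis M g) w ψ →
      IsT M ((g : Matrix (Fin 3) (Fin 3) F) *ᵥ w) (ψ ᵥ* ((g⁻¹ : GL (Fin 3) F) : Matrix (Fin 3) (Fin 3) F)) :=
    fun {w ψ} h => by
      have := h.inBasis g⁻¹
      rwa [inBasis_inv_self, inv_inv] at this
  refine ⟨fun v φ w ψ h h' e0 => ?_, fun v φ h => ?_, fun v φ w ψ h h' => ?_⟩
  · have := hU.noSingle _ _ _ _ (hT h) (hT h') (by rw [vecMul_dotProduct_mulVec]; exact e0)
    rwa [vecMul_dotProduct_mulVec] at this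
  · rw [← hU.root_eq _ _ (hT h)]
    refine Set.ext fun s => ?_
    rw [SetLike.mem_coe, SetLike.mem_coe, mem_root, mem_root, hasTv_inBasis, Matrix.mulVec_smul]
  · have := hU.aval_mem _ _ _ _ (hT h) (hT h')
    simpa only [aval, vecMul_dotProduct_mulVec] using this

/-- The field of squared order. -/
lemma exists_quadratic [Finite F] {b : F} (hb : b ∉ K) (hb2 : (b ^ Nat.card K) ^ Nat.card K = b) :
    ∃ K2 : Subfield F, Nat.card K2 = Nat.card K ^ 2 ∧ (∀ x ∈ K, x ∈ K2) ∧ b ∈ K2 ∧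
      ∀ x : F, (x ^ Nat.card K) ^ Nat.card K = x → x ∈ K2 := by
  classical
  obtain ⟨σ, hσ⟩ := exists_frobenius K
  let K2 : Subfield F := RingHom.eqLocusField (σ.comp σ) (RingHom.id F)
  have hmem : ∀ x, x ∈ K2 ↔ (x ^ Nat.card K) ^ Nat.card K = x := fun x => by
    show σ (σ x) = x ↔ _
    rw [hσ, hσ]
  have hK : ∀ x ∈ K, x ∈ K2 := fun x hx => (hmem x).2 (by rw [pow_card_of_mem hx, pow_card_of_mem hx])
  have hbK : b ∈ K2 := (hmem b).2 hb2
  refine ⟨K2, le_antisymm ?_ ?_, hK, hbK, fun x hx => (hmem x).2 hx⟩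
  · haveI := Fintype.ofFinite K2
    have hq : 1 < Nat.card K ^ 2 := Nat.one_lt_pow two_ne_zero Finite.one_lt_card
    set f : Polynomial K2 := Polynomial.X ^ (Nat.card K ^ 2) - Polynomial.X with hf
    have hne : f ≠ 0 := FiniteField.X_pow_card_sub_X_ne_zero K2 hq
    have hS : (Finset.univ : Finset K2) ⊆ f.roots.toFinset := fun y _ => by
      rw [Multiset.mem_toFinset, Polynomial.mem_roots hne]
      have e : y ^ (Nat.card K ^ 2) = y := Subtype.ext (by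
        rw [SubmonoidClass.coe_pow, pow_two, pow_mul]; exact (hmem _).1 y.2)
      simp [hf, e]
    have h1 := (Finset.card_le_card hS).trans f.roots.toFinset_card_le |>.trans f.card_roots'
    rw [Finset.card_univ, ← Nat.card_eq_fintype_card, hf, FiniteField.X_pow_card_sub_X_natDegree_eq K2 hq] at h1
    exact h1
  · rw [pow_two, ← Nat.card_prod]
    refine Nat.card_le_card_of_injective
      (fun p : K × K => (⟨p.1 + p.2 * b, K2.add_mem (hK _ p.1.2) (K2.mul_mem (hK _ p.2.2) hbK)⟩ : K2)) ?_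
    rintro ⟨x, y⟩ ⟨x', y'⟩ h
    have e : (x : F) + y * b = x' + y' * b := congrArg Subtype.val h
    have hy : y = y' := by
      by_contra hne
      have hne' : (y : F) - y' ≠ 0 := sub_ne_zero.2 fun h => hne (Subtype.ext h)
      refine hb ?_
      rw [show b = ((x' : F) - x) / (y - y') by rw [eq_div_iff hne']; linear_combination e]
      exact K.div_mem (K.sub_mem x'.2 x.2) (K.sub_mem y.2 y'.2)
    subst hy
    exact Prod.ext (Subtype.ext (add_right_cancel e)) rfl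

/-- The hermitian function of a matrix. -/
def fH {L : Type*} [Field L] (σ : L ≃+* L) (H : Matrix (Fin 3) (Fin 3) L) (x y : Fin 3 → L) : L :=
  x ⬝ᵥ (H *ᵥ (σ ∘ y))

lemma fH_add_left {L : Type*} [Field L] (σ : L ≃+* L) (H : Matrix (Fin 3) (Fin 3) L) (x z y : Fin 3 → L) (c : L) :
    fH σ H (x + c • z) y = fH σ H x y + c * fH σ H z y := by
  simp [fH, add_dotProduct, smul_dotProduct]

lemma fH_add_right {L : Type*} [Field L] (σ : L ≃+* L) (H : Matrix (Fin 3) (Fin 3) L) (x z y : Fin 3 → L) (c : L) :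
    fH σ H x (y + c • z) = fH σ H x y + σ c * fH σ H x z := by
  have : σ ∘ (y + c • z) = σ ∘ y + σ c • (σ ∘ z) := by funext i; simp
  simp [fH, this, Matrix.mulVec_add, Matrix.mulVec_smul, dotProduct_add, dotProduct_smul]

lemma fH_swap {L : Type*} [Field L] (σ : L ≃+* L) (hinv : ∀ a, σ (σ a) = a) {H : Matrix (Fin 3) (Fin 3) L}
    (hH : Hᵀ = H.map σ) (x y : Fin 3 → L) : σ (fH σ H x y) = fH σ H y x := by
  simp only [fH, dotProduct, Matrix.mulVec, map_sum, map_mul, Function.comp_apply, hinv, Finset.mul_sum]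
  rw [Finset.sum_comm]
  refine Finset.sum_congr rfl fun i _ => Finset.sum_congr rfl fun j _ => ?_
  have e := congrFun (congrFun hH i) j
  simp only [Matrix.transpose_apply, Matrix.map_apply] at e
  rw [← show H i j = σ (H j i) by rw [e, hinv]]
  ring

/-- Rational coordinates of a gauge: every transvection preserves one hermitian matrix over the quadratic field. -/
structure GaugeData (M : Subgroup (GL (Fin 3) F)) (K2 : Subfield F) (σ : K2 ≃+* K2)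
    (H : Matrix (Fin 3) (Fin 3) K2) : Prop where
  herm : Hᵀ = H.map σ
  unit : IsUnit H
  rep : ∀ v φ : Fin 3 → F, IsT M v φ → ∃ (v0 φ0 : Fin 3 → K2) (h : φ0 ⬝ᵥ v0 = 0) (h' : φ ⬝ᵥ v = 0),
    Matrix.GeneralLinearGroup.map (n := Fin 3) (K2.subtype : K2 →+* F) (tvec v0 φ0 h) = tvec v φ h' ∧
      ∀ x y : Fin 3 → K2, fH σ H (x + (φ0 ⬝ᵥ x) • v0) (y + (φ0 ⬝ᵥ y) • v0) = fH σ H x y

/-- The hermitian gauge. -/
theorem exists_gauge [Finite F] (hM : Hyp M) (hU : UHyp M K) {v φ w ψ : Fin 3 → F} (ht : IsT M v φ)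
    (hx : IsT M w ψ) (ha : aval v φ w ψ ≠ 0) :
    ∃ (g : GL (Fin 3) F) (K2 : Subfield F) (hK2 : Nat.card K2 = Nat.card K ^ 2) (H : Matrix (Fin 3) (Fin 3) K2)
      (a : Fin 3 → Fin 3 → F), (∀ x ∈ K, x ∈ K2) ∧ (∀ i, IsT (D3.inBasis M g) (e F i) (a i)) ∧ a 0 1 ≠ 0 ∧
      GaugeData (D3.inBasis M g) K2 (UTv.frobEquiv hK2) H := by
  obtain ⟨z, ζ, hz, hli, hne⟩ := exists_third hM ht hx ha
  obtain ⟨e1, e2⟩ := hU.cyc3_frob ht hx hz
  set b := cyc3 v φ w ψ z ζ with hb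
  set b' := cyc3 w ψ v φ z ζ with hb'
  have hbK : b ∉ K := fun h => hne (by rw [pow_card_of_mem h] at e1; rw [e1, neg_add_cancel])
  have hb0 : b ≠ 0 := fun h => hbK (h ▸ K.zero_mem)
  have hb'0 : b' ≠ 0 := fun h => hb0 (by
    rw [h, zero_pow Nat.card_pos.ne'] at e2
    simpa using e2.symm)
  have hc1 : φ ⬝ᵥ w ≠ 0 := left_ne_zero_of_mul ha
  have hc2 : φ ⬝ᵥ z ≠ 0 := fun h => hb'0 (by rw [hb', cyc3, h, mul_zero, zero_mul])
  have hl1 : (φ ⬝ᵥ w)⁻¹ ≠ 0 := inv_ne_zero hc1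
  have hl2 : (φ ⬝ᵥ z)⁻¹ ≠ 0 := inv_ne_zero hc2
  obtain ⟨g, hg⟩ := exists_gl_cols (b := ![v, (φ ⬝ᵥ w)⁻¹ • w, (φ ⬝ᵥ z)⁻¹ • z]) (by
    rw [Fintype.linearIndependent_iff] at hli ⊢
    intro f hf
    have := hli ![f 0, f 1 * (φ ⬝ᵥ w)⁻¹, f 2 * (φ ⬝ᵥ z)⁻¹] (by
      simpa [Fin.sum_univ_three, smul_smul] using hf)
    intro i
    have h0 := this 0; have h1 := this 1; have h2 := this 2
    fin_cases i
    · simpa using h0
    · simpa [hl1] using h1
    · simpa [hl2] using h2)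
  have hgi : ∀ i, ((g⁻¹ : GL (Fin 3) F) : Matrix (Fin 3) (Fin 3) F) *ᵥ
      (![v, (φ ⬝ᵥ w)⁻¹ • w, (φ ⬝ᵥ z)⁻¹ • z] i) = e F i := fun i => by rw [← hg, inv_mulVec_mulVec]
  set a : Fin 3 → Fin 3 → F := ![φ ᵥ* (g : Matrix (Fin 3) (Fin 3) F),
    ((φ ⬝ᵥ w)⁻¹⁻¹ • ψ) ᵥ* (g : Matrix (Fin 3) (Fin 3) F), ((φ ⬝ᵥ z)⁻¹⁻¹ • ζ) ᵥ* (g : Matrix (Fin 3) (Fin 3) F)] with hadef
  have haT : ∀ i, IsT (D3.inBasis M g) (e F i) (a i) := by
    intro i
    fin_cases i
    · have := ht.inBasis g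
      rwa [show v = ![v, (φ ⬝ᵥ w)⁻¹ • w, (φ ⬝ᵥ z)⁻¹ • z] 0 from rfl, hgi] at this
    · have := (hx.smul hl1).inBasis g
      rwa [show (φ ⬝ᵥ w)⁻¹ • w = ![v, (φ ⬝ᵥ w)⁻¹ • w, (φ ⬝ᵥ z)⁻¹ • z] 1 from rfl, hgi] at this
    · have := (hz.smul hl2).inBasis g
      rwa [show (φ ⬝ᵥ z)⁻¹ • z = ![v, (φ ⬝ᵥ w)⁻¹ • w, (φ ⬝ᵥ z)⁻¹ • z] 2 from rfl, hgi] at this
  have haij : ∀ i j, a i j = a i ⬝ᵥ e F j := fun i j => (dot_e _ _).symm
  have hge : ∀ (θ : Fin 3 → F) (j : Fin 3), (θ ᵥ* (g : Matrix (Fin 3) (Fin 3) F)) ⬝ᵥ e F j =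
      θ ⬝ᵥ (![v, (φ ⬝ᵥ w)⁻¹ • w, (φ ⬝ᵥ z)⁻¹ • z] j) := fun θ j => by rw [← Matrix.dotProduct_mulVec, hg]
  have a01 : a 0 1 = 1 := by
    rw [haij, hadef]; simp only [Matrix.cons_val_zero]; rw [hge]; simp [hc1]
  have a02 : a 0 2 = 1 := by
    rw [haij, hadef]; simp only [Matrix.cons_val_zero]; rw [hge]; simp [hc2]
  have hU' := hU.inBasis g
  have hdiag : ∀ i, a i i = 0 := fun i => by rw [haij]; exact (haT i).dot
  have hbeq : cyc3 (e F 0) (a 0) (e F 1) (a 1) (e F 2) (a 2) = b := by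
    simp only [cyc3, hadef, Matrix.cons_val_zero, Matrix.cons_val_one, Matrix.cons_val_two, Matrix.head_cons,
      Matrix.tail_cons, hge, smul_dotProduct, dotProduct_smul, smul_eq_mul, hb]
    field_simp
  have hb'eq : cyc3 (e F 1) (a 1) (e F 0) (a 0) (e F 2) (a 2) = b' := by
    simp only [cyc3, hadef, Matrix.cons_val_zero, Matrix.cons_val_one, Matrix.cons_val_two, Matrix.head_cons,
      Matrix.tail_cons, hge, smul_dotProduct, dotProduct_smul, smul_eq_mul, hb']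
    field_simp
  simp only [cyc3, dot_e] at hbeq hb'eq
  rw [a01, one_mul] at hbeq
  rw [a02, mul_one] at hb'eq
  have a10K : a 1 0 ∈ K := by
    have := hU'.aval_mem _ _ _ _ (haT 0) (haT 1)
    rwa [aval, dot_e, dot_e, a01, one_mul] at this
  have a20K : a 2 0 ∈ K := by
    have := hU'.aval_mem _ _ _ _ (haT 0) (haT 2)
    rwa [aval, dot_e, dot_e, a02, one_mul] at this
  have a10 : a 1 0 ≠ 0 := fun h => hb'0 (by rw [← hb'eq, h, zero_mul])
  have a20 : a 2 0 ≠ 0 := fun h => hb0 (by rw [← hbeq, h, mul_zero])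
  have hb2 : (b ^ Nat.card K) ^ Nat.card K = b := by
    obtain ⟨σ, hσ⟩ := exists_frobenius K
    rw [← hσ, ← hσ, show σ b = -b' by rw [hσ]; exact e1, map_neg, hσ, e2, neg_neg]
  have hb'2 : (b' ^ Nat.card K) ^ Nat.card K = b' := by
    obtain ⟨σ, hσ⟩ := exists_frobenius K
    rw [← hσ, ← hσ, show σ b' = -b by rw [hσ]; exact e2, map_neg, hσ, e1, neg_neg]
  obtain ⟨K2, hK2, hKK2, hbK2, hfix2⟩ := exists_quadratic hbK hb2
  have hb'K2 : b' ∈ K2 := hfix2 b' hb'2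
  have haK2 : ∀ i j, a i j ∈ K2 := by
    intro i j
    fin_cases i <;> fin_cases j
    · show a 0 0 ∈ K2; rw [hdiag]; exact K2.zero_mem
    · show a 0 1 ∈ K2; rw [a01]; exact K2.one_mem
    · show a 0 2 ∈ K2; rw [a02]; exact K2.one_mem
    · exact hKK2 _ a10K
    · show a 1 1 ∈ K2; rw [hdiag]; exact K2.zero_mem
    · show a 1 2 ∈ K2
      rw [show a 1 2 = b / a 2 0 by rw [eq_div_iff a20]; exact hbeq]
      exact K2.div_mem hbK2 (hKK2 _ a20K)
    · exact hKK2 _ a20K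
    · show a 2 1 ∈ K2
      rw [show a 2 1 = b' / a 1 0 by rw [eq_div_iff a10]; linear_combination hb'eq]
      exact K2.div_mem hb'K2 (hKK2 _ a10K)
    · show a 2 2 ∈ K2; rw [hdiag]; exact K2.zero_mem
  set σ := UTv.frobEquiv hK2 with hσdef
  have hσ : ∀ x : K2, ((σ x : K2) : F) = (x : F) ^ Nat.card K := fun x => by
    rw [hσdef, UTv.frobEquiv_apply, SubmonoidClass.coe_pow]
  have hσinv : ∀ x : K2, σ (σ x) = x := (UTv.isUnitaryForm hK2 (n := 3)).involutive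
  have hσK : ∀ x : K2, (x : F) ∈ K → σ x = x := fun x hx => Subtype.ext (by rw [hσ, pow_card_of_mem hx])
  let C : Matrix (Fin 3) (Fin 3) K2 := fun i j => ⟨a i j, haK2 i j⟩
  let bb : K2 := ⟨b, hbK2⟩
  let bb' : K2 := ⟨b', hb'K2⟩
  have hσb : σ bb = -bb' := Subtype.ext (by rw [hσ, Subfield.coe_neg]; exact e1)
  have hσb' : σ bb' = -bb := Subtype.ext (by rw [hσ, Subfield.coe_neg]; exact e2)
  set δ := bb + bb' with hδdef
  have hσδ : σ δ = -δ := by rw [hδdef, map_add, hσb, hσb', neg_add, add_comm]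
  have hδ0 : δ ≠ 0 := fun h => hne (by simpa [hδdef, bb, bb'] using congrArg Subtype.val h)
  have C00 : ∀ i, C i i = 0 := fun i => Subtype.ext (hdiag i)
  have C01 : C 0 1 = 1 := Subtype.ext a01
  have C02 : C 0 2 = 1 := Subtype.ext a02
  have C10 : C 1 0 ≠ 0 := fun h => a10 (congrArg Subtype.val h)
  have C20 : C 2 0 ≠ 0 := fun h => a20 (congrArg Subtype.val h)
  have sC10 : σ (C 1 0) = C 1 0 := hσK _ a10K
  have sC20 : σ (C 2 0) = C 2 0 := hσK _ a20K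
  have eC12 : C 1 2 * C 2 0 = bb := Subtype.ext hbeq
  have eC21 : C 1 0 * C 2 1 = bb' := Subtype.ext hb'eq
  have C12 : C 1 2 ≠ 0 := fun h => hb0 (congrArg Subtype.val (show bb = 0 by rw [← eC12, h, zero_mul]))
  have C21 : C 2 1 ≠ 0 := fun h => hb'0 (congrArg Subtype.val (show bb' = 0 by rw [← eC21, h, mul_zero]))
  have s12 : σ (C 1 2) * C 2 0 = -(C 1 0 * C 2 1) := by rw [eC21, ← hσb, ← eC12, map_mul, sC20]
  have s21 : C 1 0 * σ (C 2 1) = -(C 1 2 * C 2 0) := by rw [eC12, ← hσb', ← eC21, map_mul, sC10]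
  let μ : Fin 3 → K2 := ![δ, -δ / C 1 0, -δ / C 2 0]
  have μ0 : μ 0 = δ := rfl
  have μ1 : μ 1 = -δ / C 1 0 := rfl
  have μ2 : μ 2 = -δ / C 2 0 := rfl
  have hμs : ∀ i, σ (μ i) = -μ i := by
    intro i; fin_cases i
    · exact hσδ
    · show σ (μ 1) = -μ 1
      rw [μ1, map_div₀, map_neg, hσδ, sC10, neg_neg, neg_div, neg_neg]
    · show σ (μ 2) = -μ 2
      rw [μ2, map_div₀, map_neg, hσδ, sC20, neg_neg, neg_div, neg_neg]
  have hμ0 : ∀ i, μ i ≠ 0 := by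
    intro i; fin_cases i
    · exact hδ0
    · exact div_ne_zero (neg_ne_zero.2 hδ0) C10
    · exact div_ne_zero (neg_ne_zero.2 hδ0) C20
  -- the skew symmetry of the gauge
  have hskew : ∀ i j, μ j * C j i = -(μ i * σ (C i j)) := by
    intro i j
    fin_cases i <;> fin_cases j
    · show μ 0 * C 0 0 = -(μ 0 * σ (C 0 0)); simp [C00]
    · show μ 1 * C 1 0 = -(μ 0 * σ (C 0 1))
      rw [μ0, μ1, C01, map_one, div_mul_cancel₀ _ C10, mul_one]
    · show μ 2 * C 2 0 = -(μ 0 * σ (C 0 2))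
      rw [μ0, μ2, C02, map_one, div_mul_cancel₀ _ C20, mul_one]
    · show μ 0 * C 0 1 = -(μ 1 * σ (C 1 0))
      rw [μ0, μ1, C01, sC10, div_mul_cancel₀ _ C10, neg_neg, mul_one]
    · show μ 1 * C 1 1 = -(μ 1 * σ (C 1 1)); simp [C00]
    · show μ 2 * C 2 1 = -(μ 1 * σ (C 1 2))
      rw [μ1, μ2]; field_simp; linear_combination -s12
    · show μ 0 * C 0 2 = -(μ 2 * σ (C 2 0))
      rw [μ0, μ2, C02, sC20, div_mul_cancel₀ _ C20, neg_neg, mul_one]
    · show μ 1 * C 1 2 = -(μ 2 * σ (C 2 1))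
      rw [μ1, μ2]; field_simp; linear_combination -s21
    · show μ 2 * C 2 2 = -(μ 2 * σ (C 2 2)); simp [C00]
  let H : Matrix (Fin 3) (Fin 3) K2 := fun j k => μ k * C k j
  have hHerm : Hᵀ = H.map σ := Matrix.ext fun j k => by
    show μ j * C j k = σ (μ k * C k j)
    rw [map_mul, hμs, hskew k j, neg_mul]
  have hdetC : C.det = δ := by
    rw [Matrix.det_fin_three, C00, C00, C00, C01, C02, hδdef, ← eC12, ← eC21]
    ring
  have hH : IsUnit H := by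
    have : H = Cᵀ * Matrix.diagonal μ := Matrix.ext fun j k => by
      rw [Matrix.mul_diagonal]; exact mul_comm _ _
    rw [Matrix.isUnit_iff_isUnit_det, this, Matrix.det_mul, Matrix.det_transpose, hdetC, Matrix.det_diagonal]
    exact isUnit_iff_ne_zero.2 (mul_ne_zero hδ0 (Finset.prod_ne_zero_iff.2 fun i _ => hμ0 i))
  refine ⟨g, K2, hK2, H, a, hKK2, haT, by rw [a01]; exact one_ne_zero, hHerm, hH, fun u θ hu => ?_⟩
  obtain ⟨i, hi⟩ := Function.ne_iff.1 hu.φ_ne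
  have hu' := hu.smul hi
  have hd' := hu'.dot
  have htv : tvec u θ hu.dot = tvec (θ i • u) ((θ i)⁻¹ • θ) hd' := gl_ext_mulVec fun x => by
    have hi' : θ i ≠ 0 := hi
    rw [tvec_mulVec, tvec_mulVec, smul_dotProduct, smul_smul, smul_eq_mul, mul_assoc, mul_comm (θ ⬝ᵥ x) (θ i),
      ← mul_assoc, inv_mul_cancel₀ hi', one_mul]
  suffices hmain : ∃ (v0 φ0 : Fin 3 → K2) (h : φ0 ⬝ᵥ v0 = 0),
      Matrix.GeneralLinearGroup.map (n := Fin 3) (K2.subtype : K2 →+* F) (tvec v0 φ0 h) =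
          tvec (θ i • u) ((θ i)⁻¹ • θ) hd' ∧
        ∀ x y : Fin 3 → K2, fH σ H (x + (φ0 ⬝ᵥ x) • v0) (y + (φ0 ⬝ᵥ y) • v0) = fH σ H x y by
    obtain ⟨v0, φ0, h, h1, h2⟩ := hmain
    exact ⟨v0, φ0, h, hu.dot, h1.trans htv.symm, h2⟩
  have hθi : ((θ i)⁻¹ • θ) i = 1 := by
    show (θ i)⁻¹ * θ i = 1
    exact inv_mul_cancel₀ hi
  generalize θ i • u = v' at hu' hd' ⊢
  generalize (θ i)⁻¹ • θ = φ' at hu' hd' hθi ⊢
  clear htv hu hi u θ
  have hy : ∀ j, a j ⬝ᵥ v' = ∑ k, a j k * v' k := fun j => rfl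
  have hyi0 : a i ⬝ᵥ v' ≠ 0 := fun h => by
    have := hU'.noSingle _ _ _ _ (haT i) hu' h
    rw [dot_e, hθi] at this
    exact one_ne_zero this
  have hyiK : a i ⬝ᵥ v' ∈ K := by
    have := hU'.aval_mem _ _ _ _ (haT i) hu'
    rwa [aval, dot_e, hθi, mul_one] at this
  have htri : ∀ j, (a i j * (a j ⬝ᵥ v')) ^ Nat.card K = -(a j i * (a i ⬝ᵥ v') * φ' j) ∧
      (a j i * (a i ⬝ᵥ v') * φ' j) ^ Nat.card K = -(a i j * (a j ⬝ᵥ v')) := by
    intro j
    obtain ⟨h1, h2⟩ := hU'.cyc3_frob (haT i) (haT j) hu'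
    simp only [cyc3, dot_e, hθi, mul_one] at h1 h2
    exact ⟨h1, h2⟩
  have hCne : ∀ j, j ≠ i → a i j ≠ 0 ∧ a j i ≠ 0 := by
    intro j hj
    have h12 : a 1 2 ≠ 0 := fun h => C12 (Subtype.ext h)
    have h21 : a 2 1 ≠ 0 := fun h => C21 (Subtype.ext h)
    have h01 : a 0 1 ≠ 0 := by rw [a01]; exact one_ne_zero
    have h02 : a 0 2 ≠ 0 := by rw [a02]; exact one_ne_zero
    fin_cases i <;> fin_cases j <;> first | exact absurd rfl hj | exact ⟨‹_›, ‹_›⟩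
  have hrat : ∀ j, a j ⬝ᵥ v' ∈ K2 ∧ φ' j ∈ K2 := by
    intro j
    rcases eq_or_ne j i with rfl | hj
    · exact ⟨hKK2 _ hyiK, by rw [hθi]; exact K2.one_mem⟩
    obtain ⟨n1, n2⟩ := hCne j hj
    obtain ⟨h1, h2⟩ := htri j
    obtain ⟨τ, hτ⟩ := exists_frobenius K
    have k1 : a i j * (a j ⬝ᵥ v') ∈ K2 := hfix2 _ (by
      rw [h1, ← hτ, map_neg, hτ, h2, neg_neg])
    have k2 : a j i * (a i ⬝ᵥ v') * φ' j ∈ K2 := hfix2 _ (by
      rw [h2, ← hτ, map_neg, hτ, h1, neg_neg])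
    constructor
    · have := K2.div_mem k1 (haK2 i j)
      rwa [mul_div_cancel_left₀ _ n1] at this
    · have := K2.div_mem k2 (K2.mul_mem (haK2 j i) (hKK2 _ hyiK))
      rwa [mul_div_cancel_left₀ _ (mul_ne_zero n2 hyi0)] at this
  let y0 : Fin 3 → K2 := fun j => ⟨a j ⬝ᵥ v', (hrat j).1⟩
  let φ0 : Fin 3 → K2 := fun j => ⟨φ' j, (hrat j).2⟩
  have hCu : IsUnit C.det := by rw [hdetC]; exact isUnit_iff_ne_zero.2 hδ0
  let v0 : Fin 3 → K2 := C⁻¹ *ᵥ y0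
  have hCv0 : C *ᵥ v0 = y0 := by rw [Matrix.mulVec_mulVec, Matrix.mul_nonsing_inv _ hCu, Matrix.one_mulVec]
  have hv0 : (fun k => (v0 k : F)) = v' := by
    have hinj : Function.Injective (C.map (K2.subtype : K2 →+* F)).mulVec := by
      rw [Matrix.mulVec_injective_iff_isUnit, Matrix.isUnit_iff_isUnit_det, ← RingHom.mapMatrix_apply,
        ← RingHom.map_det]
      exact hCu.map _
    refine hinj (funext fun j => ?_)
    have := congrArg Subtype.val (congrFun hCv0 j)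
    simp only [Matrix.mulVec, dotProduct] at this ⊢
    rw [AddSubmonoidClass.coe_finsetSum] at this
    exact this
  have hφv : φ0 ⬝ᵥ v0 = 0 := Subtype.ext (by
    have : ((φ0 ⬝ᵥ v0 : K2) : F) = φ' ⬝ᵥ v' := by
      rw [← hv0]; exact RingHom.map_dotProduct (K2.subtype : K2 →+* F) φ0 v0
    rw [this, hd']; rfl)
  refine ⟨v0, φ0, hφv, ?_, ?_⟩
  · have h' : (fun k => (φ0 k : F)) ⬝ᵥ (fun k => (v0 k : F)) = 0 := by rw [hv0]; exact hd'
    rw [map_tvec hφv h']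
    exact gl_ext_mulVec fun x => by rw [tvec_mulVec, tvec_mulVec, hv0]
  -- isometry
  set ρ := (μ i * y0 i)⁻¹ with hρdef
  have hyi : y0 i ≠ 0 := fun h => hyi0 (congrArg Subtype.val h)
  have hρ : σ ρ = -ρ := by
    rw [hρdef, map_inv₀, map_mul, hμs, hσK (y0 i) hyiK, neg_mul, inv_neg]
  have hz : ∀ j, φ0 j = ρ * (μ j * σ (y0 j)) := by
    intro j
    rcases eq_or_ne j i with rfl | hj
    · rw [hσK (y0 j) hyiK, hρdef, inv_mul_cancel₀ (mul_ne_zero (hμ0 j) hyi)]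
      exact Subtype.ext hθi
    · obtain ⟨n1, n2⟩ := hCne j hj
      have h1 : σ (C i j * y0 j) = -(C j i * y0 i * φ0 j) := Subtype.ext (by
        rw [hσ]; exact (htri j).1)
      rw [map_mul] at h1
      have h2 := hskew i j
      have hρy : ρ * (μ i * y0 i) = 1 := inv_mul_cancel₀ (mul_ne_zero (hμ0 i) hyi)
      have n2' : C j i ≠ 0 := fun h => n2 (congrArg Subtype.val h)
      refine mul_left_cancel₀ n2' ?_
      linear_combination (-(C j i * φ0 j)) * hρy + (ρ * μ i) * h1 + (-(ρ * σ (y0 j))) * h2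
  intro x y
  have hHv : H *ᵥ (σ ∘ v0) = fun j => -(μ j * σ (y0 j)) := funext fun j => by
    have e := congrFun hCv0 j
    simp only [Matrix.mulVec, dotProduct] at e
    show ∑ k, μ k * C k j * σ (v0 k) = _
    rw [← e, map_sum, Finset.mul_sum, ← Finset.sum_neg_distrib]
    refine Finset.sum_congr rfl fun k _ => ?_
    rw [map_mul, hskew j k]; ring
  have hxv : ∀ x, fH σ H x v0 * ρ = -(φ0 ⬝ᵥ x) := fun x => by
    rw [fH, hHv]
    simp only [dotProduct, Finset.sum_mul, ← Finset.sum_neg_distrib]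
    exact Finset.sum_congr rfl fun j _ => by rw [hz j]; ring
  have hρ0 : ρ ≠ 0 := inv_ne_zero (mul_ne_zero (hμ0 i) hyi)
  have hvx : ∀ y, fH σ H v0 y * ρ = σ (φ0 ⬝ᵥ y) := fun y => by
    have := congrArg σ (hxv y)
    rw [map_mul, fH_swap σ hσinv hHerm, hρ, map_neg] at this
    linear_combination -this
  have hvv : fH σ H v0 v0 = 0 := by
    have := hxv v0
    rw [hφv, neg_zero] at this
    exact (mul_eq_zero.1 this).resolve_right hρ0
  refine mul_right_cancel₀ hρ0 ?_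
  rw [fH_add_left, fH_add_right, fH_add_right, hvv]
  linear_combination (σ (φ0 ⬝ᵥ y)) * hxv x + (φ0 ⬝ᵥ x) * hvx y

end CfsgLib.Geo.D3
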