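/-
Groups generated by transvections in dimension three: root groups of order two with a single incidence.
-/
import Cfsg.Agent.Geo.DimThree.Three
import Cfsg.Agent.Geo.DimThree.Gauge
import Cfsg.Agent.Geo.DimThree.Unitary

set_option autoImplicit false

namespace CfsgLib.Geo.D3

open Matrix Cfsg Cfsg.Geo CfsgLib.Geo CfsgLib.Geo.SL3

variable {F : Type*} [Field F] {M : Subgroup (GL (Fin 3) F)} {K : Subfield F}

/-- A transvection completely irrational with respect to the triangle over the field of two elements. -/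
structure Irr (M : Subgroup (GL (Fin 3) F)) (v φ : Fin 3 → F) : Prop where
  isT : IsT M v φ
  v2 : v 2 = 1
  v1_0 : v 1 ≠ 0
  v1_1 : v 1 ≠ 1
  φ0 : φ 0 ≠ 0
  φ1_0 : φ 1 ≠ 0
  φ1_1 : φ 1 ≠ φ 0

/-- Some triangle has a completely irrational transvection. -/
def HasIrr (M : Subgroup (GL (Fin 3) F)) : Prop :=
  ∃ (g : GL (Fin 3) F) (v φ : Fin 3 → F), Tri (inBasis M g) ∧ Irr (inBasis M g) v φ

/-! ### The dual in reversed coordinates -/

/-- Reversed coordinates. -/
def rv (x : Fin 3 → F) : Fin 3 → F := ![x 2, x 1, x 0]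

lemma rv_rv (x : Fin 3 → F) : rv (rv x) = x := by funext i; fin_cases i <;> rfl

lemma rv_e0 : rv (e F 0) = e F 2 := by funext i; fin_cases i <;> simp [rv, e]

lemma rv_e1 : rv (e F 1) = e F 1 := by funext i; fin_cases i <;> simp [rv, e]

lemma rv_e2 : rv (e F 2) = e F 0 := by funext i; fin_cases i <;> simp [rv, e]

/-- The coordinate reversal. -/
def revGL (F : Type*) [Field F] : GL (Fin 3) F where
  val := Matrix.of ![e F 2, e F 1, e F 0]
  inv := Matrix.of ![e F 2, e F 1, e F 0]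
  val_inv := by ext i j; fin_cases i <;> fin_cases j <;> simp [Matrix.mul_apply, Fin.sum_univ_three, e]
  inv_val := by ext i j; fin_cases i <;> fin_cases j <;> simp [Matrix.mul_apply, Fin.sum_univ_three, e]

lemma revGL_inv : (revGL F)⁻¹ = revGL F := Units.ext rfl

lemma revGL_mulVec (x : Fin 3 → F) : (revGL F : Matrix (Fin 3) (Fin 3) F) *ᵥ x = rv x := by
  funext i; fin_cases i <;> simp [revGL, rv, Matrix.mulVec, e]

lemma vecMul_revGL (x : Fin 3 → F) : x ᵥ* (revGL F : Matrix (Fin 3) (Fin 3) F) = rv x := by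
  funext i; fin_cases i <;> simp [revGL, rv, Matrix.vecMul, dotProduct, Fin.sum_univ_three, e]

/-- The dual group in reversed coordinates. -/
abbrev rev (M : Subgroup (GL (Fin 3) F)) : Subgroup (GL (Fin 3) F) := inBasis (M.map Plane.dual) (revGL F)

lemma hasTv_rev {a b : Fin 3 → F} : HasTv (rev M) (rv a) (rv b) ↔ HasTv M b a := by
  rw [hasTv_inBasis, revGL_inv, revGL_mulVec, vecMul_revGL, rv_rv, rv_rv, Plane.hasTv_dual]

lemma isT_rev {a b : Fin 3 → F} : IsT (rev M) (rv a) (rv b) ↔ IsT M b a := by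
  have hne : ∀ x : Fin 3 → F, rv x ≠ 0 ↔ x ≠ 0 := fun x => by
    refine not_congr ⟨fun h => ?_, fun h => ?_⟩
    · rw [← rv_rv x, h]; funext i; fin_cases i <;> rfl
    · rw [h]; funext i; fin_cases i <;> rfl
  exact ⟨fun h => ⟨(hne b).1 h.φ_ne, (hne a).1 h.v_ne, hasTv_rev.1 h.mem⟩,
    fun h => ⟨(hne a).2 h.φ_ne, (hne b).2 h.v_ne, hasTv_rev.2 h.mem⟩⟩

lemma Tri.rev (hT : Tri M) : Tri (D3.rev M) := by
  refine ⟨?_, ?_, ?_⟩
  · rw [← rv_e2, ← rv_e1, isT_rev]; exact hT.t12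
  · rw [← rv_e1 (F := F), ← rv_e0, isT_rev]; exact hT.t01
  · have := isT_rev.2 hT.t02
    rwa [rv_e2, rv_e0] at this

lemma root_rev (a b : Fin 3 → F) : root (rev M) (rv a) (rv b) = root M b a := by
  ext s
  rw [mem_root, mem_root, show s • rv a = rv (s • a) from funext fun i => by fin_cases i <;> rfl, hasTv_rev]
  rcases eq_or_ne s 0 with rfl | hs
  · simp only [zero_smul]; exact ⟨fun _ => hasTv_zero_left M a, fun _ => hasTv_zero_right M b⟩
  · exact (hasTv_smul_iff s hs).symm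

lemma root_eq_rev (hroot : ∀ v φ : Fin 3 → F, IsT M v φ → (root M v φ : Set F) = K) :
    ∀ v φ : Fin 3 → F, IsT (rev M) v φ → (root (rev M) v φ : Set F) = K := by
  intro v φ h
  rw [← rv_rv v, ← rv_rv φ, isT_rev] at h
  have := hroot _ _ h
  rwa [← root_rev, rv_rv, rv_rv] at this

lemma root_eq_inBasis (hroot : ∀ v φ : Fin 3 → F, IsT M v φ → (root M v φ : Set F) = K) (g : GL (Fin 3) F) :
    ∀ v φ : Fin 3 → F, IsT (inBasis M g) v φ → (root (inBasis M g) v φ : Set F) = K := fun v φ h => by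
  rw [root_inBasis]; exact hroot _ _ h.of_inBasis

/-- A common basis change for a transvection of the reversed dual. -/
lemma isT_of_rev {g : GL (Fin 3) F} {a b : Fin 3 → F} (h : IsT (inBasis (rev M) g) a b) :
    IsT (inBasis M (revGL F * Plane.dual g * revGL F)) (rv b) (rv a) := by
  have h1 : IsT M (rv (b ᵥ* ((g⁻¹ : GL (Fin 3) F) : Matrix (Fin 3) (Fin 3) F)))
      (rv ((g : Matrix (Fin 3) (Fin 3) F) *ᵥ a)) := by
    rw [← isT_rev, rv_rv, rv_rv]
    exact h.of_inBasis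
  have h2 := h1.inBasis (revGL F * Plane.dual g * revGL F)
  have e1 : (((revGL F * Plane.dual g * revGL F)⁻¹ : GL (Fin 3) F) : Matrix (Fin 3) (Fin 3) F) *ᵥ
      rv (b ᵥ* ((g⁻¹ : GL (Fin 3) F) : Matrix (Fin 3) (Fin 3) F)) = rv b := by
    simp only [_root_.mul_inv_rev, revGL_inv, mul_mulVec, revGL_mulVec, rv_rv]
    rw [← Plane.dual_mulVec, inv_mulVec_mulVec]
  have e2 : rv ((g : Matrix (Fin 3) (Fin 3) F) *ᵥ a) ᵥ*
      ((revGL F * Plane.dual g * revGL F : GL (Fin 3) F) : Matrix (Fin 3) (Fin 3) F) = rv a := by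
    simp only [Units.val_mul, ← Matrix.vecMul_vecMul, vecMul_revGL, rv_rv]
    congr 1
    show ((g : Matrix (Fin 3) (Fin 3) F) *ᵥ a) ᵥ* (((g⁻¹ : GL (Fin 3) F) : Matrix (Fin 3) (Fin 3) F))ᵀ = a
    rw [Matrix.vecMul_transpose, inv_mulVec_mulVec]
  rwa [e1, e2] at h2

/-! ### Values -/

variable [Finite F] [CharP F 2] (hK : ∀ x ∈ K, x = 0 ∨ x = 1)

include hK

/-- An irrational coordinate lies in the field with four elements. -/
theorem cubes (hroot : ∀ v φ : Fin 3 → F, IsT M v φ → (root M v φ : Set F) = K) (hT : Tri M) {v φ : Fin 3 → F}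
    (hx : IsT M v φ) (hv2 : v 2 = 1) (hφ0 : φ 0 ≠ 0) (h0 : v 1 ≠ 0) (h1 : v 1 ≠ 1) :
    φ 0 ^ 3 = 1 ∧ v 1 ^ 3 = 1 := by
  have hmem : ∀ {a b : Fin 3 → F} {s : F}, IsT M a b → HasTv M (s • a) b → s = 0 ∨ s = 1 := fun {a b s} h hs => by
    rw [← mem_root, ← SetLike.mem_coe, hroot a b h] at hs
    exact hK s hs
  have honly : ∀ θ, HasTv M (e F 0) θ → θ = 0 ∨ θ = e F 2 ∨ θ = e F 1 ∨ θ = e F 2 + e F 1 := by
    intro θ hθ
    have d0 : θ 0 = 0 := by rw [← dot_e θ 0]; exact hθ.dot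
    have c1 := HasTv.conj_tv' hθ hT.t12.mem
    rw [e_dot, show e F 0 2 = (0 : F) by simp [e], zero_smul, add_zero, dot_e] at c1
    have c2 := hθ.sub_axis c1
    rw [sub_sub_cancel] at c2
    have k1 : θ 1 = 0 ∨ θ 1 = 1 := by
      rcases eq_or_ne (θ 1) 0 with h | h
      · exact Or.inl h
      · exact hmem hT.t02 ((hasTv_smul_iff _ h).2 c2)
    have c3 : HasTv M (e F 0) (θ 2 • e F 2) := by
      have hd : θ - θ 1 • e F 1 = θ 2 • e F 2 := by funext i; fin_cases i <;> simp [e, d0]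
      rw [← hd]
      refine hθ.sub_axis ?_
      rcases k1 with h | h
      · rw [h, zero_smul]; exact hasTv_zero_right M _
      · rw [h, one_smul]; exact hT.t01.mem
    have k2 : θ 2 = 0 ∨ θ 2 = 1 := by
      rcases eq_or_ne (θ 2) 0 with h | h
      · exact Or.inl h
      · exact hmem hT.t02 ((hasTv_smul_iff _ h).2 c3)
    have hθe : θ = θ 2 • e F 2 + θ 1 • e F 1 := by funext i; fin_cases i <;> simp [e, d0]
    rcases k1 with h | h <;> rcases k2 with h' | h' <;> rw [hθe, h, h'] <;> simp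
  have hw : IsT M (φ 0 • v) ((φ 0)⁻¹ • φ) := hx.smul hφ0
  obtain ⟨p, q⟩ := four_root hT.t02 hT.t01 hw (by rw [smul_dotProduct, dot_e, smul_eq_mul, inv_mul_cancel₀ hφ0])
    (by rw [dotProduct_smul, e_dot, hv2, smul_eq_mul, mul_one]; exact hφ0)
    (by rw [dotProduct_smul, e_dot, smul_eq_mul]; exact mul_ne_zero hφ0 h0)
    (by
      rw [dotProduct_smul, dotProduct_smul, e_dot, e_dot, hv2, smul_eq_mul, smul_eq_mul]
      exact fun h => h1 (mul_left_cancel₀ hφ0 h).symm) honly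
  rw [dotProduct_smul, e_dot, hv2, smul_eq_mul, mul_one] at p
  rw [dotProduct_smul, e_dot, smul_eq_mul, mul_pow, p, one_mul] at q
  exact ⟨p, q⟩

/-- A rational centre coordinate forces the value one. -/
lemma value_one (hroot : ∀ v φ : Fin 3 → F, IsT M v φ → (root M v φ : Set F) = K) (hT : Tri M) {v φ : Fin 3 → F}
    (hx : IsT M v φ) (hv2 : v 2 = 1) (hφ0 : φ 0 ≠ 0) (h : v 1 = 0 ∨ v 1 = 1) : φ 0 = 1 := by
  have key : ∀ w η : Fin 3 → F, IsT M w η → w 1 = 0 → w 2 = 1 → η 0 = φ 0 → φ 0 = 1 := fun w η hw a b c => by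
    have := value_mem_root hT hw a b
    rw [← SetLike.mem_coe, hroot _ _ hT.t01, c] at this
    exact (hK _ this).resolve_left hφ0
  rcases h with h | h
  · exact key v φ hx h hv2 rfl
  · exact key _ _ (hx.conj_tv hT.t12.mem) (by simp [hv2, h, CharTwo.add_self_eq_zero]) (by simp [hv2]) (by simp)

/-- Rational centre coordinate and irrational axis coordinate give a completely irrational transvection. -/
theorem hasIrr_of_mixed (hroot : ∀ v φ : Fin 3 → F, IsT M v φ → (root M v φ : Set F) = K) (hT : Tri M)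
    {v φ : Fin 3 → F} (hx : IsT M v φ) (hv2 : v 2 = 1) (hφ0 : φ 0 ≠ 0) (h : v 1 = 0 ∨ v 1 = 1)
    (h10 : φ 1 ≠ 0) (h11 : φ 1 ≠ φ 0) : HasIrr M := by
  have hone := value_one hK hroot hT hx hv2 hφ0 h
  obtain ⟨w, η, hw, hw1, hw2, hη0, hη1⟩ : ∃ w η : Fin 3 → F, IsT M w η ∧ w 1 = 0 ∧ w 2 = 1 ∧ η 0 = 1 ∧ η 1 = φ 1 := by
    rcases h with h | h
    · exact ⟨v, φ, hx, h, hv2, hone, rfl⟩
    · exact ⟨_, _, hx.conj_tv hT.t12.mem, by simp [hv2, h, CharTwo.add_self_eq_zero], by simp [hv2],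
        by simp [hone], by simp⟩
  rw [hone] at h11
  set ω := φ 1
  have hgd : e F 2 ⬝ᵥ (w 0 • e F 0) = 0 := by simp
  set g0 := tvec (w 0 • e F 0) (e F 2) hgd
  have hgi : ∀ y : Fin 3 → F, ((g0⁻¹ : GL (Fin 3) F) : Matrix (Fin 3) (Fin 3) F) *ᵥ y = y - y 2 • (w 0 • e F 0) :=
    fun y => by
      show (1 - vecMulVec (w 0 • e F 0) (e F 2)) *ᵥ y = _
      rw [Matrix.sub_mulVec, Matrix.one_mulVec, Matrix.vecMulVec_mulVec, e_dot]
      funext i; simp
  have hgr : ∀ ψ : Fin 3 → F, ψ ᵥ* (g0 : Matrix (Fin 3) (Fin 3) F) = ψ + (w 0 * ψ 0) • e F 2 := fun ψ => by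
    show ψ ᵥ* (1 + vecMulVec (w 0 • e F 0) (e F 2)) = _
    rw [Matrix.vecMul_add, Matrix.vecMul_one, Matrix.vecMul_vecMulVec, dotProduct_smul, dot_e, smul_eq_mul]
  have ht : ∀ {a b : Fin 3 → F}, IsT M a b → a 2 = 0 → b 0 = 0 → IsT (inBasis M g0) a b := fun {a b} h h1 h2 => by
    have := h.inBasis g0
    rwa [hgi, hgr, h1, h2, zero_smul, sub_zero, mul_zero, zero_smul, add_zero] at this
  have t01 := ht hT.t01 (by simp) (by simp)
  have t12 := ht hT.t12 (by simp) (by simp)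
  have hx' := hw.inBasis g0
  rw [hgi, hgr] at hx'
  have hd := hw.dot
  simp only [vec3_dotProduct, hw1, hw2, hη0, mul_zero, add_zero, one_mul, mul_one] at hd
  have x : IsT (inBasis M g0) (e F 2) (e F 0 + ω • e F 1) := by
    convert hx' using 1
    · funext i; fin_cases i <;> simp [e, hw1, hw2]
    · funext i; fin_cases i <;> simp [e, hη0, hη1]
      linear_combination -hd
  have hT2 : HasTv (inBasis M g0) (e F 2) (e F 1) := by
    have := HasTv.comm x.mem t01.mem (by simp [e])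
    simpa [e] using this
  have x2 : IsT (inBasis M g0) (e F 1) (e F 0 + ω • e F 2) := by
    have := (x.conj_tv t12.mem).conj_tv hT2
    convert this using 1
    · funext i; fin_cases i <;> simp [e, CharTwo.add_self_eq_zero]
    · funext i; fin_cases i <;> simp [e, CharTwo.sub_eq_add, CharTwo.add_self_eq_zero]
  obtain ⟨g1, hg1⟩ := exists_gl_cols (b := ![e F 2, e F 0, e F 1 + ω • e F 0]) (by
    rw [Fintype.linearIndependent_iff]
    intro f hf
    rw [Fin.sum_univ_three] at hf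
    have a0 := congrFun hf 0
    have a1 := congrFun hf 1
    have a2 := congrFun hf 2
    simp [e] at a0 a1 a2
    intro i; fin_cases i
    · exact a2
    · simpa [a1] using a0
    · exact a1)
  have hgi1 : ∀ i, ((g1⁻¹ : GL (Fin 3) F) : Matrix (Fin 3) (Fin 3) F) *ᵥ
      (![e F 2, e F 0, e F 1 + ω • e F 0] i) = e F i := fun i => by rw [← hg1, inv_mulVec_mulVec]
  have hax : ∀ (θ : Fin 3 → F), θ ᵥ* (g1 : Matrix (Fin 3) (Fin 3) F) =
      fun j => θ ⬝ᵥ (![e F 2, e F 0, e F 1 + ω • e F 0] j) := fun θ => funext fun j => by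
    rw [← dot_e (θ ᵥ* (g1 : Matrix (Fin 3) (Fin 3) F)) j, ← Matrix.dotProduct_mulVec, hg1]
  have T1 := x.inBasis g1
  rw [show e F 2 = ![e F 2, e F 0, e F 1 + ω • e F 0] 0 from rfl, hgi1, hax] at T1
  have T2 := t01.inBasis g1
  rw [show e F 0 = ![e F 2, e F 0, e F 1 + ω • e F 0] 1 from rfl, hgi1, hax] at T2
  have T3 := (⟨e_ne 2, e_ne 1, hT2⟩ : IsT (inBasis M g0) _ _).inBasis g1
  rw [show e F 2 = ![e F 2, e F 0, e F 1 + ω • e F 0] 0 from rfl, hgi1, hax] at T3
  have X := x2.inBasis g1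
  have ce : ((g1⁻¹ : GL (Fin 3) F) : Matrix (Fin 3) (Fin 3) F) *ᵥ e F 1 = ω • e F 1 + e F 2 := by
    conv_rhs => rw [← hgi1 1, ← hgi1 2, ← Matrix.mulVec_smul, ← Matrix.mulVec_add]
    congr 1
    funext i; fin_cases i <;> simp [e, CharTwo.add_self_eq_zero]
  rw [ce, hax, inBasis_inBasis] at X
  rw [inBasis_inBasis] at T1 T2 T3
  refine ⟨g0 * g1, _, _, ⟨?_, ?_, ?_⟩, X, by simp [e], by simpa [e] using h10, by simpa [e] using h11,
    by simpa [e] using h10, by simp [e], by simp [e]; exact fun h => h11 h.symm⟩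
  · convert T1 using 1
    funext j; fin_cases j <;> simp [e, CharTwo.add_self_eq_zero]
  · convert T2 using 1
    funext j; fin_cases j <;> simp [e]
  · convert T3 using 1
    funext j; fin_cases j <;> simp [e]

/-- Without completely irrational transvections every opposite transvection of a triangle is rational. -/
theorem good_two (hroot : ∀ v φ : Fin 3 → F, IsT M v φ → (root M v φ : Set F) = K) (hT : Tri M)
    (hno : ¬ HasIrr M) {y η : Fin 3 → F} (hy : IsT M y η) (hy2 : y 2 ≠ 0) (hη0 : η 0 ≠ 0) :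
    y 1 / y 2 ∈ K ∧ η 0 * y 2 ∈ K ∧ η 1 * y 2 ∈ K := by
  have hx := hy.smul (inv_ne_zero hy2)
  rw [inv_inv] at hx
  set v : Fin 3 → F := (y 2)⁻¹ • y with hv
  set φ : Fin 3 → F := y 2 • η with hφ
  have hv2 : v 2 = 1 := by simp [hv, hy2]
  have hφ0 : φ 0 ≠ 0 := by simp [hφ, hy2, hη0]
  have h1 : v 1 = 0 ∨ v 1 = 1 := by
    by_contra hc
    push Not at hc
    by_cases hax : φ 1 = 0 ∨ φ 1 = φ 0
    · -- pass to the reversed dual
      have hx' := (isT_rev.2 hx).smul (inv_ne_zero hφ0)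
      rw [inv_inv] at hx'
      obtain ⟨g, a, b, hT', hI⟩ := hasIrr_of_mixed hK (root_eq_rev hroot) hT.rev hx' (by simp [rv, hφ0])
        (by simp [rv, hφ0, hv2]) (by
          rcases hax with h | h
          · exact Or.inl (by simp [rv, h])
          · exact Or.inr (by simp [rv, h, hφ0]))
        (by simp [rv, hφ0, hc.1]) (by
          simp only [rv, Pi.smul_apply, Matrix.cons_val_zero, Matrix.cons_val_one, smul_eq_mul, hv2, mul_one]
          intro h
          exact hc.2 (mul_left_cancel₀ hφ0 (h.trans (mul_one _).symm)))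
      refine hno ⟨revGL F * Plane.dual g * revGL F, (b 0)⁻¹ • rv b, (b 0)⁻¹⁻¹ • rv a, ⟨?_, ?_, ?_⟩,
        (isT_of_rev hI.isT).smul (inv_ne_zero hI.φ0), ?_, ?_, ?_, ?_, ?_, ?_⟩
      · have := isT_of_rev hT'.t12
        rwa [rv_e2, rv_e1] at this
      · have := isT_of_rev hT'.t01
        rwa [rv_e0, rv_e1] at this
      · have := isT_of_rev hT'.t02
        rwa [rv_e2, rv_e0] at this
      · simp [rv, hI.φ0]
      · simp [rv, hI.φ0, hI.φ1_0]
      · simp only [rv, Pi.smul_apply, Matrix.cons_val_one, Matrix.cons_val_zero, smul_eq_mul]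
        intro h
        refine hI.φ1_1 ?_
        field_simp [hI.φ0] at h
        exact h
      · simp [rv, hI.φ0, hI.v2]
      · simp [rv, hI.φ0, hI.v1_0]
      · simp only [rv, Pi.smul_apply, Matrix.cons_val_one, Matrix.cons_val_zero, smul_eq_mul, inv_inv, hI.v2]
        intro h
        exact hI.v1_1 (mul_left_cancel₀ hI.φ0 h)
    · push Not at hax
      refine hno ⟨1, v, φ, ?_, ?_⟩
      · rw [show inBasis M 1 = M from by ext z; simp [mem_inBasis]]; exact hT
      · rw [show inBasis M 1 = M from by ext z; simp [mem_inBasis]]; exact ⟨hx, hv2, hc.1, hc.2, hφ0, hax.1, hax.2⟩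
  have hone := value_one hK hroot hT hx hv2 hφ0 h1
  have h2 : φ 1 = 0 ∨ φ 1 = φ 0 := by
    by_contra hc
    push Not at hc
    exact hno (hasIrr_of_mixed hK hroot hT hx hv2 hφ0 h1 hc.1 hc.2)
  refine ⟨?_, ?_, ?_⟩
  · rw [← inv_mul_eq_div]
    show v 1 ∈ K
    rcases h1 with h | h <;> rw [h]
    exacts [K.zero_mem, K.one_mem]
  · rw [mul_comm]
    show φ 0 ∈ K
    rw [hone]; exact K.one_mem
  · rw [mul_comm]
    show φ 1 ∈ K
    rcases h2 with h | h <;> rw [h]
    · exact K.zero_mem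
    · rw [hone]; exact K.one_mem

/-- The values of an opposite transvection lie in the field with four elements. -/
theorem values_four {L : Subfield F} (hL : ∀ x : F, x ^ 3 = 1 → x ∈ L) (hroot : ∀ v φ : Fin 3 → F, IsT M v φ →
    (root M v φ : Set F) = K) (hT : Tri M) {v φ : Fin 3 → F} (hx : IsT M v φ) (hv2 : v 2 = 1) (hφ0 : φ 0 ≠ 0) :
    φ 0 ∈ L ∧ v 1 ∈ L ∧ φ 1 ∈ L := by
  have h0 : φ 0 ∈ L ∧ v 1 ∈ L := by
    by_cases h : v 1 = 0 ∨ v 1 = 1
    · refine ⟨by rw [value_one hK hroot hT hx hv2 hφ0 h]; exact L.one_mem, ?_⟩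
      rcases h with h | h <;> rw [h]
      exacts [L.zero_mem, L.one_mem]
    · push Not at h
      obtain ⟨a, b⟩ := cubes hK hroot hT hx hv2 hφ0 h.1 h.2
      exact ⟨hL _ a, hL _ b⟩
  refine ⟨h0.1, h0.2, ?_⟩
  by_cases h : φ 1 = 0 ∨ φ 1 = φ 0
  · rcases h with h | h <;> rw [h]
    exacts [L.zero_mem, h0.1]
  · push Not at h
    have hx' := (isT_rev.2 hx).smul (inv_ne_zero hφ0)
    rw [inv_inv] at hx'
    obtain ⟨-, b⟩ := cubes hK (root_eq_rev hroot) hT.rev hx' (by simp [rv, hφ0]) (by simp [rv, hφ0, hv2])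
      (by simp [rv, hφ0, h.1]) (by
        simp only [rv, Pi.smul_apply, Matrix.cons_val_one, Matrix.cons_val_zero, smul_eq_mul]
        intro e1
        field_simp at e1
        exact h.2 e1)
    have := L.mul_mem h0.1 (hL _ b)
    simp only [rv, Pi.smul_apply, Matrix.cons_val_one, Matrix.cons_val_zero, smul_eq_mul] at this
    rwa [← mul_assoc, mul_inv_cancel₀ hφ0, one_mul] at this

end CfsgLib.Geo.D3
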