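/-
Groups generated by transvections in dimension three with root groups of order two: realisation over the field
with four elements.
-/
import Cfsg.Agent.Geo.DimThree.Two

set_option autoImplicit false

namespace CfsgLib.Geo.D3

open Matrix Cfsg Cfsg.Geo CfsgLib.Geo CfsgLib.Geo.SL3

variable {F : Type*} [Field F] {M : Subgroup (GL (Fin 3) F)} {K : Subfield F}

lemma vecMul_tvec_inv {u θ : Fin 3 → F} (h : θ ⬝ᵥ u = 0) (ψ : Fin 3 → F) :
    ψ ᵥ* (((tvec u θ h)⁻¹ : GL (Fin 3) F) : Matrix (Fin 3) (Fin 3) F) = ψ - (ψ ⬝ᵥ u) • θ := by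
  show ψ ᵥ* (1 - vecMulVec u θ) = _
  rw [Matrix.vecMul_sub, Matrix.vecMul_one, Matrix.vecMul_vecMulVec]

lemma aval_move (g : GL (Fin 3) F) (y η w ψ : Fin 3 → F) :
    aval y η ((g : Matrix (Fin 3) (Fin 3) F) *ᵥ w) (ψ ᵥ* ((g⁻¹ : GL (Fin 3) F) : Matrix (Fin 3) (Fin 3) F)) =
      aval (((g⁻¹ : GL (Fin 3) F) : Matrix (Fin 3) (Fin 3) F) *ᵥ y) (η ᵥ* (g : Matrix (Fin 3) (Fin 3) F)) w ψ := by
  rw [aval, aval, ← Matrix.dotProduct_mulVec, ← Matrix.dotProduct_mulVec]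

/-- A class of transvections closed under conjugation by its members, whose centres and axes separate, meets
an opposite of every transvection. -/
theorem opp_of_class (C : (Fin 3 → F) → (Fin 3 → F) → Prop) (hCT : ∀ v φ, C v φ → IsT M v φ)
    (hclosed : ∀ x θ y η, C x θ → C y η → C (y + (θ ⬝ᵥ y) • x) (η - (η ⬝ᵥ x) • θ))
    (hax : ∀ z : Fin 3 → F, z ≠ 0 → ∃ v φ, C v φ ∧ φ ⬝ᵥ z ≠ 0)
    (hcen : ∀ θ : Fin 3 → F, θ ≠ 0 → ∃ v φ, C v φ ∧ θ ⬝ᵥ v ≠ 0)
    {v φ : Fin 3 → F} (ht : IsT M v φ) : ∃ w ψ, C w ψ ∧ aval v φ w ψ ≠ 0 := by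
  by_contra hc
  push Not at hc
  have hc' : ∀ w ψ : Fin 3 → F, C w ψ → φ ⬝ᵥ w = 0 ∨ ψ ⬝ᵥ v = 0 := fun w ψ h => mul_eq_zero.1 (hc w ψ h)
  obtain ⟨x, θ, hx, hθv⟩ := hax v ht.v_ne
  obtain ⟨y, η, hy, hφy⟩ := hcen φ ht.φ_ne
  have hφx := (hc' x θ hx).resolve_right hθv
  have hηv := (hc' y η hy).resolve_left hφy
  have h2 := (hc' _ _ (hclosed x θ y η hx hy)).resolve_left (by
    rw [dotProduct_add, dotProduct_smul, hφx, smul_zero, add_zero]; exact hφy)
  rw [sub_dotProduct, smul_dotProduct, hηv, zero_sub, neg_eq_zero, smul_eq_mul] at h2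
  have hηx := (mul_eq_zero.1 h2).resolve_right hθv
  obtain ⟨c, hc0, e1⟩ := exists_smul_of_two_zero (hCT _ _ hx).v_ne (notMem_span_of_dot (hCT _ _ hx).dot hθv) ht.φ_ne
    (hCT _ _ hy).φ_ne hφx ht.dot hηx hηv
  have := (hCT _ _ hy).dot
  rw [e1, smul_dotProduct, smul_eq_mul] at this
  exact hφy ((mul_eq_zero.1 this).resolve_left hc0)

variable [Finite F] [CharP F 2] (hK : ∀ x ∈ K, x = 0 ∨ x = 1)

include hK

/-- With a completely irrational transvection everything is rational over the field with four elements. -/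
theorem rational_four (hroot : ∀ v φ : Fin 3 → F, IsT M v φ → (root M v φ : Set F) = K) (hM : Hyp M)
    (hT : Tri M) {v φ : Fin 3 → F} (hI : Irr M v φ) (hv0 : v 0 = 0) :
    ∃ L : Subfield F, Nat.card L = 4 ∧ M ≤ slOver L ∧ RatVec L v ∧ RatVec L φ := by
  have hKc : Nat.card K = 2 := Nat.card_eq_two_iff.2 ⟨0, 1, zero_ne_one, Set.eq_univ_of_forall fun x => by
    rcases hK x x.2 with h | h
    · exact Or.inl (Subtype.ext h)
    · exact Or.inr (Subtype.ext h)⟩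
  obtain ⟨-, hv13⟩ := cubes hK hroot hT hI.isT hI.v2 hI.φ0 hI.v1_0 hI.v1_1
  have hbK : v 1 ∉ K := fun h => (hK _ h).elim hI.v1_0 hI.v1_1
  obtain ⟨L, hLc, hKL, -, hfix⟩ := exists_quadratic (b := v 1) hbK (by
    rw [hKc]
    calc ((v 1) ^ 2) ^ 2 = v 1 ^ 3 * v 1 := by ring
      _ = v 1 := by rw [hv13, one_mul])
  rw [hKc] at hLc hfix
  have hL : ∀ x : F, x ^ 3 = 1 → x ∈ L := fun x hx => hfix x (by
    calc (x ^ 2) ^ 2 = x ^ 3 * x := by ring
      _ = x := by rw [hx, one_mul])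
  obtain ⟨hφ0L, hv1L, hφ1L⟩ := values_four hK hL hroot hT hI.isT hI.v2 hI.φ0
  have hdot := hI.isT.dot
  simp only [vec3_dotProduct, hv0, hI.v2, mul_zero, zero_add, mul_one] at hdot
  have hvL : RatVec L v := by
    intro i; fin_cases i
    · exact hv0 ▸ L.zero_mem
    · exact hv1L
    · exact hI.v2 ▸ L.one_mem
  have hφL : RatVec L φ := by
    intro i; fin_cases i
    · exact hφ0L
    · exact hφ1L
    · show φ 2 ∈ L
      rw [show φ 2 = -(φ 1 * v 1) by linear_combination hdot]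
      exact L.neg_mem (L.mul_mem hφ1L hv1L)
  have single_rat : ∀ i : Fin 3, RatVec L (e F i) := fun i => ratVec_single i L.one_mem
  have hgx : tvec v φ hI.isT.dot ∈ slOver L := tvec_mem_slOver _ fun k l => L.mul_mem (hvL k) (hφL l)
  have hgt : ∀ {i j : Fin 3} (h : IsT M (e F i) (e F j)), tvec (e F i) (e F j) h.dot ∈ slOver L := fun h =>
    tvec_mem_slOver _ fun k l => L.mul_mem (single_rat _ k) (single_rat _ l)
  -- the incidence products with the third side lie in `L`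
  have hval13 : ∀ y η : Fin 3 → F, IsT M y η → aval y η (e F 0) (e F 2) ∈ L := by
    intro y η hy
    by_cases h0 : aval y η (e F 0) (e F 2) = 0
    · rw [h0]; exact L.zero_mem
    rw [aval, dot_e, e_dot] at h0 ⊢
    have hy2 := right_ne_zero_of_mul h0
    have hs := hy.smul (inv_ne_zero hy2)
    rw [inv_inv] at hs
    have := (values_four hK hL hroot hT hs (by simp [hy2]) (by simp [hy2, left_ne_zero_of_mul h0])).1
    rw [Pi.smul_apply, smul_eq_mul, mul_comm] at this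
    exact this
  -- the third side is carried to the given transvection
  obtain ⟨g, hgM, hgL, c, hc0, hgv, hgφ⟩ : ∃ g ∈ M, g ∈ slOver L ∧ ∃ c : F, c ≠ 0 ∧
      (g : Matrix (Fin 3) (Fin 3) F) *ᵥ e F 0 = c • v ∧
      e F 2 ᵥ* ((g⁻¹ : GL (Fin 3) F) : Matrix (Fin 3) (Fin 3) F) = c⁻¹ • φ := by
    set X := tvec v φ hI.isT.dot
    set T := tvec (e F 0) (e F 2) hT.t02.dot
    have hXM : X ∈ M := hI.isT.tvec_mem
    have hTM : T ∈ M := hT.t02.tvec_mem
    have hXv : ∀ y, (X : Matrix (Fin 3) (Fin 3) F) *ᵥ y = y + (φ ⬝ᵥ y) • v := tvec_mulVec _ _ _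
    have hTv : ∀ y, (T : Matrix (Fin 3) (Fin 3) F) *ᵥ y = y + y 2 • e F 0 := fun y => by
      rw [tvec_mulVec, e_dot]
    have hXr : ∀ ψ, ψ ᵥ* ((X⁻¹ : GL (Fin 3) F) : Matrix (Fin 3) (Fin 3) F) = ψ + (ψ ⬝ᵥ v) • φ := fun ψ => by
      rw [vecMul_tvec_inv, CharTwo.sub_eq_add]
    have hTr : ∀ ψ, ψ ᵥ* ((T⁻¹ : GL (Fin 3) F) : Matrix (Fin 3) (Fin 3) F) = ψ + ψ 0 • e F 2 := fun ψ => by
      rw [vecMul_tvec_inv, dot_e, CharTwo.sub_eq_add]
    by_cases hone : φ 0 = 1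
    · refine ⟨T * X, M.mul_mem hTM hXM, (slOver L).mul_mem (hgt hT.t02) hgx, 1, one_ne_zero, ?_, ?_⟩
      · rw [mul_mulVec, hXv, hTv, dot_e, hone, one_smul]
        funext i; fin_cases i <;> simp [e, hv0, hI.v2, CharTwo.add_self_eq_zero]
      · rw [_root_.mul_inv_rev, Units.val_mul, ← Matrix.vecMul_vecMul, hXr, hTr, e_dot, hI.v2, inv_one, one_smul]
        funext i; fin_cases i <;> simp [e, hone]
        linear_combination CharTwo.two_eq_zero (R := F)
    · obtain ⟨h3, -⟩ := cubes hK hroot hT hI.isT hI.v2 hI.φ0 hI.v1_0 hI.v1_1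
      have hq : φ 0 ^ 2 + φ 0 + 1 = 0 := by
        have : (φ 0 - 1) * (φ 0 ^ 2 + φ 0 + 1) = 0 := by linear_combination h3
        exact (mul_eq_zero.1 this).resolve_left (sub_ne_zero.2 hone)
      refine ⟨T * X * T * X, M.mul_mem (M.mul_mem (M.mul_mem hTM hXM) hTM) hXM,
        (slOver L).mul_mem ((slOver L).mul_mem ((slOver L).mul_mem (hgt hT.t02) hgx) (hgt hT.t02)) hgx,
        φ 0 ^ 2, pow_ne_zero _ hI.φ0, ?_, ?_⟩
      · have h2 : (2 : F) = 0 := CharTwo.two_eq_zero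
        simp only [mul_mulVec, hXv, hTv, dot_e, dotProduct_add, dotProduct_smul, hI.isT.dot, Pi.add_apply,
          Pi.smul_apply, smul_eq_mul, hI.v2]
        funext i
        fin_cases i <;> simp [e, hv0, hI.v2]
        · linear_combination hq + φ 0 * h2
        all_goals (first | linear_combination (φ 0 * v 1) * h2 | linear_combination (φ 0) * h2)
      · have h2 : (2 : F) = 0 := CharTwo.two_eq_zero
        have hinv : (φ 0 ^ 2)⁻¹ = φ 0 := inv_eq_of_mul_eq_one_left (by linear_combination h3)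
        simp only [_root_.mul_inv_rev, Units.val_mul, ← Matrix.vecMul_vecMul, hXr, hTr, e_dot, dot_e, hI.v2,
          hinv, Pi.add_apply, Pi.smul_apply, add_dotProduct, smul_dotProduct, hI.isT.dot, smul_eq_mul]
        funext i
        fin_cases i <;> simp [e, hI.v2]
        · linear_combination φ 0 * h2
        · linear_combination φ 1 * h2
        · linear_combination hq + (φ 2 + φ 0) * h2
  have hvalx : ∀ y η : Fin 3 → F, IsT M y η → aval y η v φ ∈ L := by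
    intro y η hy
    have := hy.conj (M.inv_mem hgM)
    rw [inv_inv] at this
    have h := hval13 _ _ this
    rw [← aval_move, hgv, hgφ, aval_comm, aval_smul_left hc0, aval_comm] at h
    exact h
  -- transvections opposite to the third side are rational
  have rat13 : ∀ y η : Fin 3 → F, ∀ hy : IsT M y η, aval y η (e F 0) (e F 2) ≠ 0 →
      tvec y η hy.dot ∈ slOver L := by
    intro y η hy h0
    rw [aval, dot_e, e_dot] at h0
    have hy2 := right_ne_zero_of_mul h0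
    have hs := hy.smul (inv_ne_zero hy2)
    rw [inv_inv] at hs
    have heq : tvec y η hy.dot = tvec ((y 2)⁻¹ • y) (y 2 • η) hs.dot := gl_ext_mulVec fun x => by
      rw [tvec_mulVec, tvec_mulVec, smul_dotProduct, smul_smul, smul_eq_mul, mul_comm (y 2), mul_assoc,
        mul_inv_cancel₀ hy2, mul_one]
    rw [heq]
    have hw2 : ((y 2)⁻¹ • y) 2 = 1 := by simp [hy2]
    have hψ0 : (y 2 • η) 0 ≠ 0 := by simp [hy2, left_ne_zero_of_mul h0]
    generalize (y 2)⁻¹ • y = w at hs hw2 ⊢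
    generalize y 2 • η = ψ at hs hψ0 ⊢
    obtain ⟨hψ0L, hw1L, hψ1L⟩ := values_four hK hL hroot hT hs hw2 hψ0
    have hd := hs.dot
    rw [vec3_dotProduct, hw2, mul_one] at hd
    set s := v 1 + w 1
    have hsL : s ∈ L := L.add_mem hv1L hw1L
    have h2 : (2 : F) = 0 := CharTwo.two_eq_zero
    -- the two incidence products with `v`
    have f1 : (ψ 0 * w 0 + ψ 1 * s) * (φ 0 * w 0 + φ 1 * s) ∈ L := by
      have := hvalx w ψ hs
      convert this using 1
      simp only [aval, vec3_dotProduct, hv0, hI.v2, hw2, s]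
      linear_combination -(φ 0 * w 0 + φ 1 * w 1 + φ 2) * hd - (ψ 0 * w 0 + ψ 1 * (v 1 + w 1)) * hdot +
        (φ 0 * w 0 + φ 1 * w 1 + φ 2) * (ψ 0 * w 0 + ψ 1 * w 1) * h2 +
        (ψ 0 * w 0 + ψ 1 * (v 1 + w 1)) * (φ 1 * v 1) * h2
    have f2 : (ψ 0 * (w 0 + w 1) + (ψ 1 + ψ 0) * s) * (φ 0 * (w 0 + w 1) + φ 1 * s) ∈ L := by
      have := hvalx _ _ (hs.conj_tv hT.t01.mem)
      convert this using 1
      simp only [aval, vec3_dotProduct, hv0, hI.v2, hw2, s, e_dot, dot_e, Pi.add_apply, Pi.sub_apply, Pi.smul_apply,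
        smul_eq_mul, CharTwo.sub_eq_add]
      simp [e]
      linear_combination -(φ 0 * (w 0 + w 1) + φ 1 * w 1 + φ 2) * hd
        - (ψ 0 * (w 0 + w 1) + (ψ 1 + ψ 0) * (v 1 + w 1)) * hdot +
        (φ 0 * (w 0 + w 1) + φ 1 * w 1 + φ 2) * (ψ 0 * (w 0 + w 1) + ψ 1 * w 1) * h2 +
        (ψ 0 * (w 0 + w 1) + (ψ 1 + ψ 0) * (v 1 + w 1)) * (φ 1 * v 1) * h2
    have hw0L : w 0 ∈ L := by
      by_cases hs0 : s = 0
      · rw [hs0, mul_zero, mul_zero, add_zero, add_zero] at f1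
        have hsq : w 0 ^ 2 ∈ L := by
          have := L.div_mem f1 (L.mul_mem hψ0L hφ0L)
          rwa [show ψ 0 * w 0 * (φ 0 * w 0) / (ψ 0 * φ 0) = w 0 ^ 2 by
            have := hI.φ0; field_simp] at this
        refine hfix _ ?_
        haveI := Fintype.ofFinite L
        have e4 : ((⟨_, hsq⟩ : L)) ^ (Fintype.card L) = ⟨_, hsq⟩ := FiniteField.pow_card _
        have e5 := congrArg Subtype.val e4
        rw [← Nat.card_eq_fintype_card, hLc, SubmonoidClass.coe_pow] at e5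
        have : ((w 0 ^ 2) ^ 2 - w 0) ^ 2 = 0 := by
          linear_combination e5 + (w 0 ^ 2 - w 0 ^ 5) * h2
        exact sub_eq_zero.1 (pow_eq_zero_iff two_ne_zero |>.1 this)
      · have hne : ψ 0 * φ 0 * s ≠ 0 := mul_ne_zero (mul_ne_zero hψ0 hI.φ0) hs0
        have key : w 0 = ((ψ 0 * (w 0 + w 1) + (ψ 1 + ψ 0) * s) * (φ 0 * (w 0 + w 1) + φ 1 * s) -
            (ψ 0 * w 0 + ψ 1 * s) * (φ 0 * w 0 + φ 1 * s) -
            (ψ 0 * φ 0 * w 1 ^ 2 + ψ 0 * φ 1 * s * w 1 + (ψ 1 + ψ 0) * φ 0 * s * w 1 + ψ 0 * φ 1 * s ^ 2)) /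
            (ψ 0 * φ 0 * s) := by
          rw [eq_div_iff hne]
          linear_combination -(ψ 0 * φ 0 * w 0 * w 1) * h2
        rw [key]
        refine L.div_mem (L.sub_mem (L.sub_mem f2 f1) ?_) (L.mul_mem (L.mul_mem hψ0L hφ0L) hsL)
        simp only [pow_two]
        exact L.add_mem (L.add_mem (L.add_mem (L.mul_mem (L.mul_mem hψ0L hφ0L) (L.mul_mem hw1L hw1L))
          (L.mul_mem (L.mul_mem (L.mul_mem hψ0L hφ1L) hsL) hw1L))
          (L.mul_mem (L.mul_mem (L.mul_mem (L.add_mem hψ1L hψ0L) hφ0L) hsL) hw1L))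
          (L.mul_mem (L.mul_mem hψ0L hφ1L) (L.mul_mem hsL hsL))
    refine tvec_mem_slOver _ fun k l => L.mul_mem ?_ ?_
    · fin_cases k
      exacts [hw0L, hw1L, hw2 ▸ L.one_mem]
    · fin_cases l
      · exact hψ0L
      · exact hψ1L
      · show ψ 2 ∈ L
        rw [show ψ 2 = -(ψ 0 * w 0 + ψ 1 * w 1) by linear_combination hd]
        exact L.neg_mem (L.add_mem (L.mul_mem hψ0L hw0L) (L.mul_mem hψ1L hw1L))
  -- the class of rational transvections all of whose opposites are rational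
  let C : (Fin 3 → F) → (Fin 3 → F) → Prop := fun w ψ =>
    ∃ h : IsT M w ψ, tvec w ψ h.dot ∈ slOver L ∧
      ∀ y η : Fin 3 → F, ∀ hy : IsT M y η, aval y η w ψ ≠ 0 → tvec y η hy.dot ∈ slOver L
  have hmove : ∀ k : GL (Fin 3) F, k ∈ M → k ∈ slOver L → ∀ w ψ, C w ψ →
      C ((k : Matrix (Fin 3) (Fin 3) F) *ᵥ w) (ψ ᵥ* ((k⁻¹ : GL (Fin 3) F) : Matrix (Fin 3) (Fin 3) F)) := by
    rintro k hkM hkL w ψ ⟨h, hr, hgood⟩
    refine ⟨h.conj hkM, ?_, fun y η hy hne => ?_⟩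
    · rw [← tvec_conj k w ψ h.dot]
      exact (slOver L).mul_mem ((slOver L).mul_mem hkL hr) ((slOver L).inv_mem hkL)
    · rw [aval_move] at hne
      have hy' := hy.conj (M.inv_mem hkM)
      rw [inv_inv] at hy'
      have h1 := hgood _ _ hy' hne
      have h2 : k⁻¹ * tvec y η hy.dot * k⁻¹⁻¹ ∈ slOver L := by
        rw [tvec_conj]
        convert h1 using 2
        rw [inv_inv]
      have h3 := (slOver L).mul_mem ((slOver L).mul_mem hkL h2) ((slOver L).inv_mem hkL)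
      simpa [mul_assoc] using h3
  have hC13 : C (e F 0) (e F 2) := ⟨hT.t02, hgt hT.t02, rat13⟩
  have hCx : C v φ := by
    obtain ⟨h, hr, hgood⟩ := hmove g hgM hgL _ _ hC13
    refine ⟨hI.isT, hgx, fun y η hy hne => hgood y η hy ?_⟩
    rw [hgv, hgφ, aval_comm, aval_smul_left hc0, aval_comm]
    exact hne
  have hconj : ∀ u θ w ψ : Fin 3 → F, ∀ h : IsT M u θ, tvec u θ h.dot ∈ slOver L → C w ψ →
      C (w + (θ ⬝ᵥ w) • u) (ψ - (ψ ⬝ᵥ u) • θ) := fun u θ w ψ h hr hC => by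
    have := hmove _ h.tvec_mem hr _ _ hC
    rwa [tvec_mulVec, vecMul_tvec_inv] at this
  have hax : ∀ z : Fin 3 → F, z ≠ 0 → ∃ w ψ, C w ψ ∧ ψ ⬝ᵥ z ≠ 0 := by
    intro z hz
    by_contra hc
    push Not at hc
    have a1 := hc _ _ hC13
    have a2 := hc _ _ hCx
    have a3 := hc _ _ (hconj _ _ _ _ hT.t01 (hgt hT.t01) hCx)
    rw [e_dot] at a1
    rw [sub_dotProduct, a2, smul_dotProduct, e_dot, dot_e, zero_sub, neg_eq_zero, smul_eq_mul] at a3
    have z1 := (mul_eq_zero.1 a3).resolve_left hI.φ0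
    rw [vec3_dotProduct, a1, z1, mul_zero, mul_zero, add_zero, add_zero] at a2
    refine hz (funext fun i => ?_)
    fin_cases i
    exacts [(mul_eq_zero.1 a2).resolve_left hI.φ0, z1, a1]
  have hcen : ∀ θ : Fin 3 → F, θ ≠ 0 → ∃ w ψ, C w ψ ∧ θ ⬝ᵥ w ≠ 0 := by
    intro θ hθ
    by_contra hc
    push Not at hc
    have a1 := hc _ _ hC13
    have a2 := hc _ _ hCx
    have a3 := hc _ _ (hconj _ _ _ _ hT.t12 (hgt hT.t12) hCx)
    rw [dot_e] at a1
    rw [dotProduct_add, a2, zero_add, dotProduct_smul, e_dot, hI.v2, one_smul, dot_e] at a3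
    rw [vec3_dotProduct, a1, a3, zero_mul, zero_mul, zero_add, zero_add, hI.v2, mul_one] at a2
    refine hθ (funext fun i => ?_)
    fin_cases i
    exacts [a1, a3, a2]
  refine ⟨L, hLc, hM.le_of_tv fun y η hy => ?_, hvL, hφL⟩
  obtain ⟨w, ψ, ⟨-, -, hgood⟩, hne⟩ := opp_of_class C (fun _ _ h => h.1)
    (fun x θ w ψ hx hw => hconj x θ w ψ hx.1 hx.2.1 hw) hax hcen hy
  exact hgood y η hy hne

end CfsgLib.Geo.D3
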