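/-
Groups generated by transvections in dimension three without single incidences are special unitary groups
over a subfield.
-/
import Cfsg.Agent.Geo.DimThree.Unitary

set_option autoImplicit false

namespace CfsgLib.Geo.D3

open Matrix Cfsg Cfsg.Geo CfsgLib.Geo CfsgLib.Geo.SL3

variable {F : Type*} [Field F] {M : Subgroup (GL (Fin 3) F)} {K : Subfield F}

/-- The entries of a vector over a subfield, in the field. -/
def lift (L : Subfield F) (x : Fin 3 → L) : Fin 3 → F := fun i => (x i : F)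

lemma lift_dot (L : Subfield F) (x y : Fin 3 → L) : lift L x ⬝ᵥ lift L y = ((x ⬝ᵥ y : L) : F) :=
  (RingHom.map_dotProduct (L.subtype : L →+* F) x y).symm

lemma lift_smul (L : Subfield F) (c : L) (x : Fin 3 → L) : lift L (c • x) = (c : F) • lift L x := rfl

lemma lift_mulVec (L : Subfield F) (X : GL (Fin 3) L) (x : Fin 3 → L) :
    lift L ((X : Matrix (Fin 3) (Fin 3) L) *ᵥ x) =
      (Matrix.GeneralLinearGroup.map (n := Fin 3) (L.subtype : L →+* F) X : Matrix (Fin 3) (Fin 3) F) *ᵥ lift L x :=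
  funext fun i => RingHom.map_mulVec (L.subtype : L →+* F) (X : Matrix (Fin 3) (Fin 3) L) x i

lemma lift_vecMul (L : Subfield F) (X : GL (Fin 3) L) (x : Fin 3 → L) :
    lift L (x ᵥ* (X : Matrix (Fin 3) (Fin 3) L)) =
      lift L x ᵥ* (Matrix.GeneralLinearGroup.map (n := Fin 3) (L.subtype : L →+* F) X : Matrix (Fin 3) (Fin 3) F) :=
  funext fun i => RingHom.map_vecMul (L.subtype : L →+* F) (X : Matrix (Fin 3) (Fin 3) L) x i

lemma map_subtype_injective (L : Subfield F) :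
    Function.Injective (Matrix.GeneralLinearGroup.map (n := Fin 3) (L.subtype : L →+* F)) := fun a b h =>
  Units.ext (Matrix.ext fun i j => Subtype.ext (by rw [← map_val, ← map_val, h]))

/-- A transvection of the special unitary group. -/
lemma exists_skew_of_hasTv {L : Type*} [Field L] [Finite L] {q : ℕ} (hL : Nat.card L = q ^ 2) {p θ : Fin 3 → L}
    (hp : p ≠ 0) (hθ : θ ≠ 0) (h : HasTv (UTv.suGL 3 L q) p θ) :
    Cfsg.hermForm 3 L q p p = 0 ∧ ∃ c : L, c ≠ 0 ∧ c + c ^ q = 0 ∧ θ = UTv.uax q p c := by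
  obtain ⟨hd, hm⟩ := h
  have hf := UTv.isUnitaryForm hL (n := 3)
  have key : ∀ x y, (θ ⬝ᵥ x) * Cfsg.hermForm 3 L q p y + (θ ⬝ᵥ y) ^ q * Cfsg.hermForm 3 L q x p +
      (θ ⬝ᵥ x) * (θ ⬝ᵥ y) ^ q * Cfsg.hermForm 3 L q p p = 0 := by
    intro x y
    have := UTv.herm_mulVec hm x y
    rw [tvec_mulVec, tvec_mulVec, hf.add_left, Unit.add_right hf, Unit.add_right hf, hf.smul_left, hf.smul_left,
      Unit.smul_right hf, Unit.smul_right hf, UTv.frobEquiv_apply] at this
    linear_combination this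
  obtain ⟨j, hj⟩ := Function.ne_iff.1 hθ
  have hpp : Cfsg.hermForm 3 L q p p = 0 := by
    have := key p (Pi.single j 1)
    rw [hd, dotProduct_single, mul_one] at this
    simp only [zero_mul, zero_add, add_zero] at this
    exact (mul_eq_zero.1 this).resolve_left (pow_ne_zero _ hj)
  obtain ⟨y, -, hy⟩ := UTv.exists_form_of_notMem hL ⊥ (u := p) (by simpa using hp)
  have hθx : ∀ x, θ ⬝ᵥ x = -(θ ⬝ᵥ y) ^ q * Cfsg.hermForm 3 L q x p := fun x => by
    have := key x y
    rw [hpp, hy] at this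
    linear_combination this
  have hyp : Cfsg.hermForm 3 L q y p = 1 := by rw [hf.herm, hy, map_one]
  have e1 := hθx y
  rw [hyp, mul_one] at e1
  have hq2 : ((θ ⬝ᵥ y) ^ q) ^ q = θ ⬝ᵥ y := by
    rw [← UTv.frobEquiv_apply hL, ← UTv.frobEquiv_apply hL, hf.involutive]
  refine ⟨hpp, -(θ ⬝ᵥ y) ^ q, fun h0 => hθ ?_, ?_, ?_⟩
  · refine funext fun i => ?_
    rw [← dot_e θ i, hθx, h0, zero_mul]; rfl
  · rw [← UTv.frobEquiv_apply hL (-(θ ⬝ᵥ y) ^ q), map_neg, UTv.frobEquiv_apply, hq2]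
    linear_combination -e1
  · refine dotProduct_eq _ _ fun x => ?_
    rw [hθx, smul_dotProduct, UTv.axisOf_dot, smul_eq_mul]

variable {L : Subfield F}

/-- A transvection with rational coordinates has a full centre. -/
lemma full_of_isT [Finite F] (hU : UHyp M K) (hL : Nat.card L = Nat.card K ^ 2) (hKL : ∀ x ∈ K, x ∈ L)
    (hle : M ≤ suOver L (Nat.card K)) {p θ : Fin 3 → L} (h : IsT M (lift L p) (lift L θ)) :
    UTv.Full (Nat.card K) (M.comap (Matrix.GeneralLinearGroup.map (n := Fin 3) (L.subtype : L →+* F))) p ∧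
      ∃ c : L, c ≠ 0 ∧ θ = UTv.uax (Nat.card K) p c := by
  have hd : θ ⬝ᵥ p = 0 := Subtype.ext (by rw [← lift_dot]; exact h.dot)
  have hmap : ∀ {x η : Fin 3 → L} (hx : η ⬝ᵥ x = 0),
      Matrix.GeneralLinearGroup.map (n := Fin 3) (L.subtype : L →+* F) (tvec x η hx) =
        tvec (lift L x) (lift L η) (by rw [lift_dot, hx]; rfl) := fun hx => map_tvec hx _
  have hmem : HasTv (UTv.suGL 3 L (Nat.card K)) p θ := by
    obtain ⟨x, hx, hxe⟩ := hle h.tvec_mem
    refine ⟨hd, ?_⟩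
    rwa [← map_subtype_injective L (hxe.trans (hmap hd).symm)]
  have hp : p ≠ 0 := fun e => h.v_ne (by subst e; rfl)
  have hθ : θ ≠ 0 := fun e => h.φ_ne (by subst e; rfl)
  obtain ⟨hpp, c, hc0, hc, hθe⟩ := exists_skew_of_hasTv hL hp hθ hmem
  refine ⟨⟨hpp, fun c' hc' => ?_⟩, c, hc0, hθe⟩
  have hk : (c' / c) ^ Nat.card K = c' / c := by
    rw [div_pow, eq_neg_of_add_eq_zero_right hc', eq_neg_of_add_eq_zero_right hc, neg_div_neg_eq]
  have hkK : ((c' / c : L) : F) ∈ K := mem_of_pow_card K (by rw [← SubmonoidClass.coe_pow, hk])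
  rw [← SetLike.mem_coe, ← hU.root_eq _ _ h, SetLike.mem_coe, mem_root,
    show ((c' / c : L) : F) • lift L p = lift L ((c' / c) • p) from rfl] at hkK
  obtain ⟨hd', hm'⟩ := hkK
  have hd0 : θ ⬝ᵥ ((c' / c) • p) = 0 := by rw [dotProduct_smul, hd, smul_zero]
  have hm : HasTv (M.comap (Matrix.GeneralLinearGroup.map (n := Fin 3) (L.subtype : L →+* F))) ((c' / c) • p) θ :=
    ⟨hd0, by rw [Subgroup.mem_comap, hmap hd0]; exact hm'⟩
  rcases eq_or_ne (c' / c) 0 with h0 | h0
  · rw [(div_eq_zero_iff.1 h0).resolve_right hc0]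
    simp only [UTv.uax, zero_smul]
    exact hasTv_zero_right _ _
  · have := (hasTv_smul_iff _ h0).1 hm
    rwa [hθe, UTv.uax, smul_smul, div_mul_cancel₀ _ hc0] at this

/-- No single incidences, one field of at least three elements: the group is a special unitary group. -/
theorem isUnitaryType_of_uhyp [Finite F] (hM : Hyp M) (hU : UHyp M K) (hK : 3 ≤ Nat.card K) :
    IsUnitaryType M := by
  classical
  obtain ⟨v, φ, ht, -⟩ := hM.exists_axis_ne (e_ne (F := F) 0)
  obtain ⟨w, ψ, hx, hne⟩ := hM.exists_opp ht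
  obtain ⟨g, L, hL, H, a, hKL, haT, ha01, hG⟩ := exists_gauge hM hU ht hx hne
  haveI := Fintype.ofFinite L
  set σ := UTv.frobEquiv hL
  have hf := UTv.isUnitaryForm hL (n := 3)
  obtain ⟨X, hX⟩ := CfsgLib.Aschbacher.exists_congr_one hf.ne_refl hf.involutive hG.unit hG.herm
  have hherm : ∀ u w : Fin 3 → L, fH σ H ((X : Matrix (Fin 3) (Fin 3) L) *ᵥ u) ((X : Matrix (Fin 3) (Fin 3) L) *ᵥ w) =
      Cfsg.hermForm 3 L (Nat.card K) u w := by
    intro u w
    have e : σ ∘ ((X : Matrix (Fin 3) (Fin 3) L) *ᵥ w) =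
        (X : Matrix (Fin 3) (Fin 3) L).map σ *ᵥ (σ ∘ w) :=
      funext fun i => RingHom.map_mulVec (σ : L →+* L) _ w i
    rw [fH, e, ← Matrix.vecMul_transpose, ← Matrix.dotProduct_mulVec, Matrix.mulVec_mulVec, Matrix.mulVec_mulVec, hX,
      Matrix.one_mulVec]
    exact Finset.sum_congr rfl fun i _ => by rw [Function.comp_apply, UTv.frobEquiv_apply]
  set P := Matrix.GeneralLinearGroup.map (n := Fin 3) (L.subtype : L →+* F) X
  have hM1 := hM.inBasis g
  have hle : D3.inBasis (D3.inBasis M g) P ≤ suOver L (Nat.card K) := by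
    refine Subgroup.map_le_iff_le_comap.2 (hM1.le_of_tv fun u θ hu => ?_)
    obtain ⟨v0, φ0, h, h', e1, e2⟩ := hG.rep u θ hu
    refine ⟨X⁻¹ * tvec v0 φ0 h * X⁻¹⁻¹, ⟨fun x y => ?_, ?_⟩, ?_⟩
    · show Cfsg.hermForm 3 L (Nat.card K) ((X⁻¹ * tvec v0 φ0 h * X⁻¹⁻¹ : GL (Fin 3) L).val *ᵥ x)
        ((X⁻¹ * tvec v0 φ0 h * X⁻¹⁻¹ : GL (Fin 3) L).val *ᵥ y) = Cfsg.hermForm 3 L (Nat.card K) x y
      rw [← hherm, ← hherm x y, inv_inv, mul_mulVec, mul_mulVec, mul_mulVec, mul_mulVec, mulVec_inv_mulVec,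
        mulVec_inv_mulVec, tvec_mulVec, tvec_mulVec]
      exact e2 _ _
    · exact (inferInstance : (Matrix.GeneralLinearGroup.det (n := Fin 3) (R := L)).ker.Normal).conj_mem _
        (tvec_mem_specialLinear _ _ _) X⁻¹
    · rw [map_mul, map_mul, map_inv, map_inv, e1]
      rfl
  have hM2 := hM1.inBasis P
  have hU2 := (hU.inBasis g).inBasis P
  -- the three centres
  have hfull : ∀ i, ∃ θ : Fin 3 → L,
      UTv.Full (Nat.card K) ((D3.inBasis (D3.inBasis M g) P).comap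
        (Matrix.GeneralLinearGroup.map (n := Fin 3) (L.subtype : L →+* F)))
        (((X⁻¹ : GL (Fin 3) L) : Matrix (Fin 3) (Fin 3) L) *ᵥ Pi.single i 1) ∧
      (∃ c : L, c ≠ 0 ∧ θ ᵥ* (X : Matrix (Fin 3) (Fin 3) L) =
        UTv.uax (Nat.card K) (((X⁻¹ : GL (Fin 3) L) : Matrix (Fin 3) (Fin 3) L) *ᵥ Pi.single i 1) c) ∧
      lift L θ = a i := by
    intro i
    obtain ⟨v0, φ0, h, h', e1, -⟩ := hG.rep _ _ (haT i)
    have hθ : lift L (fun j => v0 i * φ0 j) = a i := funext fun j => by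
      have := congrArg (fun T : GL (Fin 3) F => (T : Matrix (Fin 3) (Fin 3) F) i j) e1
      simp only [map_val, tvec_val, Matrix.add_apply, Matrix.one_apply, vecMulVec_apply, Pi.single_eq_same,
        one_mul] at this
      show ((v0 i * φ0 j : L) : F) = a i j
      rcases eq_or_ne i j with rfl | hij
      · simpa [e] using this
      · simpa [hij, e] using this
    have hE : lift L (Pi.single i 1) = e F i := funext fun j => by
      rcases eq_or_ne j i with rfl | hji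
      · simp [lift, e]
      · simp [lift, e, hji]
    have hT := (haT i).inBasis P
    rw [← hθ, ← hE] at hT
    rw [show (P⁻¹ : GL (Fin 3) F) = Matrix.GeneralLinearGroup.map (n := Fin 3) (L.subtype : L →+* F) X⁻¹ from
      (map_inv _ X).symm, ← lift_mulVec, ← lift_vecMul] at hT
    obtain ⟨hF', c, hc0, hc⟩ := full_of_isT hU2 hL hKL hle hT
    exact ⟨_, hF', ⟨c, hc0, hc⟩, hθ⟩
  choose θ hF' hc hθ using hfull
  refine ⟨L, Nat.card K, P⁻¹ * g⁻¹, hL, hK, ?_⟩
  have heq : D3.inBasis (D3.inBasis M g) P = suOver L (Nat.card K) := by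
    refine le_antisymm hle (Subgroup.map_le_iff_le_comap.2 (suGL_le hL hK ?_ (hF' 0) (hF' 1) (hF' 2) ?_ ?_))
    · intro x hx
      obtain ⟨y, hy, hye⟩ := hle hx
      rwa [← map_subtype_injective L hye]
    · intro h0
      obtain ⟨c, hc0, hc⟩ := hc 0
      refine ha01 ?_
      have e1 := congrArg (fun t => t ⬝ᵥ (((X⁻¹ : GL (Fin 3) L) : Matrix (Fin 3) (Fin 3) L) *ᵥ Pi.single 1 1)) hc
      simp only [inBasis_map_dot, smul_dotProduct, UTv.axisOf_dot, dotProduct_single, mul_one, smul_eq_mul] at e1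
      rw [hf.herm, h0, map_zero, mul_zero] at e1
      rw [← hθ 0]
      show ((θ 0 1 : L) : F) = 0
      rw [e1]; rfl
    · intro hmem
      obtain ⟨s, r, hsr⟩ := Submodule.mem_span_pair.1 hmem
      have := congrArg (fun t => ((X : Matrix (Fin 3) (Fin 3) L) *ᵥ t) 2) hsr
      simp only [Matrix.mulVec_add, Matrix.mulVec_smul, mulVec_inv_mulVec] at this
      simp at this
  rw [inBasis, inBasis, Subgroup.map_map] at heq
  rw [← heq]
  congr 1
  ext x
  simp [mul_assoc]

end CfsgLib.Geo.D3
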