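/-
Groups generated by transvections in dimension three: reduction of the classification to small root groups.
-/
import Cfsg.Agent.Geo.DimThree.UnitaryType
import Cfsg.Agent.Geo.DimThree.FourRat

set_option autoImplicit false

namespace CfsgLib.Geo.D3

open Matrix Cfsg Cfsg.Geo CfsgLib.Geo CfsgLib.Geo.SL3

variable {F : Type*} [Field F] {M : Subgroup (GL (Fin 3) F)}

/-- All root groups are the prime field with `p` elements. -/
def PrimeRoots (M : Subgroup (GL (Fin 3) F)) (p : ℕ) : Prop :=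
  ∃ K : Subfield F, Nat.card K = p ∧ (∀ v φ : Fin 3 → F, IsT M v φ → (root M v φ : Set F) = K)

lemma prime_field_cases {p : ℕ} [Fact p.Prime] [CharP F p] [Finite F] {K : Subfield F} (hK : Nat.card K = p)
    {x : F} (hx : x ∈ K) : ∃ n : ℕ, n < p ∧ x = (n : F) := by
  have h1 : (K.toSubring.toAddSubgroup : Set F) = ((ZMod.castHom (dvd_refl p) F).fieldRange : Set F) :=
    eq_primeField p K.one_mem hK
  have hx' : x ∈ ((ZMod.castHom (dvd_refl p) F).fieldRange : Set F) := h1 ▸ hx
  obtain ⟨z, rfl⟩ := hx'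
  exact ⟨z.val, z.val_lt, by rw [← map_natCast (ZMod.castHom (dvd_refl p) F), ZMod.natCast_zmod_val]⟩

lemma two_values [Finite F] [CharP F 2] {K : Subfield F} (hK : Nat.card K = 2) :
    ∀ x ∈ K, x = 0 ∨ x = 1 := fun x hx => by
  obtain ⟨n, hn, rfl⟩ := prime_field_cases hK hx
  interval_cases n <;> simp

lemma three_values [Finite F] [CharP F 3] {K : Subfield F} (hK : Nat.card K = 3) :
    ∀ x ∈ K, x = 0 ∨ x = 1 ∨ x = -1 := fun x hx => by
  obtain ⟨n, hn, rfl⟩ := prime_field_cases hK hx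
  have h3 : (3 : F) = 0 := by exact_mod_cast CharP.cast_eq_zero F 3
  interval_cases n
  · simp
  · simp
  · exact Or.inr (Or.inr (by push_cast; linear_combination h3))

/-- A transvection with completely irrational opposite, in normal coordinates over the field with four elements. -/
def FourFrame (M : Subgroup (GL (Fin 3) F)) : Prop :=
  ∃ (g : GL (Fin 3) F) (L : Subfield F) (v φ : Fin 3 → F), Nat.card L = 4 ∧ Hyp (inBasis M g) ∧
    inBasis M g ≤ slOver L ∧ Tri (inBasis M g) ∧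
    (∀ w ψ, IsT (inBasis M g) w ψ → ∀ s ∈ root (inBasis M g) w ψ, s = 0 ∨ s = 1) ∧
    Irr (inBasis M g) v φ ∧ RatVec L v ∧ RatVec L φ

theorem fourFrame_of_hasIrr [Finite F] [CharP F 2] (hM : Hyp M) {K : Subfield F} (hK : ∀ x ∈ K, x = 0 ∨ x = 1)
    (hroot : ∀ v φ : Fin 3 → F, IsT M v φ → (root M v φ : Set F) = K) (h : HasIrr M) : FourFrame M := by
  obtain ⟨g, v, φ, hT, hI⟩ := h
  have hgd : e F 2 ⬝ᵥ (v 0 • e F 0) = 0 := by simp
  set g0 := tvec (v 0 • e F 0) (e F 2) hgd
  have hgi : ∀ y : Fin 3 → F, ((g0⁻¹ : GL (Fin 3) F) : Matrix (Fin 3) (Fin 3) F) *ᵥ y = y - y 2 • (v 0 • e F 0) :=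
    fun y => by
      show (1 - vecMulVec (v 0 • e F 0) (e F 2)) *ᵥ y = _
      rw [Matrix.sub_mulVec, Matrix.one_mulVec, Matrix.vecMulVec_mulVec, e_dot]
      funext i; simp
  have hgr : ∀ ψ : Fin 3 → F, ψ ᵥ* (g0 : Matrix (Fin 3) (Fin 3) F) = ψ + (v 0 * ψ 0) • e F 2 := fun ψ => by
    show ψ ᵥ* (1 + vecMulVec (v 0 • e F 0) (e F 2)) = _
    rw [Matrix.vecMul_add, Matrix.vecMul_one, Matrix.vecMul_vecMulVec, dotProduct_smul, dot_e, smul_eq_mul]
  have ht : ∀ {a b : Fin 3 → F}, IsT (inBasis M g) a b → a 2 = 0 → b 0 = 0 →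
      IsT (inBasis M (g * g0)) a b := fun {a b} h h1 h2 => by
    have := h.inBasis g0
    rwa [hgi, hgr, h1, h2, zero_smul, sub_zero, mul_zero, zero_smul, add_zero, inBasis_inBasis] at this
  have hT' : Tri (inBasis M (g * g0)) :=
    ⟨ht hT.t01 (by simp) (by simp), ht hT.t12 (by simp) (by simp), ht hT.t02 (by simp) (by simp)⟩
  have hx := hI.isT.inBasis g0
  rw [hgi, hgr, hI.v2, one_smul, inBasis_inBasis] at hx
  have hI' : Irr (inBasis M (g * g0)) (v - v 0 • e F 0) (φ + (v 0 * φ 0) • e F 2) :=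
    ⟨hx, by simp [hI.v2], by simpa using hI.v1_0, by simpa using hI.v1_1, by simpa using hI.φ0,
      by simpa using hI.φ1_0, by simpa using hI.φ1_1⟩
  have hr := root_eq_inBasis hroot (g * g0)
  obtain ⟨L, hL, hle, hv, hφ⟩ := rational_four hK hr (hM.inBasis _) hT' hI' (by simp)
  exact ⟨g * g0, L, _, _, hL, hM.inBasis _, hle, hT', fun w ψ hw s hs => hK s (by
    rw [← SetLike.mem_coe, ← hr w ψ hw]; exact hs), hI', hv, hφ⟩

theorem root_isSubfield [Finite F] (hM : Hyp M) {v φ : Fin 3 → F} (ht : IsT M v φ) :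
    ∃ K : Subfield F, (root M v φ : Set F) = K := by
  obtain ⟨w, ψ, hw, ha⟩ := hM.exists_opp ht
  obtain ⟨K, hK, -⟩ := root_pair ht hw ha
  exact ⟨K, hK⟩

/-- The reduction. -/
theorem tv_reduce [Finite F] (hM : Hyp M) :
    IsLinearType M ∨ IsUnitaryType M ∨ (CharP F 2 ∧ FourFrame M) ∨
      (CharP F 2 ∧ NoSingle M ∧ PrimeRoots M 2) ∨ (CharP F 3 ∧ NoSingle M ∧ PrimeRoots M 3) := by
  classical
  obtain ⟨p, hp⟩ := CharP.exists F
  haveI := Fact.mk (CharP.char_is_prime F p)
  have hrc : ringChar F = p := ringChar.eq F p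
  obtain ⟨v₀, φ₀, h₀, -⟩ := hM.exists_axis_ne (e_ne (F := F) 0)
  obtain ⟨⟨v, φ⟩, ht, hmax'⟩ := Set.Finite.exists_maximalFor (fun P : (Fin 3 → F) × (Fin 3 → F) =>
    Nat.card (root M P.1 P.2)) {P | IsT M P.1 P.2} (Set.toFinite _) ⟨(v₀, φ₀), h₀⟩
  obtain ⟨K, hK⟩ := root_isSubfield hM ht
  have hKc : Nat.card (root M v φ) = Nat.card K := Nat.card_congr (Equiv.setCongr hK)
  have hmax : ∀ w ψ, IsT M w ψ → Nat.card (root M w ψ) ≤ Nat.card K := fun w ψ hw => by
    rw [← hKc]
    rcases le_total (Nat.card (root M w ψ)) (Nat.card (root M v φ)) with h | h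
    · exact h
    · exact hmax' (j := (w, ψ)) hw h
  have hsup : ∀ (S : AddSubgroup F), Nat.card S ≤ Nat.card K → (K : Set F) ⊆ S → (S : Set F) = K :=
    fun S hS hsub => (Set.eq_of_subset_of_ncard_le hsub (by
      rw [← Nat.card_coe_set_eq, ← Nat.card_coe_set_eq]; exact hS) (Set.toFinite _)).symm
  have hlift : ∀ (g : GL (Fin 3) F) w ψ, IsT (inBasis M g) w ψ → (K : Set F) ⊆ root (inBasis M g) w ψ →
      (root (inBasis M g) w ψ : Set F) = K := fun g w ψ hw hsub =>
    hsup _ (by rw [root_inBasis]; exact hmax _ _ hw.of_inBasis) hsub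
  have hKp : p ≤ Nat.card K := by
    haveI := Fintype.ofFinite K
    haveI : CharP K p := (RingHom.charP_iff (f := K.subtype) K.subtype.injective p).2 hp
    obtain ⟨n, -, hn⟩ := FiniteField.card K p
    rw [Nat.card_eq_fintype_card, hn]
    exact Nat.le_self_pow n.ne_zero _
  by_cases hE : (ringChar F = 2 ∨ ringChar F = 3) ∧ Nat.card K = ringChar F
  · -- all root groups are the prime field
    rw [hrc] at hE
    have hroot : ∀ w ψ, IsT M w ψ → (root M w ψ : Set F) = K := by
      intro w ψ hw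
      obtain ⟨K', hK'⟩ := root_isSubfield hM hw
      refine hsup _ (hmax w ψ hw) fun x hx => ?_
      obtain ⟨n, -, rfl⟩ := prime_field_cases hE.2 hx
      rw [hK']
      exact natCast_mem K' n
    have hroot' := root_eq_inBasis hroot
    by_cases hns : NoSingle M
    · rcases hE.1 with rfl | rfl
      · exact Or.inr (Or.inr (Or.inr (Or.inl ⟨hp, hns, K, hE.2, hroot⟩)))
      · exact Or.inr (Or.inr (Or.inr (Or.inr ⟨hp, hns, K, hE.2, hroot⟩)))
    · unfold NoSingle at hns
      push Not at hns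
      obtain ⟨w, ψ, u, θ, hw, hu, h0, hne⟩ := hns
      obtain ⟨g, hT, -, -⟩ := exists_tri hu hw hne h0
      rcases hE.1 with rfl | rfl
      · by_cases hI : HasIrr M
        · exact Or.inr (Or.inr (Or.inl ⟨hp, fourFrame_of_hasIrr hM (two_values hE.2) hroot hI⟩))
        refine Or.inl (IsLinearType.of_inBasis (g := g) (isLinearType_of_good (hM.inBasis g) (hroot' g) hT
          fun g' hT' y η hy h2 h0 => good_two (two_values hE.2) (root_eq_inBasis (hroot' g) g') hT' ?_ hy h2 h0))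
        rintro ⟨g'', v', φ', hT'', hI''⟩
        rw [inBasis_inBasis, inBasis_inBasis] at hT'' hI''
        exact hI ⟨_, v', φ', hT'', hI''⟩
      · exact Or.inl (IsLinearType.of_inBasis (g := g)
          (isLinearType_three (hM.inBasis g) (three_values hE.2) (hroot' g) hT))
  · -- regular
    have hreg : ∀ a b c d, IsT M a b → IsT M c d → aval a b c d ≠ 0 → (root M a b : Set F) = K →
        (root M c d : Set F) = K ∧ aval a b c d ∈ K := by
      intro a b c d h1 h2 h0 hr
      obtain ⟨K', e1, e2, e3⟩ := root_pair h1 h2 h0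
      obtain rfl : K' = K := SetLike.coe_injective (e1.symm.trans hr)
      exact ⟨e2, e3.resolve_right hE⟩
    by_cases hns : NoSingle M
    · obtain ⟨w, ψ, hw, ha⟩ := hM.exists_opp ht
      have hall : ∀ a b, IsT M a b → (root M a b : Set F) = K := fun a b h =>
        hM.forall_of_split (fun a b => (root M a b : Set F) = K) ht hw ha hK (hreg _ _ _ _ ht hw ha hK).1
          (fun a b c d h1 h2 hQ hnQ => by
            have h0 : aval a b c d = 0 := by_contra fun h => hnQ (hreg a b c d h1 h2 h hQ).1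
            rcases mul_eq_zero.1 h0 with h | h
            · exact ⟨h, hns _ _ _ _ h1 h2 h⟩
            · exact ⟨hns _ _ _ _ h2 h1 h, h⟩) h
      refine Or.inr (Or.inl (isUnitaryType_of_uhyp hM ⟨hns, hall, fun a b c d h1 h2 => ?_⟩ ?_))
      · by_cases h0 : aval a b c d = 0
        · rw [h0]; exact K.zero_mem
        · exact (hreg a b c d h1 h2 h0 (hall _ _ h1)).2
      · by_contra h3
        have h2 : Nat.card K = 2 := by have := Finite.one_lt_card (α := K); omega
        refine hE ⟨Or.inl ?_, ?_⟩ <;> rw [hrc] <;> have := (Fact.out : p.Prime).two_le <;> omega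
    · obtain ⟨a, b, c, d, hab, hcd, hK', hsingle⟩ : ∃ a b c d, IsT M a b ∧ IsT M c d ∧
          (root M a b : Set F) = K ∧ ((b ⬝ᵥ c ≠ 0 ∧ d ⬝ᵥ a = 0) ∨ (b ⬝ᵥ c = 0 ∧ d ⬝ᵥ a ≠ 0)) := by
        by_contra hc
        push Not at hc
        obtain ⟨w, ψ, hw, ha⟩ := hM.exists_opp ht
        have hall : ∀ a b, IsT M a b → (root M a b : Set F) = K := fun a b h =>
          hM.forall_of_split (fun a b => (root M a b : Set F) = K) ht hw ha hK (hreg _ _ _ _ ht hw ha hK).1
            (fun a b c d h1 h2 hQ hnQ => by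
              have h0 : aval a b c d = 0 := by_contra fun h => hnQ (hreg a b c d h1 h2 h hQ).1
              rcases mul_eq_zero.1 h0 with h | h
              · exact ⟨h, (hc a b c d h1 h2 hQ).2 h⟩
              · refine ⟨by_contra fun h' => ?_, h⟩
                exact (hc a b c d h1 h2 hQ).1 h' h) h
        exact hns fun a b c d h1 h2 h0 => (hc a b c d h1 h2 (hall _ _ h1)).2 h0
      obtain ⟨g, hT, hsub⟩ : ∃ g, Tri (inBasis M g) ∧ ∀ s ∈ root M a b, s ∈ root (inBasis M g) (e F 0) (e F 2) := by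
        rcases hsingle with ⟨h1, h2⟩ | ⟨h1, h2⟩
        · obtain ⟨g, hT, q1, -⟩ := exists_tri hab hcd h1 h2
          exact ⟨g, hT, q1⟩
        · obtain ⟨g, hT, -, q2⟩ := exists_tri hcd hab h2 h1
          exact ⟨g, hT, q2⟩
      have hR : Reg (inBasis M g) K := fun a b c d h1 h2 h0 hr => by
        rw [root_inBasis] at hr ⊢
        have := hreg _ _ _ _ h1.of_inBasis h2.of_inBasis (by simpa only [aval, vecMul_dotProduct_mulVec] using h0) hr
        simpa only [aval, vecMul_dotProduct_mulVec] using this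
      refine Or.inl (IsLinearType.of_inBasis (g := g) (isLinearType_of_frame (hM.inBasis g) hR hT.t01 hT.t12 hT.t02
        (hlift g _ _ hT.t02 fun s hs => hsub s ?_) (hlift g)))
      rw [← SetLike.mem_coe, hK']; exact hs

end CfsgLib.Geo.D3
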