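/-
Groups generated by transvections in dimension three: no single incidences and root groups of order two.
-/
import Cfsg.Agent.Geo.DimThree.Two
import Cfsg.Agent.Geo.SLThree.PlaneSmall
import Cfsg.Agent.Invol.IsolatedApps
import Cfsg.Agent.OddEnd.FourteenFinal

set_option autoImplicit false

namespace CfsgLib.Geo.D3

open Matrix Cfsg Cfsg.Geo CfsgLib.Geo CfsgLib.Geo.SL3

variable {F : Type*} [Field F] {M : Subgroup (GL (Fin 3) F)} {K : Subfield F} {v φ w ψ : Fin 3 → F}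

/-- The axes at a double centre take the values of a subfield at an opposite centre. -/
theorem values_field [Finite F] [CharP F 2] {φ2 : Fin 3 → F} (ht : IsT M v φ) (ht2 : IsT M v φ2)
    (hx : IsT M w ψ) (hψ : ψ ⬝ᵥ v = 1) (h1 : φ ⬝ᵥ w ≠ 0) (h2 : φ2 ⬝ᵥ w ≠ 0) (h12 : φ ⬝ᵥ w ≠ φ2 ⬝ᵥ w)
    (hsep : ∀ θ, HasTv M v θ → θ ⬝ᵥ w = 0 → θ = 0) :
    ∃ L : Subfield F, (∀ θ, HasTv M v θ → θ ⬝ᵥ w ∈ L) ∧ ∀ x ∈ L, ∃ θ, HasTv M v θ ∧ θ ⬝ᵥ w = x := by
  classical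
  have := Fact.mk Nat.prime_two
  set a := φ ⬝ᵥ w with ha
  have hQP := secQ_mul_secP ht.dot hx.dot hψ h1
  set P := secP v w with hP
  set Q := secQ φ ψ a with hQ
  set H := secGroup M P Q
  have hEP : (1 - P * Q) * P = 0 := by
    rw [Matrix.sub_mul, Matrix.one_mul, Matrix.mul_assoc, hQP, Matrix.mul_one, sub_self]
  have hEv : ∀ c : Fin 2 → F, (1 - P * Q) *ᵥ (c 0 • v + c 1 • w) = 0 := fun c => by
    rw [← secP_mulVec, Matrix.mulVec_mulVec, hEP, Matrix.zero_mulVec]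
  have hlow : (1 : F) ∈ SL2Core.lowRoot H := by
    refine ⟨tvec w ψ hx.dot, hx.mem.2, Matrix.ext_iff_mulVec.2 fun c => ?_, ?_⟩
    · rw [← Matrix.mulVec_mulVec, ← Matrix.mulVec_mulVec, hP, secP_mulVec, secP_mulVec, tvec_mulVec]
      simp [CfsgLib.SL2Pair.low_coe, Matrix.mulVec, vecHead, vecTail, dotProduct_add, dotProduct_smul, hψ, hx.dot, add_smul]
      abel
    · have e := hEv ![0, 1]
      simp at e
      rw [tvec_val, Matrix.mul_add, Matrix.mul_one, Matrix.mul_vecMulVec, e, Matrix.zero_vecMulVec, add_zero]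
  have hupθ : ∀ θ, HasTv M v θ → θ ⬝ᵥ w ∈ SL2Core.upRoot H := fun θ hθ => by
    refine ⟨tvec v θ hθ.1, hθ.2, Matrix.ext_iff_mulVec.2 fun c => ?_, ?_⟩
    · rw [← Matrix.mulVec_mulVec, ← Matrix.mulVec_mulVec, hP, secP_mulVec, secP_mulVec, tvec_mulVec]
      simp [CfsgLib.SL2Pair.up_coe, Matrix.mulVec, vecHead, vecTail, dotProduct_add, dotProduct_smul, hθ.1, add_smul, mul_comm]
      abel
    · have e := hEv ![1, 0]
      simp at e
      rw [tvec_val, Matrix.mul_add, Matrix.mul_one, Matrix.mul_vecMulVec, e, Matrix.zero_vecMulVec, add_zero]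
  have haA := hupθ φ ht.mem
  have hbA := hupθ φ2 ht2.mem
  rcases SL2Core.sl2_core 2 hlow haA h1 with ⟨L, hA, hB⟩ | ⟨-, hcA, -⟩
  swap
  · exfalso
    have hsub : ({0, a, φ2 ⬝ᵥ w} : Set F) ⊆ SL2Core.upRoot H := by
      rintro y (rfl | rfl | rfl)
      exacts [zero_mem _, haA, hbA]
    have h3 : ({0, a, φ2 ⬝ᵥ w} : Set F).ncard = 3 :=
      Set.ncard_eq_three.2 ⟨0, a, φ2 ⬝ᵥ w, Ne.symm h1, Ne.symm h2, h12, rfl⟩
    have := Set.ncard_le_ncard hsub (Set.toFinite _)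
    rw [h3, ← Nat.card_coe_set_eq] at this
    exact absurd (hcA ▸ this : 3 ≤ 2) (by norm_num)
  refine ⟨L, fun θ hθ => (Set.ext_iff.1 hA _).1 (hupθ θ hθ), fun x hxL => ?_⟩
  rcases eq_or_ne x 0 with rfl | hx0
  · exact ⟨0, hasTv_zero_right M v, zero_dotProduct w⟩
  obtain ⟨g, hg, hgP, hgE⟩ : CfsgLib.SL2Pair.up x ∈ H := (Set.ext_iff.1 hA x).2 hxL
  have hgv : (g : Matrix (Fin 3) (Fin 3) F) *ᵥ v = v := by
    have e := congrArg (fun X => X *ᵥ ![(1 : F), 0]) hgP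
    simp only [← Matrix.mulVec_mulVec, hP, secP_mulVec] at e
    simpa [CfsgLib.SL2Pair.up_coe] using e
  have hgw : (g : Matrix (Fin 3) (Fin 3) F) *ᵥ w = w + x • v := by
    have e := congrArg (fun X => X *ᵥ ![(0 : F), 1]) hgP
    simp only [← Matrix.mulVec_mulVec, hP, secP_mulVec] at e
    simpa [CfsgLib.SL2Pair.up_coe, add_comm] using e
  set N := (g : Matrix (Fin 3) (Fin 3) F) - 1 with hN
  set μ := ψ ᵥ* N with hμ
  set ν := a⁻¹ • (φ ᵥ* N) with hν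
  have hNy : ∀ y, N *ᵥ y = (g : Matrix (Fin 3) (Fin 3) F) *ᵥ y - y := fun y => by
    rw [hN, sub_mulVec, one_mulVec]
  have hgy : ∀ y, (g : Matrix (Fin 3) (Fin 3) F) *ᵥ y = y + (μ ⬝ᵥ y) • v + (ν ⬝ᵥ y) • w := by
    intro y
    have e := congrArg (fun X => X *ᵥ y) hgE
    simp only [← Matrix.mulVec_mulVec] at e
    rw [← sub_eq_zero, ← Matrix.mulVec_sub, ← hNy, sub_mulVec, one_mulVec, ← Matrix.mulVec_mulVec, hQ,
      secQ_mulVec, hP, secP_mulVec, sub_eq_zero] at e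
    rw [hμ, hν, smul_dotProduct, smul_eq_mul, ← dotProduct_mulVec, ← dotProduct_mulVec, add_assoc]
    simp only [Matrix.cons_val_zero, Matrix.cons_val_one] at e
    rw [← e, hNy]
    abel
  have hμv : μ ⬝ᵥ v = 0 := by rw [hμ, ← dotProduct_mulVec, hNy, hgv, sub_self, dotProduct_zero]
  have hμw : μ ⬝ᵥ w = x := by
    rw [hμ, ← dotProduct_mulVec, hNy, hgw, add_sub_cancel_left, dotProduct_smul, hψ, smul_eq_mul, mul_one]
  have hνv : ν ⬝ᵥ v = 0 := by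
    rw [hν, smul_dotProduct, ← dotProduct_mulVec, hNy, hgv, sub_self, dotProduct_zero, smul_zero]
  have hνw : ν ⬝ᵥ w = 0 := by
    rw [hν, smul_dotProduct, ← dotProduct_mulVec, hNy, hgw, add_sub_cancel_left, dotProduct_smul, ht.dot,
      smul_zero, smul_zero]
  have hd : (x • ν) ⬝ᵥ v = 0 := by rw [smul_dotProduct, hνv, smul_zero]
  have hsq : HasTv M v (x • ν) := by
    refine ⟨hd, ?_⟩
    have e : tvec v (x • ν) hd = g * g := gl_ext_mulVec fun y => by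
      rw [tvec_mulVec, mul_mulVec, hgy y, mulVec_add, mulVec_add, mulVec_smul, mulVec_smul, hgy y, hgv, hgw,
        smul_dotProduct, smul_eq_mul, smul_add, smul_smul]
      have h2F : (2 : F) = 0 := CharTwo.two_eq_zero
      calc y + (x * (ν ⬝ᵥ y)) • v
          = y + ((ν ⬝ᵥ y) * x) • v + ((2 : F) • ((μ ⬝ᵥ y) • v) + (2 : F) • ((ν ⬝ᵥ y) • w)) := by
            rw [h2F, zero_smul, zero_smul, add_zero, add_zero, mul_comm]
        _ = _ := by module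
    rw [e]; exact M.mul_mem hg hg
  have hν0 : ν = 0 :=
    (smul_eq_zero.1 (hsep _ hsq (by rw [smul_dotProduct, hνw, smul_zero]))).resolve_left hx0
  have htv : HasTv M v μ := by
    refine ⟨hμv, ?_⟩
    have e : tvec v μ hμv = g := gl_ext_mulVec fun y => by
      rw [tvec_mulVec, hgy y, hν0, zero_dotProduct, zero_smul, add_zero]
    rw [e]; exact hg
  exact ⟨μ, htv, hμw⟩

/-- Two transvections with one centre and different axes are impossible without single incidences when all root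
groups have order two. -/
theorem eq_of_same_centre [Finite F] [CharP F 2] (hM : Hyp M) (hns : NoSingle M) (ht : IsT M v φ)
    (ht2 : IsT M v ψ) (hind : ψ ∉ F ∙ φ) : False := by
  classical
  -- every other centre is opposite to all transvections at the double centre
  have hopp : ∀ u ζ : Fin 3 → F, IsT M u ζ → u ∉ F ∙ v →
      ζ ⬝ᵥ v ≠ 0 ∧ ∀ θ, HasTv M v θ → θ ⬝ᵥ u = 0 → θ = 0 := by
    intro u ζ hu huv
    have h0 : ζ ⬝ᵥ v ≠ 0 := by
      intro e0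
      have a1 := hns _ _ _ _ hu ht e0
      have a2 := hns _ _ _ _ hu ht2 e0
      obtain ⟨c, -, hc⟩ := exists_smul_of_two_zero ht.v_ne huv ht.φ_ne ht2.φ_ne ht.dot a1 ht2.dot a2
      exact hind (hc ▸ Submodule.smul_mem _ c (Submodule.mem_span_singleton_self φ))
    exact ⟨h0, fun θ hθ e0 => by_contra fun hne => h0 (hns _ _ _ _ ⟨ht.v_ne, hne, hθ⟩ hu e0)⟩
  -- the values at a scaled centre form a subfield of fixed order
  have hne12 : φ - ψ ≠ 0 := fun e0 => hind (by rw [← sub_eq_zero.1 e0]; exact Submodule.mem_span_singleton_self φ)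
  let X : Set (Fin 3 → F) := {θ | HasTv M v θ}
  have hfield : ∀ u ζ : Fin 3 → F, IsT M u ζ → u ∉ F ∙ v → ∃ L : Subfield F,
      Nat.card L = Nat.card X ∧ ∀ θ, HasTv M v θ → (ζ ⬝ᵥ v) * (θ ⬝ᵥ u) ∈ L := by
    intro u ζ hu huv
    obtain ⟨hζ, hsep⟩ := hopp u ζ hu huv
    have hu' := hu.smul hζ
    have hval : ∀ θ : Fin 3 → F, θ ⬝ᵥ ((ζ ⬝ᵥ v) • u) = (ζ ⬝ᵥ v) * (θ ⬝ᵥ u) := fun θ => by
      rw [dotProduct_smul, smul_eq_mul]
    have hsep' : ∀ θ, HasTv M v θ → θ ⬝ᵥ ((ζ ⬝ᵥ v) • u) = 0 → θ = 0 := fun θ hθ e0 =>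
      hsep θ hθ ((mul_eq_zero.1 ((hval θ).symm.trans e0)).resolve_left hζ)
    obtain ⟨L, hL1, hL2⟩ := values_field ht ht2 hu' (by rw [smul_dotProduct, smul_eq_mul, inv_mul_cancel₀ hζ])
      (fun e0 => ht.φ_ne (hsep' _ ht.mem e0)) (fun e0 => ht2.φ_ne (hsep' _ ht2.mem e0))
      (fun e0 => hne12 (hsep' _ (ht.mem.sub_axis ht2.mem) (by rw [sub_dotProduct, e0, sub_self]))) hsep'
    refine ⟨L, Nat.card_congr (Equiv.ofBijective (fun θ : X => (⟨_, hL1 _ θ.2⟩ : L)) ⟨?_, ?_⟩).symm,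
      fun θ hθ => hval θ ▸ hL1 θ hθ⟩
    · rintro ⟨θ, hθ⟩ ⟨θ', hθ'⟩ he
      refine Subtype.ext (sub_eq_zero.1 (hsep' _ (hθ.sub_axis hθ') ?_))
      rw [sub_dotProduct, sub_eq_zero]
      exact congrArg Subtype.val he
    · rintro ⟨x, hxL⟩
      obtain ⟨θ, hθ, hθx⟩ := hL2 x hxL
      exact ⟨⟨θ, hθ⟩, Subtype.ext hθx⟩
  -- scaled centres take proportional values
  obtain ⟨θ₀, hθ₀, hθ₀v⟩ : ∃ θ : Fin 3 → F, θ ≠ 0 ∧ θ ⬝ᵥ v = 0 := ⟨φ, ht.φ_ne, ht.dot⟩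
  obtain ⟨w₁, ζ₁, hw₁, hw₁φ⟩ := hM.exists_centre_ne ht.φ_ne
  have hw₁v : w₁ ∉ F ∙ v := notMem_span_of_dot ht.dot hw₁φ
  obtain ⟨hζ₁, hsep₁⟩ := hopp _ _ hw₁ hw₁v
  -- a covector killing the double centre and the first centre
  obtain ⟨η, hη, hηv, hηw⟩ : ∃ η : Fin 3 → F, η ≠ 0 ∧ η ⬝ᵥ v = 0 ∧ η ⬝ᵥ w₁ = 0 := by
    obtain ⟨R, hR1, hR2⟩ := Plane.exists_inc_both (Projectivization.mk F v ht.v_ne)
      (Projectivization.mk F w₁ hw₁.v_ne)
    rw [← R.mk_rep, Plane.inc_mk, dotProduct_comm] at hR1 hR2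
    exact ⟨R.rep, R.rep_nonzero, hR1, hR2⟩
  obtain ⟨w₂, ζ₂, hw₂, hw₂η⟩ := hM.exists_centre_ne hη
  have hw₂v : w₂ ∉ F ∙ v := notMem_span_of_dot hηv hw₂η
  obtain ⟨hζ₂, hsep₂⟩ := hopp _ _ hw₂ hw₂v
  set d := ζ₂ ⬝ᵥ v with hd
  set c₁ := ζ₁ ⬝ᵥ v with hc₁
  obtain ⟨L, hLc, hL₁⟩ := hfield _ _ hw₁ hw₁v
  have hinL : ∀ u ζ : Fin 3 → F, IsT M u ζ → ∀ θ, HasTv M v θ → (ζ ⬝ᵥ v) * (θ ⬝ᵥ u) ∈ L := by
    intro u ζ hu θ hθ
    by_cases huv : u ∈ F ∙ v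
    · obtain ⟨c, rfl⟩ := Submodule.mem_span_singleton.1 huv
      rw [dotProduct_smul, hθ.dot, smul_zero, mul_zero]; exact L.zero_mem
    obtain ⟨L', hc', hL'⟩ := hfield u ζ hu huv
    refine mem_of_pow_card L ?_
    rw [hLc, ← hc']
    exact pow_card_of_mem (hL' θ hθ)
  -- the two value functions are not proportional
  obtain ⟨θa, θb, hθa, hθb, hab⟩ : ∃ θa θb, HasTv M v θa ∧ HasTv M v θb ∧
      (d * (θa ⬝ᵥ w₂)) * (c₁ * (θb ⬝ᵥ w₁)) ≠ (d * (θb ⬝ᵥ w₂)) * (c₁ * (θa ⬝ᵥ w₁)) := by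
    by_contra hc
    push Not at hc
    have h0 := hc φ ψ ht.mem ht2.mem
    have hφ1 : φ ⬝ᵥ w₁ ≠ 0 := hw₁φ
    set z : Fin 3 → F := (φ ⬝ᵥ w₁) • w₂ - (φ ⬝ᵥ w₂) • w₁ with hz
    have z1 : φ ⬝ᵥ z = 0 := by
      rw [hz, dotProduct_sub, dotProduct_smul, dotProduct_smul, smul_eq_mul, smul_eq_mul, mul_comm, sub_self]
    have z2 : ψ ⬝ᵥ z = 0 := by
      have h0' : (d * c₁) * ((φ ⬝ᵥ w₂) * (ψ ⬝ᵥ w₁)) = (d * c₁) * ((ψ ⬝ᵥ w₂) * (φ ⬝ᵥ w₁)) := by
        linear_combination h0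
      rw [hz, dotProduct_sub, dotProduct_smul, dotProduct_smul, smul_eq_mul, smul_eq_mul,
        mul_left_cancel₀ (mul_ne_zero hζ₂ hζ₁) h0', mul_comm, sub_self]
    have hzv : z ∈ F ∙ v := by_contra fun hzv => by
      obtain ⟨c, -, hc⟩ := exists_smul_of_two_zero ht.v_ne hzv ht.φ_ne ht2.φ_ne ht.dot z1 ht2.dot z2
      exact hind (hc ▸ Submodule.smul_mem _ c (Submodule.mem_span_singleton_self φ))
    obtain ⟨c, hc⟩ := Submodule.mem_span_singleton.1 hzv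
    have := congrArg (fun y => η ⬝ᵥ y) hc
    simp only [hz, dotProduct_smul, dotProduct_sub, hηv, hηw, smul_eq_mul, mul_zero, sub_zero] at this
    exact mul_ne_zero hφ1 hw₂η this.symm
  set A := c₁ * (θa ⬝ᵥ w₁) with hA
  set A' := c₁ * (θb ⬝ᵥ w₁) with hA'
  set B := d * (θa ⬝ᵥ w₂) with hB
  set B' := d * (θb ⬝ᵥ w₂) with hB'
  -- values in normalised coordinates
  set k := (ζ₁ ⬝ᵥ w₂) * d / c₁ with hk
  set l := (ζ₂ ⬝ᵥ w₁) * c₁ / d with hl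
  have hmain : ∀ θ' θ, HasTv M v θ' → HasTv M v θ →
      ((c₁ * (θ' ⬝ᵥ w₁)) + l + 1) * (d * (θ ⬝ᵥ w₂) + (k + d * (θ' ⬝ᵥ w₂)) * (c₁ * (θ ⬝ᵥ w₁))) ∈ L := by
    intro θ' θ hθ' hθ
    have h3 := hinL _ _ ((hw₂.conj_tv hθ').conj_tv hw₁.mem) θ hθ
    convert h3 using 1
    simp only [dotProduct_add, sub_dotProduct, smul_dotProduct, dotProduct_smul, smul_eq_mul, hθ.dot, hθ'.dot,
      CharTwo.sub_eq_add, add_dotProduct, mul_zero, add_zero, zero_mul, zero_add, ← hc₁, ← hd, hk, hl]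
    field_simp
    ring
  have hAL : ∀ θ, HasTv M v θ → c₁ * (θ ⬝ᵥ w₁) ∈ L := fun θ hθ => hinL _ _ hw₁ θ hθ
  have hBL : ∀ θ, HasTv M v θ → d * (θ ⬝ᵥ w₂) ∈ L := fun θ hθ => hinL _ _ hw₂ θ hθ
  set m := l + 1 with hm
  have step : ∀ θ' θ, HasTv M v θ' → HasTv M v θ →
      (c₁ * (θ ⬝ᵥ w₁)) * (k * (c₁ * (θ' ⬝ᵥ w₁)) + m * (d * (θ' ⬝ᵥ w₂))) ∈ L := by
    intro θ' θ hθ' hθ
    have h1 := hmain θ' θ hθ' hθ
    have h0 := hmain 0 θ (hasTv_zero_right M v) hθ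
    simp only [zero_dotProduct, mul_zero, zero_add, add_zero] at h0
    have h2 := L.sub_mem (L.sub_mem h1 h0) (L.add_mem (L.mul_mem (hAL θ' hθ') (hBL θ hθ))
      (L.mul_mem (L.mul_mem (hAL θ' hθ') (hBL θ' hθ')) (hAL θ hθ)))
    convert h2 using 1
    rw [hm]; ring
  obtain ⟨θc, hθc, hθc0⟩ : ∃ θ, HasTv M v θ ∧ c₁ * (θ ⬝ᵥ w₁) ≠ 0 :=
    ⟨φ, ht.mem, mul_ne_zero hζ₁ hw₁φ⟩
  have hlin : ∀ θ', HasTv M v θ' → k * (c₁ * (θ' ⬝ᵥ w₁)) + m * (d * (θ' ⬝ᵥ w₂)) ∈ L := fun θ' hθ' => by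
    have := L.div_mem (step θ' θc hθ' hθc) (hAL θc hθc)
    rwa [mul_div_cancel_left₀ _ hθc0] at this
  have hdet : B * A' - B' * A ≠ 0 := sub_ne_zero.2 hab
  have hkL : k ∈ L := by
    have h3 := L.div_mem (L.sub_mem (L.mul_mem (hBL _ hθa) (hlin _ hθb)) (L.mul_mem (hBL _ hθb) (hlin _ hθa)))
      (L.sub_mem (L.mul_mem (hBL _ hθa) (hAL _ hθb)) (L.mul_mem (hBL _ hθb) (hAL _ hθa)))
    convert h3 using 1
    rw [← hA, ← hA', ← hB, ← hB', eq_div_iff hdet]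
    ring
  -- a translate sends the second centre to a centre where an axis at the double centre vanishes
  obtain ⟨θd, hθd, hθd1, hθd0⟩ : ∃ θ, HasTv M v θ ∧ (c₁ * (θ ⬝ᵥ w₁) ≠ 0) ∧ θ ≠ 0 :=
    ⟨φ, ht.mem, mul_ne_zero hζ₁ hw₁φ, ht.φ_ne⟩
  obtain ⟨L₂, hc₂, hL₂⟩ := hfield _ _ hw₂ hw₂v
  have hbij : ∀ x ∈ L, ∃ θ, HasTv M v θ ∧ d * (θ ⬝ᵥ w₂) = x := by
    intro x hx
    let f : X → L := fun θ => ⟨d * (θ.1 ⬝ᵥ w₂), hBL _ θ.2⟩
    have hf : Function.Injective f := fun θ θ' he => Subtype.ext (sub_eq_zero.1 (hsep₂ _ (HasTv.sub_axis θ.2 θ'.2) (by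
      rw [sub_dotProduct, mul_left_cancel₀ hζ₂ (congrArg Subtype.val he), sub_self])))
    obtain ⟨θ, hθ⟩ := ((Nat.bijective_iff_injective_and_card f).2 ⟨hf, hLc.symm⟩).2 ⟨x, hx⟩
    exact ⟨θ.1, θ.2, congrArg Subtype.val hθ⟩
  obtain ⟨θ', hθ', hθ'e⟩ := hbij _ (L.add_mem hkL (L.div_mem (hBL _ hθd) (hAL _ hθd)))
  have hu := (hw₂.conj_tv hθ').conj_tv hw₁.mem
  have hzero : θd ⬝ᵥ ((w₂ + (θ' ⬝ᵥ w₂) • v) + (ζ₁ ⬝ᵥ (w₂ + (θ' ⬝ᵥ w₂) • v)) • w₁) = 0 := by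
    rw [dotProduct_add, dotProduct_add, dotProduct_smul, dotProduct_smul, hθd.dot, dotProduct_add, dotProduct_smul,
      smul_eq_mul, smul_eq_mul, smul_eq_mul, mul_zero, add_zero, ← hc₁]
    refine mul_left_cancel₀ hζ₂ ?_
    rw [mul_zero]
    have e1 : k * c₁ = (ζ₁ ⬝ᵥ w₂) * d := by rw [hk, div_mul_cancel₀ _ hζ₁]
    have e2 : (d * (θd ⬝ᵥ w₂)) / (c₁ * (θd ⬝ᵥ w₁)) * (c₁ * (θd ⬝ᵥ w₁)) = d * (θd ⬝ᵥ w₂) :=
      div_mul_cancel₀ _ hθd1
    have h2 : (2 : F) = 0 := CharTwo.two_eq_zero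
    linear_combination (c₁ * (θd ⬝ᵥ w₁)) * hθ'e - (θd ⬝ᵥ w₁) * e1 +
      e2 + ((θd ⬝ᵥ w₁) * (ζ₁ ⬝ᵥ w₂) * d + d * (θd ⬝ᵥ w₂) + (θd ⬝ᵥ w₁) * k * c₁ -
        (θd ⬝ᵥ w₁) * (ζ₁ ⬝ᵥ w₂) * d) * h2
  by_cases huv : (w₂ + (θ' ⬝ᵥ w₂) • v) + (ζ₁ ⬝ᵥ (w₂ + (θ' ⬝ᵥ w₂) • v)) • w₁ ∈ F ∙ v
  · obtain ⟨c, hc⟩ := Submodule.mem_span_singleton.1 huv
    have := congrArg (fun y => η ⬝ᵥ y) hc
    simp only [dotProduct_smul, dotProduct_add, hηv, hηw, smul_eq_mul, mul_zero, add_zero] at this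
    exact hw₂η this.symm
  · exact hθd0 ((hopp _ _ hu huv).2 θd hθd hzero)

/-- Without single incidences and with root groups of order two the group is solvable. -/
theorem isSolvable_of_noSingle_two [Finite F] [CharP F 2] (hM : Hyp M) (hns : NoSingle M)
    (hK : ∀ x ∈ K, x = 0 ∨ x = 1) (hroot : ∀ v φ : Fin 3 → F, IsT M v φ → (root M v φ : Set F) = K) :
    Group.IsSolvable M := by
  classical
  have hns' : NoSingle (rev M) := fun a b c d h1 h2 e0 => by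
    have h1' : IsT M (rv b) (rv a) := by rw [← isT_rev, rv_rv, rv_rv]; exact h1
    have h2' : IsT M (rv d) (rv c) := by rw [← isT_rev, rv_rv, rv_rv]; exact h2
    have hd : ∀ x y : Fin 3 → F, rv x ⬝ᵥ rv y = x ⬝ᵥ y := fun x y => by
      simp only [rv, vec3_dotProduct, Matrix.cons_val_zero, Matrix.cons_val_one, Matrix.cons_val_two,
        Matrix.head_cons, Matrix.tail_cons]
      ring
    rw [dotProduct_comm, ← hd] at e0
    have := hns _ _ _ _ h2' h1' e0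
    rwa [hd, dotProduct_comm] at this
  have hMr : Hyp (rev M) := by
    refine Hyp.inBasis ⟨?_, fun v hv => ?_, fun θ hθ => ?_⟩ _
    · refine Subgroup.map_le_iff_le_comap.2 (hM.le_of_tv fun v φ ht => ?_)
      refine Subgroup.subset_closure ⟨φ, -v, ?_, ⟨ht.φ_ne, neg_ne_zero.2 ht.v_ne, ?_⟩, Plane.dual_tvec ht.dot⟩
      · rw [neg_dotProduct, dotProduct_comm, ht.dot, neg_zero]
      · exact Plane.hasTv_dual.2 ht.mem.neg_center
    · obtain ⟨g, hg, hgv⟩ := hM.noLine v hv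
      refine ⟨Plane.dual g⁻¹, Subgroup.mem_map_of_mem _ (M.inv_mem hg), ?_⟩
      rwa [Plane.dual_mulVec, inv_inv]
    · obtain ⟨g, hg, hgv⟩ := hM.noPoint θ hθ
      refine ⟨Plane.dual g⁻¹, Subgroup.mem_map_of_mem _ (M.inv_mem hg), ?_⟩
      rwa [show θ ᵥ* ((Plane.dual g⁻¹ : GL (Fin 3) F) : Matrix (Fin 3) (Fin 3) F) =
        (g : Matrix (Fin 3) (Fin 3) F) *ᵥ θ by
          show θ ᵥ* ((g⁻¹⁻¹ : GL (Fin 3) F) : Matrix (Fin 3) (Fin 3) F)ᵀ = _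
          rw [inv_inv, Matrix.vecMul_transpose]]
  have hone : ∀ a b : Fin 3 → F, ∀ c : F, IsT M a b → HasTv M (c • a) b → c ≠ 0 → c = 1 := by
    intro a b c h hc hc0
    rw [← mem_root, ← SetLike.mem_coe, hroot _ _ h] at hc
    exact (hK c hc).resolve_left hc0
  -- commuting transvections are equal
  have heq : ∀ a b c d : Fin 3 → F, ∀ (h1 : IsT M a b) (h2 : IsT M c d), b ⬝ᵥ c = 0 → d ⬝ᵥ a = 0 →
      tvec a b h1.dot = tvec c d h2.dot := by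
    intro a b c d h1 h2 e1 e2
    by_cases hca : c ∈ F ∙ a
    · obtain ⟨s, rfl⟩ := Submodule.mem_span_singleton.1 hca
      have hs : s ≠ 0 := fun h => h2.v_ne (by rw [h, zero_smul])
      have h3 : IsT M a (s • d) := ⟨h1.v_ne, smul_ne_zero hs h2.φ_ne, (hasTv_smul_iff s hs).1 h2.mem⟩
      by_cases hind : s • d ∈ F ∙ b
      swap
      · exact (eq_of_same_centre hM hns h1 h3 hind).elim
      obtain ⟨r, hr⟩ := Submodule.mem_span_singleton.1 hind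
      have hr0 : r ≠ 0 := fun h => h3.φ_ne (by rw [← hr, h, zero_smul])
      have : r = 1 := hone a b r h1 ((hasTv_smul_iff r hr0).2 (by rw [hr]; exact h3.mem)) hr0
      rw [this, one_smul] at hr
      refine gl_ext_mulVec fun y => ?_
      rw [tvec_mulVec, tvec_mulVec, hr, smul_dotProduct, smul_smul, smul_eq_mul, mul_comm]
    · exfalso
      obtain ⟨r, hr0, hr⟩ := exists_smul_of_two_zero h1.v_ne hca h1.φ_ne h2.φ_ne h1.dot e1 e2 h2.dot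
      have h3 : IsT M (r • c) b := by
        refine ⟨smul_ne_zero hr0 h2.v_ne, h1.φ_ne, (hasTv_smul_iff r hr0).2 ?_⟩
        rw [← hr]; exact h2.mem
      have A1 : IsT (rev M) (rv b) (rv a) := isT_rev.2 h1
      have A2 : IsT (rev M) (rv b) (rv (r • c)) := isT_rev.2 h3
      refine eq_of_same_centre hMr hns' A1 A2 fun hmem => hca ?_
      obtain ⟨s, hs⟩ := Submodule.mem_span_singleton.1 hmem
      have hs' := congrArg rv hs
      rw [show s • rv a = rv (s • a) from funext fun i => by fin_cases i <;> rfl, rv_rv, rv_rv] at hs'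
      refine Submodule.mem_span_singleton.2 ⟨r⁻¹ * s, ?_⟩
      rw [← smul_smul, hs', smul_smul, inv_mul_cancel₀ hr0, one_smul]
  -- every transvection is isolated
  have hiso : ∀ a b : Fin 3 → F, ∀ h : IsT M a b,
      Cfsg.IsIsolatedInvolution (⟨tvec a b h.dot, h.tvec_mem⟩ : M) := by
    intro a b h
    refine ⟨orderOf_eq_prime ?_ ?_, fun g hg => Subtype.ext ?_⟩
    · refine Subtype.ext (gl_ext_mulVec fun y => ?_)
      rw [Subgroup.coe_pow, Plane.tvec_pow]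
      simp [CharTwo.two_eq_zero]
    · intro e1
      exact h.φ_ne ((Plane.tvec_eq_one (h := h.dot) h.v_ne).1 (congrArg Subtype.val e1))
    have h2 := h.conj g.2
    have e2 : ((g * (⟨tvec a b h.dot, h.tvec_mem⟩ : M) * g⁻¹ : M) : GL (Fin 3) F) =
        tvec _ _ h2.dot := tvec_conj _ _ _ h.dot
    have hc : tvec a b h.dot * tvec _ _ h2.dot = tvec _ _ h2.dot * tvec a b h.dot := by
      rw [← e2]; exact congrArg Subtype.val hg.eq
    rw [e2]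
    suffices key : ∀ (c d : Fin 3 → F) (h2 : IsT M c d),
        tvec a b h.dot * tvec c d h2.dot = tvec c d h2.dot * tvec a b h.dot → tvec c d h2.dot = tvec a b h.dot from
      key _ _ h2 hc
    clear hc e2 h2
    intro c d h2 hc
    have h0 : (b ⬝ᵥ c) * (d ⬝ᵥ a) = 0 := by
      by_contra hne
      have := congrArg (fun G : GL (Fin 3) F => (G : Matrix (Fin 3) (Fin 3) F) *ᵥ c) hc
      simp only [mul_mulVec, tvec_mulVec, h2.dot, zero_smul, add_zero, dotProduct_add, dotProduct_smul,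
        smul_eq_mul, zero_add] at this
      have e3 : ((b ⬝ᵥ c) * (d ⬝ᵥ a)) • c = 0 := by linear_combination (norm := module) -this
      exact h2.v_ne ((smul_eq_zero.1 e3).resolve_left hne)
    rcases mul_eq_zero.1 h0 with e3 | e3
    · exact (heq _ _ _ _ h h2 e3 (hns _ _ _ _ h h2 e3)).symm
    · exact (heq _ _ _ _ h h2 (hns _ _ _ _ h2 h e3) e3).symm
  -- abelian modulo the odd core
  set N := Cfsg.oddCore M
  haveI : N.Normal := by infer_instance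
  let Z : Subgroup M := (Subgroup.center (M ⧸ N)).comap (QuotientGroup.mk' N)
  have hZ : ∀ a b : Fin 3 → F, ∀ h : IsT M a b, (⟨tvec a b h.dot, h.tvec_mem⟩ : M) ∈ Z := by
    intro a b h
    refine Subgroup.mem_center_iff.2 fun q => ?_
    obtain ⟨g, rfl⟩ := QuotientGroup.mk'_surjective N q
    have := (QuotientGroup.eq_one_iff _).2 (IsoApps.comm_mem_oddCore (hiso a b h) g)
    rw [QuotientGroup.mk_mul, QuotientGroup.mk_mul, QuotientGroup.mk_mul, QuotientGroup.mk_inv, QuotientGroup.mk_inv,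
      mul_inv_eq_one, mul_inv_eq_iff_eq_mul] at this
    exact this.symm
  have hZtop : ∀ x : M, x ∈ Z := fun x => by
    obtain ⟨y, hy, hyx⟩ := (hM.le_of_tv (H := Z.map M.subtype) fun a b h => ⟨_, hZ a b h, rfl⟩) x.2
    rwa [← Subtype.ext (hyx : (y : GL (Fin 3) F) = x)]
  haveI : Group.IsSolvable (M ⧸ N) := Group.isSolvable_of_comm fun p q => by
    obtain ⟨x, rfl⟩ := QuotientGroup.mk'_surjective N p
    exact (Subgroup.mem_center_iff.1 (hZtop x) q).symm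
  haveI : Group.IsSolvable N := CfsgLib.OddEnd.odd_solvable N IsoApps.odd_oddCore
  exact Group.isSolvable_of_ker_le_range N.subtype (QuotientGroup.mk' N) (by
    rw [QuotientGroup.ker_mk', N.range_subtype])

end CfsgLib.Geo.D3
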