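/-
Groups generated by transvections in dimension three: the classification.
-/
import Cfsg.Agent.Geo.DimThree.TvReduce
import Cfsg.Agent.Geo.DimThree.FourField
import Cfsg.Agent.Geo.DimThree.TwoNoSingle
import Cfsg.Agent.Geo.DimThree.ThreeNoSingle

set_option autoImplicit false

namespace CfsgLib.Geo.D3

open Matrix Cfsg Cfsg.Geo CfsgLib.Geo

variable {F : Type*} [Field F] {M : Subgroup (GL (Fin 3) F)}

lemma IsSextupleType.of_inBasis {g : GL (Fin 3) F} (h : IsSextupleType (inBasis M g)) : IsSextupleType M := by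
  obtain ⟨K, g', hc, hle, ⟨ι⟩⟩ := h
  refine ⟨K, g' * g⁻¹, hc, ?_, ⟨?_⟩⟩
  · refine le_trans (le_of_eq ?_) hle
    rw [inBasis, Subgroup.map_map]
    congr 1
    ext x
    simp [mul_assoc]
  · set f : GL (Fin 3) F →* GL (Fin 3) F := (MulAut.conj g⁻¹).toMonoidHom with hf
    have hfi : Function.Injective f := (MulAut.conj g⁻¹).injective
    have hcen : ∀ (k y : GL (Fin 3) F), y ∈ scalars (Fin 3) F → k * y * k⁻¹ = y := fun k y hy => by
      obtain ⟨c, hc⟩ := (mem_scalars_iff y).1 hy
      rw [mul_inv_eq_iff_eq_mul]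
      exact Units.ext (by simp [hc])
    have hfix : ∀ x : GL (Fin 3) F, f x ∈ scalars (Fin 3) F ↔ x ∈ scalars (Fin 3) F := fun x => by
      have hfx : f x = g⁻¹ * x * g := by simp [hf]
      refine ⟨fun h => ?_, fun h => ?_⟩
      · have := hcen g _ h
        rw [hfx] at this
        simp only [mul_assoc, mul_inv_cancel, mul_inv_cancel_left, mul_one] at this
        rw [this, ← mul_assoc, ← hfx]
        exact h
      · have := hcen g⁻¹ _ h
        rw [inv_inv] at this
        rwa [hfx, this]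
    set eM := Subgroup.equivMapOfInjective M f hfi
    refine (QuotientGroup.congr _ _ eM ?_).trans ι
    ext x
    constructor
    · rintro ⟨y, hy, rfl⟩
      exact (hfix y).2 hy
    · intro hx
      obtain ⟨y, rfl⟩ := eM.surjective x
      exact ⟨y, (hfix y).1 hx, rfl⟩

/-- A subgroup of `GL₃(F)` generated by its transvections, fixing no point and no line, and not solvable,
is linear, unitary, or the sextuple group. -/
theorem tv_classification [Finite F] (hM : Hyp M) (hns : ¬ Group.IsSolvable M) :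
    IsLinearType M ∨ IsUnitaryType M ∨ IsSextupleType M := by
  rcases tv_reduce hM with h | h | ⟨-, h⟩ | ⟨h2, hN, K, hK, hroot⟩ | ⟨h3, hN, K, hK, hroot⟩
  · exact Or.inl h
  · exact Or.inr (Or.inl h)
  · obtain ⟨g, L, v, φ, hL, hMg, hle, hT, hr, hI, hv, hφ⟩ := h
    exact Or.inr (Or.inr (IsSextupleType.of_inBasis (sextuple_of_frame hL hMg hle hT.t01 hT.t12 hT.t02 hr
      hI.isT hv hφ hI.v2 ⟨hI.v1_0, hI.v1_1⟩ ⟨hI.φ0, hI.φ1_0, hI.φ1_1⟩)))
  · exact absurd (isSolvable_of_noSingle_two hM hN (two_values hK) hroot) hns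
  · exact Or.inr (Or.inl (isUnitaryType_of_uhyp hM
      ⟨hN, hroot, aval_mem_of_noSingle_three hM hN (three_values hK) hroot⟩ (by omega)))

end CfsgLib.Geo.D3
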