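/-
Groups generated by transvections in dimension three: centraliser and normaliser of a group over a subfield.
-/
import Cfsg.Agent.Geo.DimThree.UnitaryType

set_option autoImplicit false

namespace CfsgLib.Geo.D3

open Matrix Cfsg Cfsg.Geo CfsgLib.Geo CfsgLib.Geo.SL3

variable {F : Type*} [Field F]

/-- A subspace other than the whole space is killed by a nonzero covector. -/
lemma exists_covector {W : Submodule F (Fin 3 → F)} (hW : W ≠ ⊤) :
    ∃ θ : Fin 3 → F, θ ≠ 0 ∧ ∀ x ∈ W, θ ⬝ᵥ x = 0 := by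
  obtain ⟨f, hf, hle⟩ := Submodule.exists_le_ker_of_lt_top W (lt_top_iff_ne_top.2 hW)
  have he : ∀ x, (fun i => f (Pi.single i 1)) ⬝ᵥ x = f x := fun x => by
    conv_rhs => rw [pi_eq_sum_univ x, map_sum]
    refine Finset.sum_congr rfl fun i _ => ?_
    rw [map_smul, smul_eq_mul, mul_comm]
    congr 1
    show f _ = f _
    congr 1
    funext j
    simp [Pi.single_apply, eq_comm]
  refine ⟨_, fun e => hf (LinearMap.ext fun x => ?_), fun x hx => (he x).trans (LinearMap.mem_ker.1 (hle hx))⟩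
  rw [← he x, e, zero_dotProduct, LinearMap.zero_apply]

variable {M : Subgroup (GL (Fin 3) F)}

/-- A nonzero subspace closed for the transvections is the whole space. -/
theorem Hyp.eq_top_of_closed (hM : Hyp M) {W : Submodule F (Fin 3 → F)} {x₀ : Fin 3 → F} (h0 : x₀ ∈ W)
    (hx0 : x₀ ≠ 0) (h : ∀ w ψ : Fin 3 → F, IsT M w ψ → (∀ x ∈ W, ψ ⬝ᵥ x = 0) ∨ w ∈ W) : W = ⊤ := by
  by_contra hW
  have hinv : M ≤ subspaceStabilizer W := hM.le_of_tv fun v φ ht => mem_subspaceStabilizer.2 fun y hy => by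
    rw [tvec_mulVec]
    rcases h v φ ht with h | h
    · rw [h y hy, zero_smul, add_zero]; exact hy
    · exact W.add_mem hy (W.smul_mem _ h)
  by_cases hy : ∃ y ∈ W, y ∉ F ∙ x₀
  · obtain ⟨y, hyW, hy⟩ := hy
    obtain ⟨θ, hθ, hk⟩ := exists_covector hW
    obtain ⟨g, hg, hgθ⟩ := hM.noLine θ hθ
    have hz : ∀ z ∈ W, (θ ᵥ* (g : Matrix (Fin 3) (Fin 3) F)) ⬝ᵥ z = 0 := fun z hz => by
      rw [← Matrix.dotProduct_mulVec]; exact hk _ (mem_subspaceStabilizer.1 (hinv hg) z hz)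
    have hne : θ ᵥ* (g : Matrix (Fin 3) (Fin 3) F) ≠ 0 := fun e => hgθ (e ▸ Submodule.zero_mem _)
    obtain ⟨c, -, e⟩ := exists_smul_of_two_zero hx0 hy hθ hne (hk _ h0) (hk _ hyW) (hz _ h0) (hz _ hyW)
    exact hgθ (e ▸ Submodule.smul_mem _ _ (Submodule.mem_span_singleton_self θ))
  · push Not at hy
    obtain ⟨g, hg, hgx⟩ := hM.noPoint x₀ hx0
    exact hgx (hy _ (mem_subspaceStabilizer.1 (hinv hg) x₀ h0))

/-- The centraliser is scalar. -/
theorem Hyp.eq_smul_one_of_comm (hM : Hyp M) {A : Matrix (Fin 3) (Fin 3) F}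
    (hA : ∀ g ∈ M, A * (g : Matrix (Fin 3) (Fin 3) F) = (g : Matrix (Fin 3) (Fin 3) F) * A) :
    ∃ c : F, A = c • 1 := by
  obtain ⟨v, φ, ht, hne⟩ := hM.exists_axis_ne (e_ne (F := F) 0)
  have key : ∀ w ψ : Fin 3 → F, IsT M w ψ → ∀ x, (ψ ⬝ᵥ x) • (A *ᵥ w) = (ψ ⬝ᵥ (A *ᵥ x)) • w := fun w ψ h x => by
    have := congrArg (fun B => B *ᵥ x) (hA _ h.tvec_mem)
    simp only [← Matrix.mulVec_mulVec, tvec_mulVec, Matrix.mulVec_add, Matrix.mulVec_smul] at this
    exact add_left_cancel this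
  set c := (φ ⬝ᵥ (A *ᵥ e F 0)) / (φ ⬝ᵥ e F 0)
  have hv : A *ᵥ v = c • v := by
    rw [← smul_right_inj hne, key v φ ht, smul_smul, mul_div_cancel₀ _ hne]
  have hW := hM.eq_top_of_closed (W := LinearMap.ker (Matrix.toLin' (A - c • 1))) (x₀ := v) ?_ ht.v_ne ?_
  · refine ⟨c, sub_eq_zero.1 (Matrix.toLin'.injective ?_)⟩
    rw [map_zero]
    exact LinearMap.ker_eq_top.1 hW
  · simp [Matrix.toLin'_apply, Matrix.sub_mulVec, Matrix.smul_mulVec, hv]
  · intro w ψ hw
    by_contra hcon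
    push Not at hcon
    obtain ⟨⟨x, hx, hx0⟩, hwW⟩ := hcon
    rw [LinearMap.mem_ker, Matrix.toLin'_apply, Matrix.sub_mulVec, Matrix.smul_mulVec, Matrix.one_mulVec,
      sub_eq_zero] at hx hwW
    refine hwW ((smul_right_inj hx0).1 ?_)
    rw [key w ψ hw x, hx, dotProduct_smul, smul_eq_mul, smul_smul, mul_comm]

variable {K : Subfield F} {S : Subgroup (GL (Fin 3) K)}

/-- Whatever normalises a group over a subfield generated by transvections is a scalar times a matrix over the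
subfield. -/
theorem mem_ratScalar_of_normalizes {P : Subgroup (GL (Fin 3) F)} (hP : Hyp P)
    (hrat : P ≤ (Matrix.GeneralLinearGroup.map (n := Fin 3) (K.subtype : K →+* F)).range)
    {m : GL (Fin 3) F} (hn : ∀ x ∈ P, m * x * m⁻¹ ∈ P) : m ∈ ratScalar (Fin 3) K := by
  set mm : Matrix (Fin 3) (Fin 3) F := (m : Matrix (Fin 3) (Fin 3) F)
  set mi : Matrix (Fin 3) (Fin 3) F := ((m⁻¹ : GL (Fin 3) F) : Matrix (Fin 3) (Fin 3) F)
  have hent : ∀ g ∈ P, ∀ i j, ((g : Matrix (Fin 3) (Fin 3) F) - 1) i j ∈ K := fun g hg i j => by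
    obtain ⟨y, rfl⟩ := hrat hg
    rw [Matrix.sub_apply, Matrix.one_apply]
    refine K.sub_mem ((y : Matrix (Fin 3) (Fin 3) K) i j).2 ?_
    split_ifs
    · exact K.one_mem
    · exact K.zero_mem
  have hout : ∀ w ψ : Fin 3 → F, IsT P w ψ → (∀ i j, w i * ψ j ∈ K) ∧ ∀ i j, (mm *ᵥ w) i * (ψ ᵥ* mi) j ∈ K := by
    intro w ψ h
    refine ⟨fun i j => ?_, fun i j => ?_⟩
    · have := hent _ h.tvec_mem i j
      rwa [tvec_val, add_sub_cancel_left] at this
    · have := hn _ h.tvec_mem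
      rw [tvec_conj] at this
      have := hent _ this i j
      rwa [tvec_val, add_sub_cancel_left] at this
  obtain ⟨v, φ, ht, -⟩ := hP.exists_axis_ne (e_ne (F := F) 0)
  obtain ⟨j, hj⟩ : ∃ j, φ j ≠ 0 := by
    by_contra h; push Not at h; exact ht.φ_ne (funext h)
  set x₀ : Fin 3 → F := φ j • v with hx₀
  have hx0 : x₀ ≠ 0 := smul_ne_zero hj ht.v_ne
  obtain ⟨k₀, hk₀⟩ : ∃ k, (mm *ᵥ x₀) k ≠ 0 := by
    by_contra h; push Not at h; exact Plane.mulVec_ne_zero' m hx0 (funext h)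
  obtain ⟨l, hl⟩ : ∃ l, (φ ᵥ* mi) l ≠ 0 := by
    by_contra h
    push Not at h
    refine ht.φ_ne ?_
    have e : φ ᵥ* mi = 0 := funext h
    have := congrArg (fun y => y ᵥ* mm) e
    rwa [Matrix.vecMul_vecMul, ← Units.val_mul, inv_mul_cancel, Units.val_one, Matrix.vecMul_one,
      Matrix.zero_vecMul] at this
  set d := ((mm *ᵥ x₀) k₀)⁻¹ with hd
  let T : Submodule K (Fin 3 → K) :=
    { carrier := {x | ∀ i, d * (mm *ᵥ lift K x) i ∈ K}
      zero_mem' := fun i => by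
        rw [show lift K (0 : Fin 3 → K) = 0 from rfl, Matrix.mulVec_zero, Pi.zero_apply, mul_zero]; exact K.zero_mem
      add_mem' := fun {x y} hx hy i => by
        rw [show lift K (x + y) = lift K x + lift K y from rfl, Matrix.mulVec_add, Pi.add_apply, mul_add]
        exact K.add_mem (hx i) (hy i)
      smul_mem' := fun c x hx i => by
        rw [lift_smul, Matrix.mulVec_smul, Pi.smul_apply, smul_eq_mul, mul_left_comm]
        exact K.mul_mem c.2 (hx i) }
  -- the span of the good vectors over the whole field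
  set W : Submodule F (Fin 3 → F) := Submodule.span F (lift K '' (T : Set (Fin 3 → K))) with hWdef
  have hx₀T : (fun i => (⟨x₀ i, by rw [hx₀, Pi.smul_apply, smul_eq_mul, mul_comm]; exact (hout v φ ht).1 i j⟩ : K)) ∈ T := by
    intro i
    have e : d * (mm *ᵥ x₀) i = (mm *ᵥ v) i * (φ ᵥ* mi) l / ((mm *ᵥ v) k₀ * (φ ᵥ* mi) l) := by
      rw [hd, hx₀, Matrix.mulVec_smul, Pi.smul_apply, Pi.smul_apply, smul_eq_mul, smul_eq_mul] at *
      have hk' : (mm *ᵥ v) k₀ ≠ 0 := right_ne_zero_of_mul hk₀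
      field_simp
    show d * (mm *ᵥ x₀) i ∈ K
    rw [e]
    exact K.div_mem ((hout v φ ht).2 _ _) ((hout v φ ht).2 _ _)
  have hWtop : W = ⊤ := by
    refine hP.eq_top_of_closed (Submodule.subset_span ⟨_, hx₀T, rfl⟩) hx0 fun w ψ hw => ?_
    by_contra hcon
    push Not at hcon
    obtain ⟨⟨y, hy, hy0⟩, hwW⟩ := hcon
    obtain ⟨x, hx, hx0'⟩ : ∃ x ∈ T, ψ ⬝ᵥ lift K x ≠ 0 := by
      by_contra h
      push Not at h
      refine hy0 ?_
      have hle : W ≤ LinearMap.ker (dotProductBilin F F ψ) := Submodule.span_le.2 (by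
        rintro _ ⟨x, hx, rfl⟩
        simpa using h x hx)
      simpa using hle hy
    have hz : ∀ i, (ψ ⬝ᵥ lift K x) * w i ∈ K := fun i => by
      rw [dotProduct, Finset.sum_mul]
      refine sum_mem fun k _ => ?_
      rw [show ψ k * lift K x k * w i = w i * ψ k * (x k : F) by show ψ k * (x k : F) * w i = _; ring]
      exact K.mul_mem ((hout w ψ hw).1 i k) (x k).2
    have hzT : (fun i => (⟨(ψ ⬝ᵥ lift K x) * w i, hz i⟩ : K)) ∈ T := by
      intro i
      show d * (mm *ᵥ ((ψ ⬝ᵥ lift K x) • w)) i ∈ K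
      have e : ψ ⬝ᵥ lift K x = (ψ ᵥ* mi) ⬝ᵥ (mm *ᵥ lift K x) := (vecMul_dotProduct_mulVec ψ m _).symm
      rw [Matrix.mulVec_smul, Pi.smul_apply, smul_eq_mul, e, dotProduct, Finset.sum_mul, Finset.mul_sum]
      refine sum_mem fun k _ => ?_
      rw [show d * ((ψ ᵥ* mi) k * (mm *ᵥ lift K x) k * (mm *ᵥ w) i) =
        (mm *ᵥ w) i * (ψ ᵥ* mi) k * (d * (mm *ᵥ lift K x) k) by ring]
      exact K.mul_mem ((hout w ψ hw).2 i k) (hx k)
    have := Submodule.smul_mem W (ψ ⬝ᵥ lift K x)⁻¹ (Submodule.subset_span ⟨_, hzT, rfl⟩)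
    refine hwW ?_
    convert this using 1
    funext i
    show w i = (ψ ⬝ᵥ lift K x)⁻¹ * ((ψ ⬝ᵥ lift K x) * w i)
    rw [inv_mul_cancel_left₀ hx0']
  have hT : T = ⊤ := by
    by_contra h
    obtain ⟨θ, hθ, hk⟩ := exists_covector h
    have hle : W ≤ LinearMap.ker (dotProductBilin F F (lift K θ)) := Submodule.span_le.2 (by
      rintro _ ⟨x, hx, rfl⟩
      rw [SetLike.mem_coe, LinearMap.mem_ker, dotProductBilin_apply_apply, lift_dot, hk x hx, Subfield.coe_zero])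
    obtain ⟨i, hi⟩ : ∃ i, θ i ≠ 0 := by
      by_contra h'; push Not at h'; exact hθ (funext h')
    have := (hWtop ▸ hle) (Submodule.mem_top (x := Pi.single i 1))
    rw [LinearMap.mem_ker, dotProductBilin_apply_apply, dotProduct_single, mul_one] at this
    exact hi (Subtype.ext this)
  refine mem_ratScalar_of_scaled (d := d) (inv_ne_zero hk₀) fun k i => ?_
  have := (hT ▸ Submodule.mem_top : (Pi.single i 1 : Fin 3 → K) ∈ T) k
  rwa [show lift K (Pi.single i 1 : Fin 3 → K) = Pi.single i 1 by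
    funext a; simp only [lift, Pi.single_apply]; split_ifs <;> simp, Matrix.mulVec_single_one] at this

end CfsgLib.Geo.D3
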