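/-
Groups of dimension three normalising a group generated by transvections: their shapes modulo scalars.
-/
import Cfsg.Agent.Geo.DimThree.TvMain
import Cfsg.Agent.Geo.DimThree.TvNormaliser
import Cfsg.Agent.Geo.DimThree.NoTv.Defs
import Cfsg.Agent.Geo.SUThree.Gram
import Mathlib.Algebra.Field.Shrink

set_option autoImplicit false

namespace CfsgLib.Geo.D3

open Matrix Cfsg Cfsg.Geo CfsgLib.Geo CfsgLib.Geo.SL3

section groups

/-- Isomorphic groups have isomorphic central quotients. -/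
lemma centerQuot {A B : Type*} [Group A] [Group B] (e : A ≃* B) :
    Nonempty (A ⧸ Subgroup.center A ≃* B ⧸ Subgroup.center B) := by
  refine ⟨QuotientGroup.congr _ _ e ?_⟩
  ext x
  obtain ⟨y, rfl⟩ := e.surjective x
  refine (Subgroup.mem_map_equiv).trans ?_
  rw [e.symm_apply_apply, Subgroup.mem_center_iff, Subgroup.mem_center_iff]
  refine ⟨fun h z => ?_, fun h z => e.injective ?_⟩
  · obtain ⟨z, rfl⟩ := e.surjective z
    rw [← map_mul, ← map_mul, h]
  · rw [map_mul, map_mul, h]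

/-- In a cyclic group a non-cube generates modulo cubes. -/
lemma exists_cube_decomp {A : Type*} [CommGroup A] [IsCyclic A] {d : A} (hd : ∀ c, c ^ 3 ≠ d) (u : A) :
    ∃ (k : Fin 3) (c : A), u = d ^ (k : ℕ) * c ^ 3 := by
  obtain ⟨g, hg⟩ := IsCyclic.exists_generator (α := A)
  obtain ⟨j, hj⟩ := Subgroup.mem_zpowers_iff.1 (hg d)
  obtain ⟨i, hi⟩ := Subgroup.mem_zpowers_iff.1 (hg u)
  have hj3 : j % 3 ≠ 0 := fun h => hd (g ^ (j / 3)) (by
    rw [← hj, ← zpow_natCast, ← _root_.zpow_mul]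
    congr 1
    omega)
  obtain ⟨k, hk⟩ : ∃ k : Fin 3, (i - j * ((k : ℕ) : ℤ)) % 3 = 0 := by
    simp only [Fin.exists_fin_succ, Fin.val_zero, Fin.val_succ, IsEmpty.exists_iff, or_false]
    rcases (show j % 3 = 1 ∨ j % 3 = 2 by omega) with h | h <;>
      rcases (show i % 3 = 0 ∨ i % 3 = 1 ∨ i % 3 = 2 by omega) with h' | h' | h' <;> omega
  refine ⟨k, g ^ ((i - j * ((k : ℕ) : ℤ)) / 3), ?_⟩
  rw [← hi, ← hj, ← zpow_natCast (g ^ j), ← _root_.zpow_mul, ← zpow_natCast, ← _root_.zpow_mul, ← _root_.zpow_add]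
  congr 1
  omega

/-- Isomorphic fields have isomorphic special linear groups. -/
lemma sl_congr {A B : Type*} [Field A] [Field B] (e : A ≃+* B) :
    Nonempty (Matrix.SpecialLinearGroup (Fin 3) A ≃* Matrix.SpecialLinearGroup (Fin 3) B) :=
  ⟨MulEquiv.ofBijective (Matrix.SpecialLinearGroup.map (n := Fin 3) (e : A →+* B))
    ⟨fun a b h => by ext i j; exact e.injective (congrArg (fun C : Matrix.SpecialLinearGroup (Fin 3) B => C i j) h),
      fun a => ⟨Matrix.SpecialLinearGroup.map (n := Fin 3) (e.symm : B →+* A) a, by ext i j; exact e.apply_symm_apply _⟩⟩⟩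

lemma map_mem_su {A B : Type*} [Field A] [Field B] (e : A ≃+* B) {q : ℕ} (g : Cfsg.SU 3 A q) :
    Matrix.SpecialLinearGroup.map (e : A →+* B) g.1 ∈ Cfsg.SU 3 B q := by
  intro u v
  have key : ∀ w : Fin 3 → B, (Cfsg.slToMat 3 B) (Matrix.SpecialLinearGroup.map (e : A →+* B) g.1) *ᵥ w =
      fun i => e ((Cfsg.slToMat 3 A g.1 *ᵥ fun j => e.symm (w j)) i) := by
    intro w
    funext i
    simp only [Matrix.mulVec, dotProduct, map_sum, map_mul, RingEquiv.apply_symm_apply]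
    rfl
  have hform : ∀ a b : Fin 3 → A,
      Cfsg.hermForm 3 B q (fun i => e (a i)) (fun i => e (b i)) = e (Cfsg.hermForm 3 A q a b) := by
    intro a b
    simp only [Cfsg.hermForm, map_sum, map_mul, map_pow]
  rw [key u, key v, hform, g.2, ← hform]
  simp only [RingEquiv.apply_symm_apply]

/-- Isomorphic fields have isomorphic special unitary groups. -/
lemma su_congr {A B : Type*} [Field A] [Field B] (e : A ≃+* B) (q : ℕ) :
    Nonempty (Cfsg.SU 3 A q ≃* Cfsg.SU 3 B q) :=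
  ⟨{ toFun := fun g => ⟨_, map_mem_su e g⟩
     invFun := fun g => ⟨_, map_mem_su e.symm g⟩
     left_inv := fun g => Subtype.ext (by ext i j; exact e.symm_apply_apply _)
     right_inv := fun g => Subtype.ext (by ext i j; exact e.apply_symm_apply _)
     map_mul' := fun a b => Subtype.ext (map_mul (Matrix.SpecialLinearGroup.map (e : A →+* B)) a.1 b.1) }⟩

end groups

variable {F : Type*} [Field F]

/-- The matrices over a subfield, in the group over the field. -/
abbrev emb (K : Subfield F) : GL (Fin 3) K →* GL (Fin 3) F :=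
  Matrix.GeneralLinearGroup.map (n := Fin 3) (K.subtype : K →+* F)

/-- The scalar matrix. -/
abbrev scalarGL (K : Subfield F) : Kˣ →* GL (Fin 3) K :=
  Units.map (Matrix.scalar (Fin 3) : K →+* Matrix (Fin 3) (Fin 3) K).toMonoidHom

variable {K : Subfield F}

lemma emb_scalarGL (c : Kˣ) : emb K (scalarGL K c) ∈ scalars (Fin 3) F := by
  refine (mem_scalars_iff _).2 ⟨Units.map (K.subtype : K →+* F).toMonoidHom c, ?_⟩
  ext i j
  by_cases h : i = j <;> simp [Matrix.GeneralLinearGroup.map, h]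

lemma det_scalarGL (c : Kˣ) : Matrix.GeneralLinearGroup.det (scalarGL K c) = c ^ 3 := by
  refine Units.ext ?_
  rw [Units.val_pow_eq_pow_val]
  show (Matrix.scalar (Fin 3) (c : K)).det = _
  simp [Matrix.det_diagonal]

lemma det_emb (R : GL (Fin 3) K) :
    (emb K R : Matrix (Fin 3) (Fin 3) F).det = ((Matrix.GeneralLinearGroup.det R : Kˣ) : K) :=
  (RingHom.map_det (K.subtype : K →+* F) (R : Matrix (Fin 3) (Fin 3) K)).symm

/-- The shape modulo scalars of a determinant-one group between the determinant-one part of a group over a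
subfield and that group times the scalars. -/
theorem shape_core [Finite F] {M : Subgroup (GL (Fin 3) F)} (Γ : Subgroup (GL (Fin 3) K)) (D : Subgroup Kˣ)
    (hdet : ∀ x ∈ Γ, Matrix.GeneralLinearGroup.det x ∈ D) (hD : ∀ c ∈ D, scalarGL K c ∈ Γ)
    (hMle : M ≤ specialLinear (Fin 3) F) (hM : M ≤ Γ.map (emb K) ⊔ scalars (Fin 3) F)
    (hS : (Γ ⊓ specialLinear (Fin 3) K).map (emb K) ≤ M)
    (hP : Hyp ((Γ ⊓ specialLinear (Fin 3) K).map (emb K))) :
    Nonempty (Pro M ≃* ↥(Γ ⊓ specialLinear (Fin 3) K) ⧸ Subgroup.center ↥(Γ ⊓ specialLinear (Fin 3) K)) ∨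
      ∃ L : Subgroup (Pro M), L.index = 3 ∧
        Nonempty (L ≃* ↥(Γ ⊓ specialLinear (Fin 3) K) ⧸ Subgroup.center ↥(Γ ⊓ specialLinear (Fin 3) K)) ∧
        ∃ d ∈ D, (∀ c ∈ D, c ^ 3 ≠ d) ∧ ∃ y : F, y ^ 3 = ((d : K) : F) := by
  set S := Γ ⊓ specialLinear (Fin 3) K
  let ι : S →* M := ((emb K).comp S.subtype).codRestrict M fun x => hS ⟨x, x.2, rfl⟩
  let φ : S →* Pro M := (toPro M).comp ι
  have hker : φ.ker = Subgroup.center S := by
    ext x
    rw [MonoidHom.mem_ker, Subgroup.mem_center_iff]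
    show toPro M (ι x) = 1 ↔ _
    rw [QuotientGroup.mk'_apply, QuotientGroup.eq_one_iff, Subgroup.mem_subgroupOf]
    show emb K (x : GL (Fin 3) K) ∈ scalars (Fin 3) F ↔ _
    constructor
    · intro h y
      obtain ⟨c, hc⟩ := (mem_scalars_iff _).1 h
      refine Subtype.ext (map_subtype_injective K ?_)
      show emb K ((y : GL (Fin 3) K) * x) = emb K ((x : GL (Fin 3) K) * y)
      rw [map_mul, map_mul]
      exact Units.ext (by rw [Units.val_mul, Units.val_mul, hc]; simp)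
    · intro h
      obtain ⟨c, hc⟩ := hP.eq_smul_one_of_comm (A := (emb K x : Matrix (Fin 3) (Fin 3) F)) (by
        rintro _ ⟨y, hy, rfl⟩
        rw [← Units.val_mul, ← Units.val_mul, ← map_mul, ← map_mul]
        exact congrArg (fun z : GL (Fin 3) K => (emb K z : Matrix (Fin 3) (Fin 3) F))
          (congrArg Subtype.val (h ⟨y, hy⟩).symm))
      have hc0 : c ≠ 0 := fun e => by
        have := (Matrix.GeneralLinearGroup.det (emb K (x : GL (Fin 3) K))).ne_zero
        refine this ?_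
        show (emb K x : Matrix (Fin 3) (Fin 3) F).det = 0
        rw [hc, e, zero_smul, Matrix.det_zero]
      exact (mem_scalars_iff _).2 ⟨Units.mk0 c hc0, hc⟩
  obtain ⟨e⟩ : Nonempty (φ.range ≃* S ⧸ Subgroup.center S) :=
    ⟨((QuotientGroup.quotientMulEquivOfEq hker).symm.trans (QuotientGroup.quotientKerEquivRange φ)).symm⟩
  set π := QuotientGroup.mk' (scalars (Fin 3) F)
  have hdec : ∀ m : M, ∃ R ∈ Γ, π (m : GL (Fin 3) F) = π (emb K R) := fun m => by
    obtain ⟨a, ⟨R, hR, rfl⟩, z, hz, e⟩ := Subgroup.mem_sup_of_normal_right.1 (hM m.2)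
    refine ⟨R, hR, ?_⟩
    rw [← e, map_mul, show π z = 1 from (QuotientGroup.eq_one_iff z).2 hz, mul_one]
  have key : ∀ (m : M), ∀ R ∈ Γ, π (m : GL (Fin 3) F) = π (emb K R) →
      (∃ c ∈ D, Matrix.GeneralLinearGroup.det R = c ^ 3) → toPro M m ∈ φ.range := by
    rintro m R hR he ⟨c, hc, hdc⟩
    have hR' : (scalarGL K c)⁻¹ * R ∈ S :=
      ⟨Γ.mul_mem (Γ.inv_mem (hD c hc)) hR, by
        show Matrix.GeneralLinearGroup.det ((scalarGL K c)⁻¹ * R) = 1
        rw [map_mul, map_inv, det_scalarGL, hdc, inv_mul_cancel]⟩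
    refine ⟨⟨_, hR'⟩, QuotientGroup.eq.2 ?_⟩
    rw [Subgroup.mem_subgroupOf, Subgroup.coe_mul, Subgroup.coe_inv, ← QuotientGroup.eq]
    show π (emb K ((scalarGL K c)⁻¹ * R)) = π (m : GL (Fin 3) F)
    rw [map_mul, map_mul, map_inv, map_inv, show π (emb K (scalarGL K c)) = 1 from
      (QuotientGroup.eq_one_iff _).2 (emb_scalarGL c), inv_one, one_mul, he]
  by_cases hall : ∀ m : M, toPro M m ∈ φ.range
  · have htop : φ.range = ⊤ := by
      refine eq_top_iff.2 fun x _ => ?_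
      obtain ⟨m, rfl⟩ := QuotientGroup.mk'_surjective _ x
      exact hall m
    exact Or.inl ⟨(Subgroup.topEquiv.symm.trans (MulEquiv.subgroupCongr htop.symm)).trans e⟩
  push Not at hall
  obtain ⟨m₀, hm₀⟩ := hall
  obtain ⟨R₀, hR₀, he₀⟩ := hdec m₀
  set d := Matrix.GeneralLinearGroup.det R₀
  set a := toPro M m₀
  have hnc : ∀ c ∈ D, c ^ 3 ≠ d := fun c hc h => hm₀ (key m₀ R₀ hR₀ he₀ ⟨c, hc, h.symm⟩)
  have ha3 : a ^ 3 ∈ φ.range := by
    rw [← map_pow]
    refine key (m₀ ^ 3) (R₀ ^ 3) (Γ.pow_mem hR₀ 3) ?_ ⟨d, hdet _ hR₀, map_pow _ _ _⟩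
    rw [SubmonoidClass.coe_pow, map_pow, map_pow, map_pow, he₀]
  refine Or.inr ⟨φ.range, ?_, ⟨e⟩, d, hdet _ hR₀, hnc, ?_⟩
  · rw [Subgroup.index]
    refine (Nat.card_congr (Equiv.ofBijective
      (fun k : Fin 3 => (QuotientGroup.mk (a ^ (k : ℕ)) : Pro M ⧸ φ.range)) ⟨?_, ?_⟩).symm).trans (Nat.card_fin 3)
    · intro k l h
      have h' := QuotientGroup.eq.1 h
      have ha1 : a ^ 1 ∉ φ.range := by rwa [pow_one]
      have ha2 : a ^ 2 ∉ φ.range := fun h2 => ha1 (by
        rw [show a ^ 1 = (a ^ 2)⁻¹ * a ^ 3 by group]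
        exact mul_mem (inv_mem h2) ha3)
      have ha2' : (a ^ 2)⁻¹ ∉ φ.range := fun h2 => ha2 (inv_mem_iff.1 h2)
      have ha1' : (a ^ 1)⁻¹ ∉ φ.range := fun h2 => ha1 (inv_mem_iff.1 h2)
      have e12 : (a ^ 1)⁻¹ * a ^ 2 = a ^ 1 := by group
      have e21 : (a ^ 2)⁻¹ * a ^ 1 = (a ^ 1)⁻¹ := by group
      fin_cases k <;> fin_cases l <;> first
        | rfl
        | (exfalso; simp only [pow_zero, inv_one, one_mul, mul_one, e12, e21] at h'; contradiction)
    · intro x
      obtain ⟨y, rfl⟩ := QuotientGroup.mk_surjective x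
      obtain ⟨m, rfl⟩ := QuotientGroup.mk'_surjective _ y
      obtain ⟨R, hR, he⟩ := hdec m
      obtain ⟨k, ⟨c, hc⟩, hk⟩ := exists_cube_decomp (A := D) (d := ⟨d, hdet _ hR₀⟩)
        (fun c h => hnc c c.2 (congrArg Subtype.val h)) ⟨_, hdet _ hR⟩
      refine ⟨k, QuotientGroup.eq.2 ?_⟩
      rw [← map_pow, ← map_inv, ← map_mul]
      refine key ((m₀ ^ (k : ℕ))⁻¹ * m) ((R₀ ^ (k : ℕ))⁻¹ * R) (Γ.mul_mem (Γ.inv_mem (Γ.pow_mem hR₀ _)) hR) ?_
        ⟨c, hc, ?_⟩
      · rw [Subgroup.coe_mul, Subgroup.coe_inv, SubmonoidClass.coe_pow, map_mul, map_inv, map_pow, he₀, he]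
        simp only [map_mul, map_inv, map_pow]
      · have hk' := congrArg Subtype.val hk
        simp only [Subgroup.coe_mul, SubmonoidClass.coe_pow] at hk'
        rw [map_mul, map_inv, map_pow, hk', ← mul_assoc, inv_mul_cancel, one_mul]
  · obtain ⟨u, hu⟩ := (mem_scalars_iff _).1 (QuotientGroup.eq.1 he₀)
    refine ⟨u, ?_⟩
    have h := congrArg Matrix.det hu
    rw [Units.val_mul, Matrix.det_mul, Matrix.det_smul, Matrix.det_one, mul_one, Fintype.card_fin, det_emb] at h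
    rw [← h]
    have hm := mem_specialLinear.1 (hMle (M.inv_mem m₀.2))
    rw [hm, one_mul]

/-- A cube in an extension of degree prime to three is a cube. -/
lemma exists_cube_of_ext [Finite F] {n : ℕ} (hn : Nat.card F = Nat.card K ^ n) (h3 : ¬ 3 ∣ n) {x : F} (hx : x ∈ K)
    (hx0 : x ≠ 0) {y : F} (hy : y ^ 3 = x) : ∃ z ∈ K, z ^ 3 = x := by
  haveI := Fintype.ofFinite F
  set Q := Nat.card K
  set s := ∑ i ∈ Finset.range n, Q ^ i
  have hQ1 : 1 ≤ Q := Nat.card_pos
  have hy0 : y ≠ 0 := fun e => hx0 (by rw [← hy, e]; simp)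
  have hxs : x ^ s = x ^ n := by
    have hp : ∀ i, x ^ Q ^ i = x := fun i => by
      induction i with
      | zero => simp
      | succ i ih => rw [pow_succ, pow_mul, ih, pow_card_of_mem hx]
    rw [← Finset.prod_pow_eq_pow_sum, Finset.prod_congr rfl fun i _ => hp i, Finset.prod_const, Finset.card_range]
  have hys : y ^ s ∈ K := by
    refine mem_of_pow_card K ?_
    have h1 : s * Q + 1 = s + Q ^ n := by
      have := geom_sum_mul_add (Q - 1) n
      rw [Nat.sub_add_cancel hQ1] at this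
      change s * (Q - 1) + 1 = Q ^ n at this
      have h' : s * Q = s * (Q - 1) + s := by
        conv_lhs => rw [← Nat.sub_add_cancel hQ1]
        ring
      omega
    have h2 : y ^ (Q ^ n) = y := by rw [← hn, Nat.card_eq_fintype_card, FiniteField.pow_card]
    rw [← pow_mul]
    refine mul_right_cancel₀ hy0 ?_
    rw [← pow_succ, h1, pow_add, h2]
  have hcube : x ^ n = (y ^ s) ^ 3 := by rw [← hxs, ← hy, ← pow_mul, ← pow_mul, mul_comm]
  have hn3 : n % 3 = 1 ∨ n % 3 = 2 := by omega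
  rcases hn3 with h | h
  · refine ⟨y ^ s / x ^ (n / 3), K.div_mem hys (pow_mem hx _), ?_⟩
    rw [div_pow, ← hcube, ← pow_mul, div_eq_iff (pow_ne_zero _ hx0), ← pow_succ']
    congr 1
    omega
  · refine ⟨x ^ (n / 3 + 1) / y ^ s, K.div_mem (pow_mem hx _) hys, ?_⟩
    rw [div_pow, ← hcube, ← pow_mul, div_eq_iff (pow_ne_zero _ hx0), ← pow_succ']
    congr 1
    omega

/-- Conjugate groups agree modulo scalars. -/
lemma pro_conj (M : Subgroup (GL (Fin 3) F)) (g : GL (Fin 3) F) :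
    Nonempty (Pro M ≃* Pro (M.map (MulAut.conj g).toMonoidHom)) := by
  set f : GL (Fin 3) F →* GL (Fin 3) F := (MulAut.conj g).toMonoidHom
  refine ⟨QuotientGroup.congr _ _ (Subgroup.equivMapOfInjective M f (MulAut.conj g).injective) ?_⟩
  have hN : ∀ x, f x ∈ scalars (Fin 3) F ↔ x ∈ scalars (Fin 3) F := fun x => by
    refine ⟨fun h => ?_, fun h => scalars_normal.conj_mem _ h g⟩
    have h' := scalars_normal.conj_mem _ h g⁻¹
    simpa [f, mul_assoc] using h'
  ext x
  constructor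
  · rintro ⟨y, hy, rfl⟩
    exact (hN y).2 hy
  · intro hx
    obtain ⟨y, rfl⟩ := (Subgroup.equivMapOfInjective M f (MulAut.conj g).injective).surjective x
    exact ⟨y, (hN y).1 hx, rfl⟩

/-- The special linear group as matrices in the general linear group. -/
lemma sl_equiv (K : Subfield F) : Nonempty (Matrix.SpecialLinearGroup (Fin 3) K ≃*
    ↥((⊤ : Subgroup (GL (Fin 3) K)) ⊓ specialLinear (Fin 3) K)) := by
  refine ⟨MulEquiv.ofBijective (Matrix.SpecialLinearGroup.toGL.codRestrict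
    ((⊤ : Subgroup (GL (Fin 3) K)) ⊓ specialLinear (Fin 3) K) fun g => ⟨trivial, Units.ext g.2⟩)
    ⟨fun a b h => Matrix.SpecialLinearGroup.toGL_injective (congrArg Subtype.val h), fun y => ?_⟩⟩
  exact ⟨⟨(y : GL (Fin 3) K), mem_specialLinear.1 y.2.2⟩, Subtype.ext (Units.ext rfl)⟩

/-- The special unitary group as matrices in the general linear group. -/
lemma su_equiv (K : Subfield F) (q : ℕ) :
    Nonempty (Cfsg.SU 3 K q ≃* ↥(Cfsg.GU 3 K q ⊓ specialLinear (Fin 3) K)) := by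
  refine ⟨MulEquiv.ofBijective ((Matrix.SpecialLinearGroup.toGL.comp (Cfsg.SU 3 K q).subtype).codRestrict
    (Cfsg.GU 3 K q ⊓ specialLinear (Fin 3) K) fun g => ⟨g.2, Units.ext g.1.2⟩)
    ⟨fun a b h => Subtype.ext (Matrix.SpecialLinearGroup.toGL_injective (congrArg Subtype.val h)), fun y => ?_⟩⟩
  exact ⟨⟨⟨(y : GL (Fin 3) K), mem_specialLinear.1 y.2.2⟩, y.2.1⟩, Subtype.ext (Units.ext rfl)⟩

section unitary

variable [Finite F] {q : ℕ}

/-- Whatever normalises the special unitary group over a subfield is a scalar times a unitary matrix. -/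
theorem mem_gu_of_normalizes (hK : Nat.card K = q ^ 2) (hP : Hyp (suOver K q)) {m : GL (Fin 3) F}
    (hn : ∀ x ∈ suOver K q, m * x * m⁻¹ ∈ suOver K q) : m ∈ (Cfsg.GU 3 K q).map (emb K) ⊔ scalars (Fin 3) F := by
  have hr := mem_ratScalar_of_normalizes hP (Subgroup.map_le_range _ _) hn
  obtain ⟨r, ⟨R, rfl⟩, z, hz, rfl⟩ := Subgroup.mem_sup_of_normal_right.1 hr
  refine Subgroup.mul_mem _ ?_ (Subgroup.mem_sup_right hz)
  set σ := UTv.frobEquiv hK
  have hconj : ∀ x ∈ UTv.suGL 3 K q, R * x * R⁻¹ ∈ UTv.suGL 3 K q := fun x hx => by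
    obtain ⟨y, hy, e⟩ := hn _ ⟨x, hx, rfl⟩
    obtain ⟨c, hc⟩ := (mem_scalars_iff z).1 hz
    have hcom : z * emb K x * z⁻¹ = emb K x := by
      rw [mul_inv_eq_iff_eq_mul]
      exact Units.ext (by rw [Units.val_mul, Units.val_mul, hc]; simp)
    rw [_root_.mul_inv_rev, show emb K R * z * emb K x * (z⁻¹ * (emb K R)⁻¹) =
      emb K R * (z * emb K x * z⁻¹) * (emb K R)⁻¹ by group, hcom, ← map_mul, ← map_inv, ← map_mul] at e
    rwa [← map_subtype_injective K e]
  set H := SU3.gram hK (R : Matrix (Fin 3) (Fin 3) K)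
  have hfix : ∀ x ∈ UTv.suGL 3 K q, H * (x : Matrix (Fin 3) (Fin 3) K).map σ = (x : Matrix (Fin 3) (Fin 3) K).map σ * H := by
    intro x hx
    have h1 : SU3.gram hK ((R : Matrix (Fin 3) (Fin 3) K) * (x : Matrix (Fin 3) (Fin 3) K)) = H := by
      rw [← Units.val_mul, show R * x = R * x * R⁻¹ * R by group, Units.val_mul, SU3.gram_mul_left hK (hconj x hx).1]
    rw [SU3.gram_mul] at h1
    have h2 : ((x : Matrix (Fin 3) (Fin 3) K))ᵀ * (x : Matrix (Fin 3) (Fin 3) K).map σ = 1 := (SU3.mem_GU_gram hK).1 hx.1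
    have h3 := mul_eq_one_comm.1 h2
    calc H * (x : Matrix (Fin 3) (Fin 3) K).map σ
        = (x : Matrix (Fin 3) (Fin 3) K).map σ * ((x : Matrix (Fin 3) (Fin 3) K))ᵀ * H * (x : Matrix (Fin 3) (Fin 3) K).map σ := by
          rw [h3, one_mul]
      _ = (x : Matrix (Fin 3) (Fin 3) K).map σ * H := by rw [mul_assoc, mul_assoc]; congr 1; rwa [← mul_assoc]
  have hσσ : ∀ a : K, σ (σ a) = a := (UTv.isUnitaryForm hK (n := 3)).involutive
  have hA : ∀ g ∈ suOver K q, (H.map σ).map K.subtype * (g : Matrix (Fin 3) (Fin 3) F) =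
      (g : Matrix (Fin 3) (Fin 3) F) * (H.map σ).map K.subtype := by
    rintro _ ⟨x, hx, rfl⟩
    have h := congrArg (fun A : Matrix (Fin 3) (Fin 3) K => (A.map σ).map K.subtype) (hfix x hx)
    simp only [Matrix.map_mul] at h
    rwa [show ((x : Matrix (Fin 3) (Fin 3) K).map σ).map σ = (x : Matrix (Fin 3) (Fin 3) K) by
      ext i j; simp [hσσ]] at h
  obtain ⟨c, hc⟩ := hP.eq_smul_one_of_comm hA
  set c' : K := H 0 0
  have hH : H = c' • 1 := by
    refine Matrix.ext fun i j => ?_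
    have h := congrFun (congrFun hc i) j
    have h00 := congrFun (congrFun hc 0) 0
    simp only [Matrix.map_apply, Matrix.smul_apply, Matrix.one_apply_eq, smul_eq_mul, mul_one] at h00
    rcases eq_or_ne i j with rfl | hij
    · simp only [Matrix.map_apply, Matrix.smul_apply, Matrix.one_apply_eq, smul_eq_mul, mul_one] at h ⊢
      exact σ.injective (Subtype.ext (h.trans h00.symm))
    · simp only [Matrix.map_apply, Matrix.smul_apply, Matrix.one_apply_ne hij, smul_eq_mul, mul_zero] at h ⊢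
      exact σ.injective ((Subtype.ext h).trans (map_zero σ).symm)
  have hfixc : σ c' = c' := SU3.gram_apply_swap hK _ 0 0
  have hc0 : c' ≠ 0 := fun e => by
    have hd := congrArg Matrix.det hH
    rw [e, zero_smul, Matrix.det_zero, SU3.det_gram] at hd
    have hR := (Matrix.GeneralLinearGroup.det R).ne_zero
    exact (mul_ne_zero hR ((map_ne_zero σ).2 hR)) hd
  obtain ⟨a, ha⟩ := CfsgLib.Forms.finite_norm_surjective (CfsgLib.Forms.frobQ_ne_id hK)
    (UTv.isUnitaryForm hK (n := 3)).involutive c' hfixc hc0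
  have ha0 : a ≠ 0 := fun e => hc0 (by rw [← ha, e, zero_mul])
  have hU : (scalarGL K (Units.mk0 a ha0))⁻¹ * R ∈ Cfsg.GU 3 K q := by
    rw [SU3.mem_GU_gram hK, ← map_inv, Units.val_mul]
    show SU3.gram hK (Matrix.scalar (Fin 3) ((Units.mk0 a ha0)⁻¹ : Kˣ).val * _) = 1
    rw [Matrix.scalar_apply, ← Matrix.smul_one_eq_diagonal, smul_mul_assoc, one_mul, SU3.gram_smul,
      show SU3.gram hK (R : Matrix (Fin 3) (Fin 3) K) = c' • 1 from hH, smul_smul, Units.val_inv_eq_inv_val,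
      Units.val_mk0, ← ha, map_inv₀, show CfsgLib.Forms.frobQ hK a = σ a from rfl]
    have hσa : σ a ≠ 0 := (map_ne_zero σ).2 ha0
    rw [show a⁻¹ * (σ a)⁻¹ * (a * σ a) = 1 by field_simp, one_smul]
  rw [show emb K R = emb K (scalarGL K (Units.mk0 a ha0)) * emb K ((scalarGL K (Units.mk0 a ha0))⁻¹ * R) by
    rw [← map_mul, mul_inv_cancel_left]]
  exact Subgroup.mul_mem _ (Subgroup.mem_sup_right (emb_scalarGL _)) (Subgroup.mem_sup_left ⟨_, hU, rfl⟩)

lemma det_norm_one (hK : Nat.card K = q ^ 2) {x : GL (Fin 3) K} (hx : x ∈ Cfsg.GU 3 K q) :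
    Matrix.GeneralLinearGroup.det x ^ (q + 1) = 1 := by
  have h := congrArg Matrix.det ((SU3.mem_GU_gram hK).1 hx)
  rw [SU3.det_gram, Matrix.det_one, UTv.frobEquiv_apply, ← pow_succ'] at h
  exact Units.ext (by rw [Units.val_pow_eq_pow_val]; exact h)

lemma scalar_mem_gu (hK : Nat.card K = q ^ 2) {c : Kˣ} (hc : c ^ (q + 1) = 1) : scalarGL K c ∈ Cfsg.GU 3 K q := by
  rw [SU3.mem_GU_gram hK]
  show SU3.gram hK (Matrix.scalar (Fin 3) (c : K)) = 1
  rw [Matrix.scalar_apply, ← Matrix.smul_one_eq_diagonal, SU3.gram_smul, SU3.gram_one, UTv.frobEquiv_apply,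
    ← pow_succ', ← Units.val_pow_eq_pow_val, hc, Units.val_one, one_smul]

end unitary

end CfsgLib.Geo.D3
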