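/-
The shapes of almost simple groups in dimension three whose core is linear or unitary.
-/
import Cfsg.Agent.Geo.DimThree.TvShapes
import Cfsg.Agent.Geo.DimThree.Shapes

set_option autoImplicit false

namespace CfsgLib.Geo.D3

open Matrix Cfsg Cfsg.Geo CfsgLib.Geo CfsgLib.Geo.SL3

universe u

variable {F : Type u} [Field F] {Ht P : Subgroup (GL (Fin 3) F)}

lemma exists_exponents [Fintype F] (p α : ℕ) [Fact p.Prime] (hF : Fintype.card F = p ^ α) (K : Subfield F) :
    ∃ β n, 0 < β ∧ Nat.card K = p ^ β ∧ Nat.card F = Nat.card K ^ n ∧ α = β * n := by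
  have hpp : p.Prime := Fact.out
  rw [← Nat.card_eq_fintype_card] at hF
  have hn' := Module.natCard_eq_pow_finrank (K := K) (V := F)
  set n := Module.finrank K F
  have hn0 : n ≠ 0 := Module.finrank_pos.ne'
  obtain ⟨β, -, hβ⟩ := (Nat.dvd_prime_pow hpp).1 (hF ▸ hn' ▸ dvd_pow_self _ hn0 : Nat.card K ∣ p ^ α)
  refine ⟨β, n, Nat.pos_of_ne_zero fun e => ?_, hβ, hn', ?_⟩
  · rw [e, pow_zero] at hβ
    exact (Finite.one_lt_card (α := K)).ne' hβ
  · rw [hF, hβ, ← pow_mul] at hn'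
    exact Nat.pow_right_injective hpp.two_le hn'

/-- The special unitary group over a subfield contains a transvection. -/
lemma exists_tv_su [Finite F] {K : Subfield F} {q : ℕ} (hK : Nat.card K = q ^ 2) :
    ∃ v φ : Fin 3 → F, v ≠ 0 ∧ φ ≠ 0 ∧ HasTv (suOver K q) v φ := by
  have hf := UTv.isUnitaryForm hK (n := 3)
  obtain ⟨a, ha⟩ := CfsgLib.Forms.finite_norm_surjective (CfsgLib.Forms.frobQ_ne_id hK)
    hf.involutive (-1 : K) (by rw [map_neg, map_one]) (neg_ne_zero.2 one_ne_zero)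
  rw [CfsgLib.Forms.frobQ_apply] at ha
  obtain ⟨b, hb⟩ : ∃ b, UTv.frobEquiv hK b ≠ b := by
    by_contra h
    push Not at h
    exact hf.ne_refl (RingEquiv.ext h)
  set c := b - UTv.frobEquiv hK b
  have hc0 : c ≠ 0 := sub_ne_zero.2 hb.symm
  have hc : c + c ^ q = 0 := by
    rw [← UTv.frobEquiv_apply hK c, map_sub, hf.involutive]
    ring
  set v : Fin 3 → K := ![a, 1, 0]
  have hq0 : q ≠ 0 := fun e => by
    rw [e, zero_pow two_ne_zero] at hK
    exact (Nat.card_pos (α := K)).ne' hK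
  have hv : Cfsg.hermForm 3 K q v v = 0 := by
    simp only [Cfsg.hermForm, Fin.sum_univ_three, v, Matrix.cons_val_zero, Matrix.cons_val_one,
      Matrix.cons_val_two, Matrix.head_cons, Matrix.tail_cons]
    rw [ha, one_pow, mul_one, zero_pow hq0, mul_zero, add_zero, neg_add_cancel]
  have hd := UTv.uax_dot_self hv c
  have hd' : lift K (UTv.uax q v c) ⬝ᵥ lift K v = 0 := by rw [lift_dot, hd, Subfield.coe_zero]
  refine ⟨lift K v, lift K (UTv.uax q v c), fun e => ?_, fun e => ?_, hd', ?_⟩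
  · have := congrFun e 1
    simp [lift, v] at this
  · refine hc0 ?_
    have h1 : UTv.uax q v c ⬝ᵥ Pi.single 1 1 = c * Cfsg.hermForm 3 K q (Pi.single 1 1) v := by
      rw [smul_dotProduct, UTv.axisOf_dot, smul_eq_mul]
    have h2 : Cfsg.hermForm 3 K q (Pi.single 1 1) v = 1 := by
      simp [Cfsg.hermForm, Fin.sum_univ_three, v]
    rw [h2, mul_one, dotProduct_single, mul_one] at h1
    rw [← h1]
    exact Subtype.ext (congrFun e 1)
  · refine ⟨tvec v (UTv.uax q v c) hd, UTv.utv_mem hK hv hc, Units.ext ?_⟩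
    ext i j
    simp [tvec_val, Matrix.vecMulVec_apply, Matrix.one_apply, lift]
    split_ifs <;> simp <;> ring

lemma map_hyp [Finite F] (hC : Core Ht P) (g : GL (Fin 3) F)
    (ht : ∃ v φ : Fin 3 → F, v ≠ 0 ∧ φ ≠ 0 ∧ HasTv (P.map (MulAut.conj g).toMonoidHom) v φ) :
    Hyp (P.map (MulAut.conj g).toMonoidHom) := by
  have e : P.map (MulAut.conj g).toMonoidHom = D3.inBasis P g⁻¹ := by rw [D3.inBasis, inv_inv]
  rw [e] at ht ⊢
  obtain ⟨v, φ, hv, hφ, h⟩ := ht
  exact (hC.hyp_of_hasTv (IsT.of_inBasis ⟨hv, hφ, h⟩).v_ne (IsT.of_inBasis ⟨hv, hφ, h⟩).φ_ne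
    (IsT.of_inBasis ⟨hv, hφ, h⟩).mem).inBasis _

/-- The shapes over a linear core. -/
theorem shape_linear [Fintype F] (p α : ℕ) [Fact p.Prime] [CharP F p] (hF : Fintype.card F = p ^ α) (hC : Core Ht P)
    (hSL : Ht ≤ specialLinear (Fin 3) F) (h : IsLinearType P) : ShapeL p α (Pro Ht) ∨ ShapeLThree p α (Pro Ht) := by
  classical
  obtain ⟨K, g, hg⟩ := h
  set f : GL (Fin 3) F →* GL (Fin 3) F := (MulAut.conj g).toMonoidHom
  obtain ⟨e0⟩ := pro_conj Ht g
  have hM' : Ht.map f ≤ specialLinear (Fin 3) F := by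
    rw [← specialLinear_map_conj g]; exact Subgroup.map_mono hSL
  have hPM' : P.map f ≤ Ht.map f := Subgroup.map_mono hC.le
  have hn' : ∀ m ∈ Ht.map f, ∀ x ∈ P.map f, m * x * m⁻¹ ∈ P.map f := by
    rintro _ ⟨m, hm, rfl⟩ _ ⟨x, hx, rfl⟩
    exact ⟨m * x * m⁻¹, hC.normal m hm x hx, by rw [map_mul, map_mul, map_inv]⟩
  obtain ⟨β, n, hβ0, hβ, hKn, hα⟩ := exists_exponents p α hF K
  rw [show P.map f = _ from hg] at hPM' hn'
  have hP' : Hyp (slOver K) := by
    have := map_hyp hC g ?_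
    · rwa [hg] at this
    rw [hg]
    refine ⟨Pi.single 0 1, Pi.single 1 1, by simp, by simp, by simp, ?_⟩
    refine ⟨tvec (Pi.single 0 (1 : K)) (Pi.single 1 1) (by simp), tvec_mem_specialLinear _ _ _, Units.ext ?_⟩
    ext i j
    simp [tvec_val, Matrix.vecMulVec_apply, Matrix.one_apply, Pi.single_apply]
    split_ifs <;> simp
  have hle : Ht.map f ≤ (⊤ : Subgroup (GL (Fin 3) K)).map (emb K) ⊔ scalars (Fin 3) F := fun m hm => by
    have h := mem_ratScalar_of_normalizes hP' (Subgroup.map_le_range _ _) (hn' m hm)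
    rwa [ratScalar, MonoidHom.range_eq_map] at h
  have hS : (slOver K : Subgroup (GL (Fin 3) F)) =
      ((⊤ : Subgroup (GL (Fin 3) K)) ⊓ specialLinear (Fin 3) K).map (emb K) := by rw [top_inf_eq]; rfl
  rw [hS] at hP' hPM'
  haveI : Small.{0} K := inferInstance
  haveI := Fintype.ofFinite (Shrink.{0} K)
  let eK : Shrink.{0} K ≃+* K := (equivShrink.{0} K).symm.ringEquiv
  have hcK : Fintype.card (Shrink.{0} K) = p ^ β := by
    rw [← Nat.card_eq_fintype_card, Nat.card_congr eK.toEquiv, hβ]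
  obtain ⟨eS⟩ := sl_equiv K
  obtain ⟨e3⟩ := sl_congr eK
  obtain ⟨e1⟩ := centerQuot (e3.trans eS)
  rcases shape_core ⊤ ⊤ (fun _ _ => trivial) (fun _ _ => trivial) hM' hle hPM' hP' with
    ⟨⟨e2⟩⟩ | ⟨L, hL, ⟨e2⟩, d, -, hd, y, hy⟩
  · exact Or.inl ⟨Shrink.{0} K, inferInstance, inferInstance, β, hcK, ⟨n, hα⟩, ⟨(e0.trans e2).trans e1.symm⟩⟩
  · refine Or.inr (⟨Shrink.{0} K, inferInstance, inferInstance, β, hcK, ?_, ?_,
      L.comap e0.toMonoidHom, ?_, ⟨(e0.subgroupMap _).trans (MulEquiv.subgroupCongr ?_) |>.trans (e2.trans e1.symm)⟩⟩)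
    · by_contra h3
      have hco : Nat.Coprime (Nat.card Kˣ) 3 := by
        haveI := Fintype.ofFinite K
        rw [Nat.card_eq_fintype_card, Fintype.card_units, ← Nat.card_eq_fintype_card, hβ, Nat.coprime_comm]
        exact (Nat.prime_three.coprime_iff_not_dvd).2 h3
      exact hd ((powCoprime hco).symm d) trivial ((powCoprime hco).apply_symm_apply d)
    · have h3n : 3 ∣ n := by_contra fun h => by
        obtain ⟨z, hz, hzd⟩ := exists_cube_of_ext hKn h (d : K).2 (by simp) hy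
        have hz0 : (⟨z, hz⟩ : K) ≠ 0 := fun e => by
          have : z = 0 := congrArg Subtype.val e
          rw [this, zero_pow three_ne_zero] at hzd
          exact d.ne_zero (Subtype.ext hzd.symm)
        exact hd (Units.mk0 ⟨z, hz⟩ hz0) trivial (Units.ext (Subtype.ext hzd))
      rw [hα, mul_comm β n]; exact mul_dvd_mul_right h3n β
    · rw [Subgroup.index_comap_of_surjective _ e0.surjective, hL]
    · exact Subgroup.map_comap_eq_self_of_surjective (f := e0.toMonoidHom) e0.surjective L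

/-- The shapes over a unitary core. -/
theorem shape_unitary [Fintype F] (p α : ℕ) [Fact p.Prime] [CharP F p] (hF : Fintype.card F = p ^ α) (hC : Core Ht P)
    (hSL : Ht ≤ specialLinear (Fin 3) F) (h : IsUnitaryType P) : ShapeU p α (Pro Ht) ∨ ShapeUThree p α (Pro Ht) := by
  classical
  have hpp : p.Prime := Fact.out
  obtain ⟨K, q, g, hc, hq, hg⟩ := h
  set f : GL (Fin 3) F →* GL (Fin 3) F := (MulAut.conj g).toMonoidHom
  obtain ⟨e0⟩ := pro_conj Ht g
  have hM' : Ht.map f ≤ specialLinear (Fin 3) F := by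
    rw [← specialLinear_map_conj g]; exact Subgroup.map_mono hSL
  have hPM' : P.map f ≤ Ht.map f := Subgroup.map_mono hC.le
  have hn' : ∀ m ∈ Ht.map f, ∀ x ∈ P.map f, m * x * m⁻¹ ∈ P.map f := by
    rintro _ ⟨m, hm, rfl⟩ _ ⟨x, hx, rfl⟩
    exact ⟨m * x * m⁻¹, hC.normal m hm x hx, by rw [map_mul, map_mul, map_inv]⟩
  obtain ⟨β, n, hβ0, hβ, hKn, hα⟩ := exists_exponents p α hF K
  rw [show P.map f = _ from hg] at hPM' hn'
  have hP' : Hyp (suOver K q) := by
    have := map_hyp hC g (hg.symm ▸ exists_tv_su hc)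
    rwa [hg] at this
  have hqp : q ∣ p ^ β := by rw [← hβ, hc]; exact dvd_pow_self q two_ne_zero
  obtain ⟨γ, -, rfl⟩ := (Nat.dvd_prime_pow hpp).1 hqp
  have hβγ : β = 2 * γ := Nat.pow_right_injective hpp.two_le (by
    show p ^ β = p ^ (2 * γ)
    rw [← hβ, hc, ← pow_mul, mul_comm])
  have hle : Ht.map f ≤ (Cfsg.GU 3 K (p ^ γ)).map (emb K) ⊔ scalars (Fin 3) F :=
    fun m hm => mem_gu_of_normalizes hc hP' (hn' m hm)
  haveI := Fintype.ofFinite (Shrink.{0} K)
  let eK : Shrink.{0} K ≃+* K := (equivShrink.{0} K).symm.ringEquiv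
  have hcK : Fintype.card (Shrink.{0} K) = p ^ (2 * γ) := by
    rw [← Nat.card_eq_fintype_card, Nat.card_congr eK.toEquiv, hβ, hβγ]
  obtain ⟨eS⟩ := su_equiv K (p ^ γ)
  obtain ⟨e3⟩ := su_congr eK (p ^ γ)
  obtain ⟨e1⟩ := centerQuot (e3.trans eS)
  let D : Subgroup Kˣ := (powMonoidHom (p ^ γ + 1) : Kˣ →* Kˣ).ker
  rcases shape_core (Cfsg.GU 3 K (p ^ γ)) D (fun x hx => det_norm_one hc hx) (fun c hc' => scalar_mem_gu hc hc')
    hM' hle hPM' hP' with ⟨⟨e2⟩⟩ | ⟨L, hL, ⟨e2⟩, d, hdD, hd, y, hy⟩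
  · exact Or.inl (⟨Shrink.{0} K, inferInstance, inferInstance, γ, hcK, ⟨n, by rw [hα, hβγ]⟩,
      ⟨(e0.trans e2).trans e1.symm⟩⟩)
  · have h3q : 3 ∣ p ^ γ + 1 := by
      by_contra h3
      have hco : Nat.Coprime (Nat.card D) 3 := by
        refine Nat.Coprime.coprime_dvd_left ?_ (Nat.coprime_comm.1 ((Nat.prime_three.coprime_iff_not_dvd).2 h3))
        rw [← IsCyclic.exponent_eq_card]
        exact Monoid.exponent_dvd_of_forall_pow_eq_one fun x => Subtype.ext x.2
      exact hd ((powCoprime hco).symm ⟨d, hdD⟩).1 ((powCoprime hco).symm ⟨d, hdD⟩).2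
        (congrArg Subtype.val ((powCoprime hco).apply_symm_apply ⟨d, hdD⟩))
    refine Or.inr (⟨Shrink.{0} K, inferInstance, inferInstance, γ, hcK, h3q, ?_,
      L.comap e0.toMonoidHom, ?_, ⟨(e0.subgroupMap _).trans (MulEquiv.subgroupCongr ?_) |>.trans (e2.trans e1.symm)⟩⟩)
    · have h3n : 3 ∣ n := by_contra fun h => by
        obtain ⟨z, hz, hzd⟩ := exists_cube_of_ext hKn h (d : K).2 (by simp) hy
        have hz0 : (⟨z, hz⟩ : K) ≠ 0 := fun e => by
          have : z = 0 := congrArg Subtype.val e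
          rw [this, zero_pow three_ne_zero] at hzd
          exact d.ne_zero (Subtype.ext hzd.symm)
        set c := Units.mk0 (⟨z, hz⟩ : K) hz0
        have hcd : c ^ 3 = d := Units.ext (Subtype.ext hzd)
        refine hd c ?_ hcd
        show c ^ (p ^ γ + 1) = 1
        have hN3 : (c ^ (p ^ γ + 1)) ^ 3 = 1 := by rw [← pow_mul, mul_comm, pow_mul, hcd]; exact hdD
        have hNq : (c ^ (p ^ γ + 1)) ^ (p ^ γ - 1) = 1 := by
          have hcard : Nat.card Kˣ = (p ^ γ + 1) * (p ^ γ - 1) := by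
            haveI := Fintype.ofFinite K
            rw [Nat.card_eq_fintype_card, Fintype.card_units, ← Nat.card_eq_fintype_card, hc, ← Nat.sq_sub_sq,
              one_pow]
          rw [← pow_mul, ← hcard, pow_card_eq_one']
        have hg1 : Nat.Coprime 3 (p ^ γ - 1) := (Nat.prime_three.coprime_iff_not_dvd).2 fun h1 => by
          omega
        rw [← orderOf_eq_one_iff]
        refine Nat.dvd_one.1 ?_
        have hg := Nat.dvd_gcd (orderOf_dvd_of_pow_eq_one hN3) (orderOf_dvd_of_pow_eq_one hNq)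
        rwa [hg1.gcd_eq_one] at hg
      obtain ⟨r, rfl⟩ := h3n
      exact ⟨r, by rw [hα, hβγ]; ring⟩
    · rw [Subgroup.index_comap_of_surjective _ e0.surjective, hL]
    · exact Subgroup.map_comap_eq_self_of_surjective (f := e0.toMonoidHom) e0.surjective L

end CfsgLib.Geo.D3
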