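/-
The shape of an almost simple group whose core fixes a conic: the field of the conic is bounded by the
ground field.
-/
import Cfsg.Agent.Geo.DimThree.NoTv.Conic
import Cfsg.Agent.Geo.DimThree.ShapeTv
import Cfsg.Agent.InvChar.OneSixtyEight

set_option autoImplicit false
set_option linter.style.haveILetI false

namespace CfsgLib.Geo.D3

open Matrix Cfsg Cfsg.Geo CfsgLib.Geo

universe u

/-- An extension of the field does not change a group modulo scalars. -/
lemma pro_map_fieldHom {F L : Type*} [Field F] [Field L] (ι : F →+* L) (M : Subgroup (GL (Fin 3) F)) :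
    Nonempty (Pro M ≃* Pro (M.map (Matrix.GeneralLinearGroup.map (n := Fin 3) ι))) := by
  set f : GL (Fin 3) F →* GL (Fin 3) L := Matrix.GeneralLinearGroup.map (n := Fin 3) ι with hf
  have hinj : Function.Injective f := fun a b h => Units.ext (Matrix.ext fun i j =>
    ι.injective (congrFun (congrFun (congrArg (fun g : GL (Fin 3) L => (g : Matrix (Fin 3) (Fin 3) L)) h) i) j))
  have hsc : ∀ g : GL (Fin 3) F, f g ∈ scalars (Fin 3) L ↔ g ∈ scalars (Fin 3) F := by
    intro g
    rw [mem_scalars_iff, mem_scalars_iff]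
    constructor
    · rintro ⟨c, hc⟩
      have he : ∀ i j, ι ((g : Matrix (Fin 3) (Fin 3) F) i j) = if i = j then (c : L) else 0 := fun i j => by
        have := congrFun (congrFun hc i) j
        simpa [hf, Matrix.one_apply] using this
      have h0 : ι ((g : Matrix (Fin 3) (Fin 3) F) 0 0) = c := by simpa using he 0 0
      refine ⟨Units.mk0 ((g : Matrix (Fin 3) (Fin 3) F) 0 0) (fun e => c.ne_zero (by rw [← h0, e, map_zero])), ?_⟩
      ext i j
      refine ι.injective ?_
      rw [he i j]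
      by_cases h : i = j <;> simp [h, h0]
    · rintro ⟨c, hc⟩
      refine ⟨Units.map ι.toMonoidHom c, ?_⟩
      ext i j
      simp [hf, hc, Matrix.one_apply, apply_ite ι]
  let e : M ≃* M.map f := M.equivMapOfInjective f hinj
  refine ⟨QuotientGroup.congr _ _ e ?_⟩
  ext x
  obtain ⟨y, rfl⟩ := e.surjective x
  refine Subgroup.mem_map_equiv.trans ?_
  rw [e.symm_apply_apply, Subgroup.mem_subgroupOf, Subgroup.mem_subgroupOf]
  exact (hsc _).symm

/-- The field of the conic has degree dividing that of any field over which the group is written. -/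
lemma dvd_of_conic {L : Type*} [Field L] [Finite L] {p α : ℕ} [hp : Fact p.Prime] [CharP L p] (hα : 1 ≤ α)
    (F₀ : Subfield L) (hF₀ : Nat.card F₀ = p ^ α) {G : Subgroup (GL (Fin 3) L)} (hG : NoTv G)
    (hrat : ∀ g ∈ G, ∀ i j, (g : Matrix (Fin 3) (Fin 3) L) i j ∈ F₀) {q : ℕ} {u : G}
    (hu : IsUni (u : GL (Fin 3) L)) (h5 : 5 ≤ q) (hU : Nat.card ↥(cen (toPro G u)) = q)
    (hN : 2 * (cen (toPro G u)).relIndex (Subgroup.normalizer ((cen (toPro G u)) : Set (Pro G))) = q - 1) :
    ∃ β, q = p ^ β ∧ β ∣ α := by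
  classical
  obtain ⟨hcomm, hpG, hexp, -⟩ := uni_block hG (p := p) hu
  obtain ⟨β, hβ⟩ := IsPGroup.iff_card.1 hpG
  rw [hU] at hβ
  refine ⟨β, hβ, ?_⟩
  obtain ⟨e, κ, -, -, -, hrel, -, hord, -, hκ, -⟩ := uni_normalizer hG hu
  rw [hrel] at hN
  obtain ⟨N, K, ξ, h3, h2, hKq, hξK, hξ1, hκN, hE, hE'⟩ :=
    exists_exp hG hu hcomm hpG hexp h5 hU hκ hord hN
  have h2L : (2 : L) ≠ 0 := hG.two_ne
  set kk : Matrix (Fin 3) (Fin 3) L := ((κ : GL (Fin 3) L) : Matrix (Fin 3) (Fin 3) L) with hkk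
  -- the nilpotent is rational
  let M₀ : Subring (Matrix (Fin 3) (Fin 3) L) := (F₀.toSubring).matrix
  have hmem : ∀ X : Matrix (Fin 3) (Fin 3) L, (∀ i j, X i j ∈ F₀) → X ∈ M₀ := fun X h i j => h i j
  obtain ⟨g, -, hgE, -⟩ := hE 1 K.one_mem
  have hNrat : ∀ i j, N i j ∈ F₀ := by
    set M : Matrix (Fin 3) (Fin 3) L := ((g : GL (Fin 3) L) : Matrix (Fin 3) (Fin 3) L) - 1 with hM
    have hMr : M ∈ M₀ := sub_mem (hmem _ (hrat _ g.2)) (one_mem _)
    have hMN : M = N + ((1 : L) / 2) • (N * N) := by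
      rw [hM, hgE]
      simp only [expN, poly2]
      module
    have hMM : M * M = N * N := by
      rw [hMN]
      simp only [add_mul, mul_add, smul_mul_assoc, mul_smul_comm, h3, show N * (N * N) = 0 by rw [← mul_assoc, h3],
        show N * N * (N * N) = 0 by rw [← mul_assoc, h3, zero_mul], smul_zero, add_zero]
    intro i j
    have hNe : N i j = M i j - (1 / 2) * (M * M) i j := by
      rw [hMM, hMN, Matrix.add_apply, Matrix.smul_apply, smul_eq_mul]
      ring
    rw [hNe]
    exact sub_mem (hMr i j) (mul_mem (F₀.div_mem F₀.one_mem (ofNat_mem F₀ 2)) (mul_mem hMr hMr i j))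
  -- the multiplier is rational
  have hNκ : ∃ i j, (N * kk) i j ≠ 0 := by
    by_contra hcon
    push Not at hcon
    have h0 : N * kk = 0 := by ext i j; exact hcon i j
    refine h2 ?_
    have : N = 0 := by
      have h := congrArg (fun X => X * (((κ : GL (Fin 3) L)⁻¹ : GL (Fin 3) L) : Matrix (Fin 3) (Fin 3) L)) h0
      simpa [hkk, mul_assoc] using h
    rw [this, zero_mul]
  obtain ⟨i₀, j₀, hne⟩ := hNκ
  have hξF : ξ ∈ F₀ := by
    have hk : kk ∈ M₀ := hmem _ (hrat _ κ.2)
    have h := congrFun (congrFun hκN i₀) j₀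
    rw [Matrix.smul_apply, smul_eq_mul] at h
    have : ξ = (kk * N) i₀ j₀ / (N * kk) i₀ j₀ := by rw [h]; field_simp
    rw [this]
    exact F₀.div_mem (mul_mem hk (hmem _ hNrat) i₀ j₀) (mul_mem (hmem _ hNrat) hk i₀ j₀)
  have hξ0 : ξ ≠ 0 := by
    intro e
    rw [e, zero_smul] at hκN
    refine h2 ?_
    have : N = 0 := by
      have h := congrArg (fun X => (((κ : GL (Fin 3) L)⁻¹ : GL (Fin 3) L) : Matrix (Fin 3) (Fin 3) L) * X) hκN
      simpa [hkk, ← mul_assoc] using h
    rw [this, zero_mul]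
  -- its order is at least that of the normalising element
  have hdvd : ∀ j, ξ ^ j = 1 → e ∣ j := by
    intro j hj
    have hcj : ∀ j : ℕ, kk ^ j * N = ξ ^ j • (N * kk ^ j) := by
      intro j
      induction j with
      | zero => simp
      | succ j ih =>
        rw [pow_succ', mul_assoc, ih, mul_smul_comm, ← mul_assoc, hκN, smul_mul_assoc, smul_smul, mul_assoc]
        rw [pow_succ]
    have hcN : Commute (kk ^ j) N := by
      have := hcj j
      rwa [hj, one_smul] at this
    obtain ⟨v, hvu, hvp⟩ := hG.exists_lift_p (hexp (toPro G u) (Subgroup.mem_centralizer_singleton_iff.2 rfl))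
    obtain ⟨a, -, hav⟩ := hE' v hvp (hvu ▸ Subgroup.mem_centralizer_singleton_iff.2 rfl)
    have hcv : Commute (κ ^ j) v := by
      have hc : Commute (kk ^ j) (expN N a) := by
        simp only [expN, poly2]
        exact ((Commute.one_right _).smul_right _ |>.add_right (hcN.smul_right _)).add_right
          ((hcN.mul_right hcN).smul_right _)
      refine Subtype.ext (Units.ext ?_)
      simp only [Subgroup.coe_mul, SubmonoidClass.coe_pow, Units.val_mul, Units.val_pow_eq_pow_val]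
      rw [hav]
      exact hc
    have hcU : toPro G κ ^ j ∈ cen (toPro G u) := by
      rw [Subgroup.mem_centralizer_singleton_iff, ← map_pow, ← hvu, ← map_mul, hcv.eq, map_mul]
    have h := hexp _ hcU
    rw [← pow_mul, ← orderOf_dvd_iff_pow_eq_one, hord] at h
    refine (Nat.Coprime.dvd_of_dvd_mul_right ?_ h)
    refine (hp.out.coprime_iff_not_dvd.2 fun hd => ?_).symm
    have hpq : p ∣ q := hβ ▸ dvd_pow_self p (by rintro rfl; rw [pow_zero] at hβ; omega)
    have h1 : p ∣ q - 1 := hN ▸ Dvd.dvd.mul_left hd 2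
    have h2 := Nat.dvd_sub hpq h1
    rw [Nat.sub_sub_self (by omega)] at h2
    exact hp.out.not_dvd_one h2
  -- compare the degrees
  have h1 : ξ ^ (p ^ α - 1) = 1 := by
    haveI := Fintype.ofFinite F₀
    have h := FiniteField.pow_card_sub_one_eq_one (⟨ξ, hξF⟩ : F₀) (fun e => hξ0 (congrArg Subtype.val e))
    rw [← Nat.card_eq_fintype_card, hF₀] at h
    simpa using congrArg Subtype.val h
  have h1' : ξ ^ (p ^ β - 1) = 1 := by
    haveI := Fintype.ofFinite K
    have h := FiniteField.pow_card_sub_one_eq_one (⟨ξ, hξK⟩ : K) (fun e => hξ0 (congrArg Subtype.val e))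
    rw [← Nat.card_eq_fintype_card, hKq, hβ] at h
    simpa using congrArg Subtype.val h
  have hg : e ∣ p ^ Nat.gcd α β - 1 := hdvd _ (by
    rw [← Nat.pow_sub_one_gcd_pow_sub_one]
    exact pow_gcd_eq_one.2 ⟨h1, h1'⟩)
  set d := Nat.gcd α β with hd
  have hd0 : 0 < d := Nat.gcd_pos_of_pos_left _ hα
  by_contra hnd
  have hlt : d ≠ β := fun h => hnd (h ▸ Nat.gcd_dvd_left α β)
  have hdβ : d ∣ β := Nat.gcd_dvd_right α β
  have hβ0 : β ≠ 0 := by rintro rfl; rw [pow_zero] at hβ; omega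
  have h2d : 2 * d ≤ β := by
    obtain ⟨c, hc⟩ := hdβ
    rcases Nat.lt_or_ge c 2 with h | h
    · exfalso
      rcases (show c = 0 ∨ c = 1 by omega) with rfl | rfl
      · exact hβ0 (by rw [hc, mul_zero])
      · exact hlt (by rw [hc, mul_one])
    · rw [hc, mul_comm 2 d]; exact Nat.mul_le_mul_left d h
  have hle : e ≤ p ^ d - 1 := Nat.le_of_dvd (Nat.sub_pos_of_lt (Nat.one_lt_pow hd0.ne' hp.out.one_lt)) hg
  have hpd : 2 ≤ p ^ d := Nat.succ_le_of_lt (Nat.one_lt_pow hd0.ne' hp.out.one_lt)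
  have hq2 : p ^ d * p ^ d ≤ q := by
    rw [← pow_add, hβ]
    exact Nat.pow_le_pow_right hp.out.pos (by omega)
  nlinarith [hN, hle, hpd, hq2, h5, Nat.sub_add_cancel (show 1 ≤ q by omega),
    Nat.sub_add_cancel (show 1 ≤ p ^ d by omega)]

variable {F : Type u} [Field F] {Ht P : Subgroup (GL (Fin 3) F)}

/-- The shapes over a core fixing a conic. -/
theorem shape_conic [Fintype F] (p α : ℕ) [Fact p.Prime] [CharP F p] (hF : Fintype.card F = p ^ α) (hC : Core Ht P)
    (_hSL : Ht ≤ specialLinear (Fin 3) F) (_hp : p ≠ 2) {L : Type u} [Field L] [Fintype L] (ι : F →+* L)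
    (hG : NoTv (P.map (Matrix.GeneralLinearGroup.map (n := Fin 3) ι)))
    {q : ℕ} {u : P.map (Matrix.GeneralLinearGroup.map (n := Fin 3) ι)}
    (hu : IsUni (u : GL (Fin 3) L)) (h5 : 5 ≤ q)
    (hcard : 2 * Nat.card (Pro (P.map (Matrix.GeneralLinearGroup.map (n := Fin 3) ι))) = q * (q + 1) * (q - 1))
    (hU : Nat.card ↥(cen (toPro _ u)) = q)
    (hN : 2 * (cen (toPro _ u)).relIndex (Subgroup.normalizer
      ((cen (toPro _ u)) : Set (Pro (P.map (Matrix.GeneralLinearGroup.map (n := Fin 3) ι))))) = q - 1) :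
    ShapeConic p α (Pro Ht) := by
  classical
  haveI : CharP L p := charP_of_injective_ringHom ι.injective p
  obtain ⟨-, K, hKq, -, hM⟩ := conic hG hu h5 hcard hU hN
  have hα : 1 ≤ α := by
    rcases α with _ | α
    · rw [pow_zero] at hF; exact absurd hF (Fintype.one_lt_card (α := F)).ne'
    · omega
  obtain ⟨β, hβ, hdvd⟩ := dvd_of_conic hα ι.fieldRange
    (by rw [← hF, ← Nat.card_eq_fintype_card]
        exact (Nat.card_congr (Equiv.ofInjective ι ι.injective)).symm)
    hG (by rintro _ ⟨g, -, rfl⟩ i j; exact ⟨(g : Matrix (Fin 3) (Fin 3) F) i j, rfl⟩) hu h5 hU hN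
  obtain ⟨e0⟩ := pro_map_fieldHom ι Ht
  haveI : Finite K := inferInstance
  haveI := Fintype.ofFinite (Shrink.{0} K)
  let eK : Shrink.{0} K ≃+* K := (equivShrink.{0} K).symm.ringEquiv
  have hcK : Fintype.card (Shrink.{0} K) = p ^ β := by
    rw [← Nat.card_eq_fintype_card, Nat.card_congr eK.toEquiv, hKq, hβ]
  refine ⟨Shrink.{0} K, inferInstance, inferInstance, β, hcK, hdvd, by omega, ?_⟩
  rcases hM (Ht.map (Matrix.GeneralLinearGroup.map (n := Fin 3) ι)) (Subgroup.map_mono hC.le) (by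
      rintro _ ⟨m, hm, rfl⟩ _ ⟨x, hx, rfl⟩
      exact ⟨m * x * m⁻¹, hC.normal m hm x hx, by rw [map_mul, map_mul, map_inv]⟩) with ⟨⟨e⟩⟩ | ⟨⟨e⟩⟩
  · obtain ⟨e2⟩ := CfsgLib.InvChar.psl_congr eK
    exact Or.inl ⟨(e0.trans e).trans e2.symm⟩
  · obtain ⟨e2⟩ := centerQuot (A := GL (Fin 2) (Shrink.{0} K)) (B := GL (Fin 2) K)
      (Units.mapEquiv (eK.mapMatrix).toMulEquiv)
    exact Or.inr ⟨(e0.trans e).trans e2.symm⟩

end CfsgLib.Geo.D3
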