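/-
Generators which pin down the inner automorphisms of the groups of order 60 and 168.
-/
import Mathlib

set_option autoImplicit false

namespace CfsgLib.Geo.D3.Small

open Equiv

/-- An automorphism moving `a` within its class is inner. -/
theorem inner_of_rigid {Q : Type*} [Group Q] {a b : Q} (hgen : Subgroup.closure ({a, b} : Set Q) = ⊤)
    (hb : ∀ ψ : Q ≃* Q, ψ a = a → ∃ i : ℕ, ψ b = a ^ i * b * (a ^ i)⁻¹) (ψ : Q ≃* Q) {y : Q}
    (hy : y * ψ a * y⁻¹ = a) : ∃ x : Q, ∀ z, ψ z = x * z * x⁻¹ := by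
  obtain ⟨i, hi⟩ := hb (ψ.trans (MulAut.conj y)) hy
  have hi' : y * ψ b * y⁻¹ = a ^ i * b * (a ^ i)⁻¹ := hi
  have key : (ψ.toMonoidHom : Q →* Q) = (MulAut.conj (y⁻¹ * a ^ i)).toMonoidHom := by
    refine MonoidHom.eq_of_eqOn_dense hgen ?_
    rintro z (rfl | rfl)
    · show ψ _ = y⁻¹ * _ ^ i * _ * (y⁻¹ * _ ^ i)⁻¹
      rw [show ψ z = y⁻¹ * (y * ψ z * y⁻¹) * y by group, hy]
      group
    · show ψ _ = y⁻¹ * _ ^ i * _ * (y⁻¹ * _ ^ i)⁻¹
      rw [show ψ z = y⁻¹ * (y * ψ z * y⁻¹) * y by group, hi']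
      group
  exact ⟨y⁻¹ * a ^ i, fun z => DFunLike.congr_fun key z⟩

/-- A subgroup of a simple group of index dividing two. -/
theorem eq_top_of_card {Q : Type*} [Group Q] [Finite Q] [IsSimpleGroup Q] {H : Subgroup Q} (hne : H ≠ ⊥)
    (h : Nat.card Q ∣ 2 * Nat.card H) : H = ⊤ := by
  have hi : H.index ∣ 2 := by
    rw [← H.index_mul_card] at h
    exact Nat.dvd_of_mul_dvd_mul_right Nat.card_pos h
  rcases (Nat.dvd_prime Nat.prime_two).1 hi with h1 | h2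
  · exact Subgroup.index_eq_one.1 h1
  · exact (Subgroup.normal_of_index_eq_two h2).eq_bot_or_eq_top.resolve_left hne

/-- The element of order five. -/
def fiveA : Perm (Fin 5) := c[0, 1, 2, 3, 4]

/-- The involution. -/
def fiveB : Perm (Fin 5) := swap 0 1 * swap 2 3

theorem five_class : ∀ x : Perm (Fin 5), x ^ 5 = 1 → x ≠ 1 →
    ∃ y : Perm (Fin 5), Perm.sign y = 1 ∧ (y * x * y⁻¹ = fiveA ∨ y * x * y⁻¹ = fiveA ^ 2) := by
  decide +kernel

theorem five_rigid : ∀ x : Perm (Fin 5), Perm.sign x = 1 → x ^ 2 = 1 → x ≠ 1 → (fiveA * x) ^ 3 = 1 →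
    ∃ i : Fin 5, x = fiveA ^ (i : ℕ) * fiveB * (fiveA ^ (i : ℕ))⁻¹ := by
  decide +kernel

theorem alt_five_pair : ∃ a b : alternatingGroup (Fin 5), orderOf a = 5 ∧ orderOf b = 2 ∧ orderOf (a * b) = 3 ∧
    (∀ x, x ^ 5 = 1 → x ≠ 1 → ∃ y, y * x * y⁻¹ = a ∨ y * x * y⁻¹ = a ^ 2) ∧
    ∀ x, x ^ 2 = 1 → x ≠ 1 → (a * x) ^ 3 = 1 → ∃ i : ℕ, x = a ^ i * b * (a ^ i)⁻¹ := by
  have : Fact (Nat.Prime 5) := ⟨by norm_num⟩
  have : Fact (Nat.Prime 3) := ⟨Nat.prime_three⟩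
  have : Fact (Nat.Prime 2) := ⟨Nat.prime_two⟩
  refine ⟨⟨fiveA, Perm.mem_alternatingGroup.2 (by decide +kernel)⟩,
    ⟨fiveB, Perm.mem_alternatingGroup.2 (by decide +kernel)⟩, ?_, ?_, ?_, fun x hx hx1 => ?_,
    fun x hx hx1 hx3 => ?_⟩
  · rw [← Subgroup.orderOf_coe]; exact orderOf_eq_prime (by decide +kernel) (by decide +kernel)
  · rw [← Subgroup.orderOf_coe]; exact orderOf_eq_prime (by decide +kernel) (by decide +kernel)
  · rw [← Subgroup.orderOf_coe]; exact orderOf_eq_prime (by decide +kernel) (by decide +kernel)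
  · obtain ⟨y, hy, he⟩ := five_class x (congrArg Subtype.val hx) (fun e => hx1 (Subtype.ext e))
    exact ⟨⟨y, hy⟩, he.imp (fun e => Subtype.ext e) fun e => Subtype.ext e⟩
  · obtain ⟨i, hi⟩ := five_rigid x x.2 (congrArg Subtype.val hx) (fun e => hx1 (Subtype.ext e))
      (congrArg Subtype.val hx3)
    exact ⟨i, Subtype.ext hi⟩

local notation "M32" => Matrix (Fin 3) (Fin 3) (ZMod 2)

/-- The element of order seven. -/
def sevenA : M32 := !![0, 0, 1; 1, 0, 1; 0, 1, 0]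

/-- The involution. -/
def sevenB : M32 := !![0, 0, 1; 1, 1, 1; 1, 0, 0]

/-- An element squaring the element of order seven. -/
def sevenC : M32 := !![0, 0, 1; 0, 1, 0; 1, 1, 1]

theorem sevenC_spec : sevenC.det = 1 ∧ sevenC * sevenA = sevenA ^ 2 * sevenC := by decide +kernel

set_option synthInstance.maxSize 2000 in
theorem seven_class : ∀ A : M32, A.det = 1 → A ^ 7 = 1 → A ≠ 1 →
    ∃ B : M32, B.det = 1 ∧ (B * A = sevenA * B ∨ B * A = sevenA ^ 6 * B) := by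
  decide +kernel

theorem seven_rigid : ∀ B : M32, B.det = 1 → B * B = 1 → B ≠ 1 → (sevenA * B) ^ 3 = 1 →
    (sevenA * B * sevenA ^ 6 * B) ^ 4 = 1 → ∃ i : Fin 7, B * sevenA ^ (i : ℕ) = sevenA ^ (i : ℕ) * sevenB := by
  decide +kernel

local notation "S32" => Matrix.SpecialLinearGroup (Fin 3) (ZMod 2)

theorem seven_pair : ∃ a b : S32, orderOf a = 7 ∧ orderOf b = 2 ∧ orderOf (a * b) = 3 ∧
    orderOf (a * b * a ^ 6 * b) = 4 ∧ (∃ y, y * a * y⁻¹ = a ^ 2) ∧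
    (∀ x, x ^ 7 = 1 → x ≠ 1 → ∃ y, y * x * y⁻¹ = a ∨ y * x * y⁻¹ = a ^ 6) ∧
    ∀ x, x ^ 2 = 1 → x ≠ 1 → (a * x) ^ 3 = 1 → (a * x * a ^ 6 * x) ^ 4 = 1 →
      ∃ i : ℕ, x = a ^ i * b * (a ^ i)⁻¹ := by
  have : Fact (Nat.Prime 7) := ⟨by norm_num⟩
  have : Fact (Nat.Prime 3) := ⟨Nat.prime_three⟩
  have : Fact (Nat.Prime 2) := ⟨Nat.prime_two⟩
  obtain ⟨a, ha⟩ : ∃ a : S32, (a : M32) = sevenA := ⟨⟨sevenA, by decide +kernel⟩, rfl⟩
  obtain ⟨b, hb⟩ : ∃ b : S32, (b : M32) = sevenB := ⟨⟨sevenB, by decide +kernel⟩, rfl⟩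
  have inj : ∀ {u v : S32}, (u : M32) = v → u = v := fun h => Subtype.ext h
  refine ⟨a, b, ?_, ?_, ?_, ?_, ?_, fun x hx hx1 => ?_, fun x hx hx1 h3 h4 => ?_⟩
  · exact orderOf_eq_prime (inj (by simp [ha]; decide +kernel))
      (fun e => absurd (ha.symm.trans (congrArg Subtype.val e)) (by decide +kernel))
  · exact orderOf_eq_prime (inj (by simp [hb]; decide +kernel))
      (fun e => absurd (hb.symm.trans (congrArg Subtype.val e)) (by decide +kernel))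
  · refine orderOf_eq_prime (inj (by simp [ha, hb]; decide +kernel)) fun e => ?_
    have h := congrArg (fun u : S32 => (u : M32)) e
    simp [ha, hb] at h
    revert h
    decide +kernel
  · refine orderOf_eq_prime_pow (p := 2) (n := 1) (fun e => ?_) (inj (by simp [ha, hb]; decide +kernel))
    have h := congrArg (fun u : S32 => (u : M32)) e
    simp [ha, hb] at h
    revert h
    decide +kernel
  · obtain ⟨y, hy⟩ : ∃ y : S32, (y : M32) = sevenC := ⟨⟨sevenC, sevenC_spec.1⟩, rfl⟩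
    refine ⟨y, mul_inv_eq_iff_eq_mul.2 (inj ?_)⟩
    rw [Matrix.SpecialLinearGroup.coe_mul, Matrix.SpecialLinearGroup.coe_mul, Matrix.SpecialLinearGroup.coe_pow, ha,
      hy]
    exact sevenC_spec.2
  · obtain ⟨B, hB, he⟩ := seven_class x x.2 (by simpa using congrArg Subtype.val hx) (fun e => hx1 (inj e))
    obtain ⟨y, rfl⟩ : ∃ y : S32, (y : M32) = B := ⟨⟨B, hB⟩, rfl⟩
    refine ⟨y, he.imp (fun e => ?_) fun e => ?_⟩
    · refine mul_inv_eq_iff_eq_mul.2 (inj ?_)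
      rw [Matrix.SpecialLinearGroup.coe_mul, Matrix.SpecialLinearGroup.coe_mul, ha]
      exact e
    · refine mul_inv_eq_iff_eq_mul.2 (inj ?_)
      rw [Matrix.SpecialLinearGroup.coe_mul, Matrix.SpecialLinearGroup.coe_mul, Matrix.SpecialLinearGroup.coe_pow, ha]
      exact e
  · obtain ⟨i, hi⟩ := seven_rigid x x.2 (by simpa [pow_two] using congrArg Subtype.val hx) (fun e => hx1 (inj e))
      (by simpa [ha] using congrArg Subtype.val h3) (by simpa [ha] using congrArg Subtype.val h4)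
    refine ⟨i, eq_mul_inv_iff_mul_eq.2 (inj ?_)⟩
    rw [Matrix.SpecialLinearGroup.coe_mul, Matrix.SpecialLinearGroup.coe_mul, Matrix.SpecialLinearGroup.coe_pow, ha, hb]
    exact hi

end CfsgLib.Geo.D3.Small
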