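/-
The shapes of the almost simple groups in dimension three with a core of order 60 or 168 modulo scalars.
-/
import Cfsg.Agent.Geo.DimThree.Shapes
import Cfsg.Agent.Geo.DimThree.ShapeSmallAut
import Cfsg.Agent.Geo.DimThree.NoTv.Spectra
import Cfsg.Agent.Geo.DimThree.NoTv.Uni
import Cfsg.Agent.Geo.DimThree.NoTv.UniFlag
import Cfsg.Agent.Geo.DimThree.ShapeConic
import Cfsg.Agent.Classical.SmallPSL

set_option autoImplicit false
set_option linter.unusedSectionVars false
set_option linter.style.haveILetI false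

namespace CfsgLib.Geo.D3

open Matrix Cfsg Cfsg.Geo CfsgLib.Geo

universe u

variable {F : Type u} [Field F] {Ht P : Subgroup (GL (Fin 3) F)}

local notation "Mat" => Matrix (Fin 3) (Fin 3) F
local notation:max "⟪" g "⟫" => (((g : P) : GL (Fin 3) F) : Matrix (Fin 3) (Fin 3) F)

lemma zmod_two_cube : ∀ r : ZMod 2, r ^ 3 = 1 → r = 1 := by decide

/-- Scalars are detected after extending the field. -/
lemma map_mem_scalars_iff {L : Type u} [Field L] (ι : F →+* L) (g : GL (Fin 3) F) :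
    Matrix.GeneralLinearGroup.map (n := Fin 3) ι g ∈ scalars (Fin 3) L ↔ g ∈ scalars (Fin 3) F := by
  constructor
  · intro h
    obtain ⟨c, hc⟩ := (mem_scalars_iff _).1 h
    have he : ∀ i j, ι ((g : Mat) i j) = if i = j then (c : L) else 0 := fun i j => by
      have := congrFun (congrFun hc i) j
      by_cases hij : i = j <;> simpa [Matrix.one_apply, hij] using this
    have h00 : (g : Mat) 0 0 ≠ 0 := fun e => c.ne_zero (by have := he 0 0; rw [e, map_zero] at this; simpa using this.symm)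
    refine (mem_scalars_iff _).2 ⟨Units.mk0 _ h00, ?_⟩
    ext i j
    apply ι.injective
    rw [he, Matrix.smul_apply, Matrix.one_apply, Units.val_mk0]
    by_cases hij : i = j
    · rw [if_pos hij, if_pos hij, smul_eq_mul, mul_one, he, if_pos rfl]
    · rw [if_neg hij, if_neg hij, smul_zero, map_zero]
  · intro h
    obtain ⟨c, hc⟩ := (mem_scalars_iff _).1 h
    refine (mem_scalars_iff _).2 ⟨Units.map (ι : F →+* L).toMonoidHom c, ?_⟩
    ext i j
    have := congrArg ι (congrFun (congrFun hc i) j)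
    by_cases hij : i = j <;> simp [hij] at this ⊢ <;> exact this

/-- The order modulo scalars does not change. -/
lemma card_pro_map {L : Type u} [Field L] (ι : F →+* L) (P : Subgroup (GL (Fin 3) F)) :
    Nat.card (Pro (P.map (Matrix.GeneralLinearGroup.map (n := Fin 3) ι))) = Nat.card (Pro P) := by
  obtain ⟨e⟩ := pro_map_fieldHom ι P
  exact (Nat.card_congr e.toEquiv).symm

/-- A group of order 168 in characteristic seven has a self-centralising unipotent subgroup of order seven. -/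
lemma NoTv.uni_data_168 [Finite F] [CharP F 7] {G : Subgroup (GL (Fin 3) F)} (hG : NoTv G)
    [IsSimpleGroup (Pro G)] (h : Nat.card (Pro G) = 168) :
    ∃ u : G, IsUni (u : GL (Fin 3) F) ∧ Nat.card ↥(cen (toPro G u)) = 7 ∧
      (cen (toPro G u)).relIndex (Subgroup.normalizer ((cen (toPro G u)) : Set (Pro G))) = 3 := by
  classical
  haveI hp : Fact (Nat.Prime 7) := ⟨by norm_num⟩
  obtain ⟨y, hy⟩ := exists_prime_orderOf_dvd_card' 7 (show 7 ∣ Nat.card (Pro G) by rw [h]; norm_num)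
  obtain ⟨g, rfl, hg7⟩ := hG.exists_lift_p (p := 7) (orderOf_dvd_iff_pow_eq_one.1 (dvd_of_eq hy))
  have hy1 : toPro G g ≠ 1 := fun e => by rw [e, orderOf_one] at hy; omega
  have hu : IsUni (g : GL (Fin 3) F) := by
    refine ⟨fun hs => hy1 (toPro_eq_one.2 hs), 1, ?_⟩
    rw [one_smul, pow_succ, pow_two]
    exact (hG.regular_of_pow (p := 7) hg7 fun e => hy1 (by rw [e, map_one])).1
  obtain ⟨-, hpg, -, -⟩ := uni_block (p := 7) hG hu
  set Q := cen (toPro G g) with hQ
  have h7Q : 7 ∣ Nat.card Q := by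
    rw [← hy]; exact Subgroup.orderOf_dvd_natCard Q (Subgroup.mem_centralizer_singleton_iff.2 rfl)
  have hd : Nat.card Q ∣ 168 := h ▸ Subgroup.card_subgroup_dvd_card Q
  have hQ7 : Nat.card Q = 7 := by
    obtain ⟨k, hk⟩ := hpg.exists_card_eq
    rw [hk] at hd h7Q ⊢
    rcases k with _ | _ | k
    · norm_num at h7Q
    · norm_num
    · exact absurd ((pow_dvd_pow 7 (show 2 ≤ k + 1 + 1 by omega)).trans hd) (by norm_num)
  let S : Sylow 7 (Pro G) := hpg.toSylow (by
    intro h'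
    have := mul_dvd_mul h' (dvd_of_eq hQ7.symm)
    rw [Subgroup.index_mul_card, h] at this
    norm_num at this)
  have hidx : (Subgroup.normalizer (Q : Set (Pro G))).index = Nat.card (Sylow 7 (Pro G)) :=
    (S.card_eq_index_normalizer).symm
  have hmod : Nat.card (Sylow 7 (Pro G)) % 7 = 1 := card_sylow_modEq_one 7 (Pro G)
  have hmul : (Subgroup.normalizer (Q : Set (Pro G))).index *
      Nat.card (Subgroup.normalizer (Q : Set (Pro G))) = 168 := by rw [Subgroup.index_mul_card, h]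
  have hdiv : 7 ∣ Nat.card (Subgroup.normalizer (Q : Set (Pro G))) :=
    hQ7 ▸ Subgroup.card_dvd_of_le Subgroup.le_normalizer
  have hne : (Subgroup.normalizer (Q : Set (Pro G))).index ≠ 1 := fun e1 => by
    haveI : Q.Normal := Subgroup.normalizer_eq_top_iff.1 (Subgroup.index_eq_one.1 e1)
    rcases (inferInstance : Q.Normal).eq_bot_or_eq_top with hb | ht
    · rw [hb, Subgroup.card_bot] at hQ7; omega
    · rw [ht, Subgroup.card_top, h] at hQ7; omega
  obtain ⟨m, hm⟩ := hdiv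
  have hn8 : (Subgroup.normalizer (Q : Set (Pro G))).index = 8 ∧ m = 3 := by
    rw [hidx] at hne hmul ⊢
    rw [hm] at hmul
    have hle : Nat.card (Sylow 7 (Pro G)) ∣ 24 := ⟨m, by linarith⟩
    have := Nat.le_of_dvd (by norm_num) hle
    interval_cases hn : Nat.card (Sylow 7 (Pro G)) <;> omega
  refine ⟨g, hu, hQ7, ?_⟩
  have := Subgroup.relIndex_mul_relIndex ⊥ Q (Subgroup.normalizer (Q : Set (Pro G))) bot_le Subgroup.le_normalizer
  rw [Subgroup.relIndex_bot_left, Subgroup.relIndex_bot_left, hQ7, hm, hn8.2] at this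
  rw [← hQ]
  omega

/-- Small cores have no scalars. -/
lemma Core.scalar_trivial {L : Type u} [Field L] [Finite L] (ι : F →+* L)
    (hG : NoTv (P.map (Matrix.GeneralLinearGroup.map (n := Fin 3) ι))) (h9 : ¬ 9 ∣ Nat.card (Pro P))
    {g : P} (hg : (g : GL (Fin 3) F) ∈ scalars (Fin 3) F) : g = 1 := by
  have h1 := hG.scalar_trivial (by rwa [card_pro_map]) ⟨_, Subgroup.mem_map_of_mem _ g.2⟩
    (toPro_eq_one.2 ((map_mem_scalars_iff ι (g : GL (Fin 3) F)).2 hg))
  refine Subtype.ext (Units.ext ?_)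
  ext i j
  apply ι.injective
  have := congrFun (congrFun (congrArg (fun u : (P.map (Matrix.GeneralLinearGroup.map (n := Fin 3) ι)) =>
    ((u : GL (Fin 3) L) : Matrix (Fin 3) (Fin 3) L)) h1) i) j
  simp [Matrix.one_apply] at this ⊢
  simpa [apply_ite ι] using this

section core

variable (hC : Core Ht P)
include hC

lemma Core.det_mat (g : P) : ⟪g⟫.det = 1 := mem_specialLinear.1 (hC.le_specialLinear g.2)

lemma Core.inv_trace (g : P) : ⟪g⁻¹⟫.trace = ⟪g⟫.adjugate.trace := by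
  have h1 : ⟪g⁻¹⟫ * ⟪g⟫ = 1 := by rw [← Units.val_mul, ← Subgroup.coe_mul, inv_mul_cancel]; rfl
  rw [show ⟪g⁻¹⟫ = ⟪g⟫.adjugate by
    calc ⟪g⁻¹⟫ = ⟪g⁻¹⟫ * (⟪g⟫ * ⟪g⟫.adjugate) := by rw [Matrix.mul_adjugate, hC.det_mat, one_smul, mul_one]
      _ = ⟪g⟫.adjugate := by rw [← mul_assoc, h1, one_mul]]

omit hC in
lemma trace_conj_core (y g : P) : ⟪y * g * y⁻¹⟫.trace = ⟪g⟫.trace := by
  rw [Subgroup.coe_mul, Subgroup.coe_mul, Subgroup.coe_inv, Units.val_mul, Units.val_mul, Matrix.trace_units_conj]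

variable (htriv : ∀ g : P, (g : GL (Fin 3) F) ∈ scalars (Fin 3) F → g = 1)
include htriv

lemma Core.not_scalar (g : P) (hg : g ≠ 1) : ∀ c : F, ⟪g⟫ ≠ c • (1 : Mat) := fun c hc => by
  have hd := hC.det_mat g
  have hc0 : c ≠ 0 := fun h => by rw [hc, h, zero_smul, Matrix.det_zero] at hd; exact zero_ne_one hd
  exact hg (htriv g ((mem_scalars_iff _).2 ⟨Units.mk0 c hc0, hc⟩))

/-- Without scalars the core is its own quotient. -/
lemma Core.equiv_pro : Nonempty (P ≃* Pro P) :=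
  ⟨MulEquiv.ofBijective (toPro P) ⟨(injective_iff_map_eq_one _).2 fun g hg => htriv g (toPro_eq_one.1 hg),
    toPro_surjective⟩⟩

/-- Automorphisms preserving traces are inner: then there is nothing above the core. -/
lemma Core.pro_equiv_of_inner
    (hin : ∀ ψ : P ≃* P, (∀ g, ⟪ψ g⟫.trace = ⟪g⟫.trace) → ∃ x : P, ∀ z, ψ z = x * z * x⁻¹) :
    Nonempty (P ≃* Pro Ht) := by
  have hcov : ∀ h ∈ Ht, ∃ x : P, (x : GL (Fin 3) F)⁻¹ * h ∈ scalars (Fin 3) F := by
    intro h hh
    let ψ : P ≃* P :=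
      { toFun := fun g => ⟨h * g * h⁻¹, hC.normal h hh g g.2⟩
        invFun := fun g => ⟨h⁻¹ * g * h⁻¹⁻¹, hC.normal h⁻¹ (inv_mem hh) g g.2⟩
        left_inv := fun g => Subtype.ext (by simp only; group)
        right_inv := fun g => Subtype.ext (by simp only; group)
        map_mul' := fun g g' => Subtype.ext (by simp only [Subgroup.coe_mul]; group) }
    obtain ⟨x, hx⟩ := hin ψ fun g => by
      show ((h * (g : GL (Fin 3) F) * h⁻¹ : GL (Fin 3) F) : Mat).trace = _
      rw [Units.val_mul, Units.val_mul, Matrix.trace_units_conj]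
    refine ⟨x, hC.centralizer_scalar _ (mul_mem (inv_mem (hC.le x.2)) hh) fun z hz => ?_⟩
    have he : h * z * h⁻¹ = (x : GL (Fin 3) F) * z * (x : GL (Fin 3) F)⁻¹ := congrArg Subtype.val (hx ⟨z, hz⟩)
    rw [show (x : GL (Fin 3) F)⁻¹ * h * z * ((x : GL (Fin 3) F)⁻¹ * h)⁻¹ * z⁻¹ =
      (x : GL (Fin 3) F)⁻¹ * (h * z * h⁻¹) * x * z⁻¹ by group, he]
    simp [mul_assoc]
  refine ⟨MulEquiv.ofBijective ((toPro Ht).comp (Subgroup.inclusion hC.le))
    ⟨(injective_iff_map_eq_one _).2 fun g hg => htriv g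
      (toPro_eq_one.1 (hg : toPro Ht (Subgroup.inclusion hC.le g) = 1) :), fun y => ?_⟩⟩
  obtain ⟨⟨h, hh⟩, rfl⟩ := toPro_surjective y
  obtain ⟨x, hx⟩ := hcov h hh
  refine ⟨x, ?_⟩
  have h1 : toPro Ht ((Subgroup.inclusion hC.le x)⁻¹ * ⟨h, hh⟩) = 1 := toPro_eq_one.2 hx
  rw [map_mul, map_inv, inv_mul_eq_one] at h1
  exact h1

end core

section shapes

variable [Fintype F] (p α : ℕ) [Fact p.Prime] [CharP F p] (hF : Fintype.card F = p ^ α) (hC : Core Ht P)
  (hSL : Ht ≤ specialLinear (Fin 3) F) (hp : p ≠ 2) {L : Type u} [Field L] [Fintype L] (ι : F →+* L)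
  (hG : NoTv (P.map (Matrix.GeneralLinearGroup.map (n := Fin 3) ι)))
include hF hC hSL hp hG

lemma card_odd : (p ^ α) % 2 = 1 :=
  Nat.odd_iff.1 (((Fact.out : p.Prime).odd_of_ne_two hp).pow)

lemma natCast_ne_zero_of_ne {r : ℕ} (hr : r.Prime) (hne : p ≠ r) : ((r : ℕ) : F) ≠ 0 := fun e =>
  hne ((Nat.prime_dvd_prime_iff_eq Fact.out hr).1 ((CharP.cast_eq_zero_iff F p r).1 e))

/-- The trace of a power by the order of the field. -/
lemma trace_frob {g : P} {r : ℕ} (hg : g ^ r = 1) : ⟪g ^ ((p ^ α) % r)⟫.trace = ⟪g⟫.trace := by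
  rw [← pow_eq_pow_mod _ hg, Subgroup.coe_pow, Units.val_pow_eq_pow_val, ← hF, FiniteField.trace_pow_card,
    FiniteField.pow_card]

theorem shape_sixty (h : Nat.card (Pro P) = 60) (h5 : p ≠ 5) : ShapeFive p α (Pro Ht) := by
  classical
  have htriv : ∀ g : P, (g : GL (Fin 3) F) ∈ scalars (Fin 3) F → g = 1 := fun g =>
    Core.scalar_trivial ι hG (by rw [h]; norm_num)
  obtain ⟨eP⟩ := hC.equiv_pro htriv
  haveI := hC.simple
  haveI : IsSimpleGroup P := MulEquiv.isSimpleGroup eP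
  have hcard : Nat.card P = 60 := (Nat.card_congr eP.toEquiv).trans h
  have hperf : commutator P = ⊤ := by
    refine Subgroup.map_injective P.subtype_injective ?_
    rw [commutator_def, Subgroup.map_commutator, ← MonoidHom.range_eq_map, Subgroup.range_subtype, hC.perfect]
  obtain ⟨e⟩ := CfsgLib.PSLTwoRecog.iso_alternating_five hcard hperf
  obtain ⟨aA, bA, ha, hb, hab, hclass, hrig⟩ := Small.alt_five_pair
  obtain ⟨a, rfl⟩ := e.surjective aA
  obtain ⟨b, rfl⟩ := e.surjective bA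
  rw [e.orderOf_eq] at ha hb
  rw [← map_mul, e.orderOf_eq] at hab
  -- traces
  have hab3 : (a * b) ^ 3 = 1 := orderOf_dvd_iff_pow_eq_one.1 (dvd_of_eq hab)
  have ha1 : a ≠ 1 := fun e1 => by rw [e1, orderOf_one] at ha; omega
  have ha5 : a ^ 5 = 1 := ha ▸ pow_orderOf_eq_one a
  have hrev : ∀ g : P, ⟪g⁻¹⟫.trace = ⟪g⟫.trace := by
    intro g
    obtain ⟨y, hy⟩ := Spec.alt_five (e g)
    obtain ⟨x, rfl⟩ := e.surjective y
    have hx : x * g * x⁻¹ = g⁻¹ := e.injective (by simpa using hy)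
    rw [← hx, trace_conj_core]
  have hre : ⟪a⟫.adjugate.trace = ⟪a⟫.trace := by rw [← hC.inv_trace, hrev]
  have hquad : ⟪a⟫.trace ^ 2 = ⟪a⟫.trace + 1 :=
    Spec.trace_of_five (hC.det_mat a) (hC.not_scalar htriv a ha1)
      (by rw [← Units.val_pow_eq_pow_val, ← Subgroup.coe_pow, ha5]; rfl) hre
  have h5' : (5 : F) ≠ 0 := by exact_mod_cast natCast_ne_zero_of_ne p α hF hC hSL hp ι hG Nat.prime_five h5
  have hsq : ⟪a ^ 2⟫.trace = ⟪a⟫.trace ^ 2 - 2 * ⟪a⟫.trace := by
    rw [pow_two a, Subgroup.coe_mul, Units.val_mul, Spec.trace_sq, hre]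
  have hdist : ⟪a ^ 2⟫.trace ≠ ⟪a⟫.trace := fun e1 => by
    rw [hsq] at e1
    exact h5' (by linear_combination (-(4 : F)) * hquad + (2 * ⟪a⟫.trace - 1) * (hquad - e1) + (0 : F) * e1)
  -- automorphisms
  have hgen : Subgroup.closure ({a, b} : Set P) = ⊤ := by
    have hma : a ∈ Subgroup.closure ({a, b} : Set P) := Subgroup.subset_closure (Or.inl rfl)
    have hmb : b ∈ Subgroup.closure ({a, b} : Set P) := Subgroup.subset_closure (Or.inr rfl)
    refine Small.eq_top_of_card (fun e1 => ha1 ?_) ?_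
    · rwa [e1, Subgroup.mem_bot] at hma
    · rw [hcard]
      have d5 := Subgroup.orderOf_dvd_natCard _ hma
      have d2 := Subgroup.orderOf_dvd_natCard _ hmb
      have d3 := Subgroup.orderOf_dvd_natCard _ (mul_mem hma hmb)
      rw [ha] at d5; rw [hb] at d2; rw [hab] at d3
      have h30 : 5 * 2 * 3 ∣ Nat.card ↥(Subgroup.closure ({a, b} : Set P)) :=
        Nat.Coprime.mul_dvd_of_dvd_of_dvd (by norm_num) (Nat.Coprime.mul_dvd_of_dvd_of_dvd (by norm_num) d5 d2) d3
      omega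
  have hin : ∀ ψ : P ≃* P, (∀ g, ⟪ψ g⟫.trace = ⟪g⟫.trace) → ∃ x : P, ∀ z, ψ z = x * z * x⁻¹ := by
    intro ψ hψ
    obtain ⟨y, hy⟩ := hclass (e (ψ a)) (by rw [← map_pow, ← map_pow, ha5, map_one, map_one])
      fun e1 => ha1 (ψ.injective (e.injective (by rw [e1, map_one, map_one])))
    obtain ⟨x, rfl⟩ := e.surjective y
    rcases hy with hy | hy
    · refine Small.inner_of_rigid hgen (fun φ hφ => ?_) ψ (e.injective (by simpa using hy))
      have hb2 : b ^ 2 = 1 := hb ▸ pow_orderOf_eq_one b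
      obtain ⟨i, hi⟩ := hrig (e (φ b)) (by rw [← map_pow, ← map_pow, hb2, map_one, map_one])
        (fun e1 => by
          have : b = 1 := φ.injective (e.injective (by rw [e1, map_one, map_one]))
          rw [this, orderOf_one] at hb; omega)
        (by
          rw [← hφ, ← map_mul, ← map_mul, ← map_pow, ← map_pow, hab3, map_one, map_one])
      exact ⟨i, e.injective (by simpa using hi)⟩
    · exfalso
      have hxa : x * ψ a * x⁻¹ = a ^ 2 := e.injective (by simpa using hy)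
      exact hdist (by rw [← hxa, trace_conj_core, hψ])
  obtain ⟨eH⟩ := hC.pro_equiv_of_inner htriv hin
  -- the congruence
  haveI : Fact (Nat.Prime 5) := ⟨by norm_num⟩
  refine ⟨?_, ZMod 5, inferInstance, inferInstance, ZMod.card 5, ?_⟩
  · have hfr := trace_frob p α hF hC hSL hp ι hG ha5
    have hodd := card_odd p α hF hC hSL hp ι hG
    rcases (show p ^ α % 5 = 0 ∨ p ^ α % 5 = 1 ∨ p ^ α % 5 = 2 ∨ p ^ α % 5 = 3 ∨ p ^ α % 5 = 4 by omega) with
      h0 | h1 | h2 | h3 | h4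
    · exfalso
      rw [h0, pow_zero] at hfr
      have : (3 : F) = ⟪a⟫.trace := by rw [← hfr]; simp
      exact h5' (by rw [← this] at hquad; linear_combination hquad)
    · omega
    · exfalso; rw [h2] at hfr; exact hdist hfr
    · exfalso
      rw [h3, show a ^ 3 = (a ^ 2)⁻¹ from eq_inv_of_mul_eq_one_left (by rw [← pow_add, ha5]), hrev] at hfr
      exact hdist hfr
    · omega
  · obtain ⟨e5⟩ := CfsgLib.Linear.Small.nonempty_psl_two_five (F := ZMod 5) (ZMod.card 5)
    exact ⟨(eH.symm.trans e).trans e5.symm⟩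

theorem shape_168_seven (h : Nat.card (Pro P) = 168) (h7 : p ≠ 7) : ShapeSeven p α (Pro Ht) := by
  classical
  have htriv : ∀ g : P, (g : GL (Fin 3) F) ∈ scalars (Fin 3) F → g = 1 := fun g =>
    Core.scalar_trivial ι hG (by rw [h]; norm_num)
  obtain ⟨eP⟩ := hC.equiv_pro htriv
  haveI := hC.simple
  haveI : IsSimpleGroup P := MulEquiv.isSimpleGroup eP
  have hcard : Nat.card P = 168 := (Nat.card_congr eP.toEquiv).trans h
  haveI : Fact (Nat.Prime 7) := ⟨by norm_num⟩
  haveI : Fact (Nat.Prime 2) := ⟨Nat.prime_two⟩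
  obtain ⟨e7⟩ := Cfsg.Agent.S0495.result hcard (F := ZMod 7) (ZMod.card 7)
  obtain ⟨e2⟩ := Cfsg.Agent.S0255.result (F := ZMod 7) (K := ZMod 2) (ZMod.card 7) (ZMod.card 2)
  have hsurj : Function.Bijective
      (QuotientGroup.mk' (Subgroup.center (Matrix.SpecialLinearGroup (Fin 3) (ZMod 2)))) := by
    refine ⟨(injective_iff_map_eq_one _).2 fun A hA => ?_, QuotientGroup.mk'_surjective _⟩
    rw [QuotientGroup.mk'_apply, QuotientGroup.eq_one_iff, Matrix.SpecialLinearGroup.mem_center_iff] at hA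
    obtain ⟨r, hr, hrA⟩ := hA
    refine Subtype.ext ?_
    rw [← hrA]
    have hr1 : r = 1 := by
      rw [Fintype.card_fin] at hr
      exact zmod_two_cube r hr
    rw [hr1, map_one]
    rfl
  let e : P ≃* Matrix.SpecialLinearGroup (Fin 3) (ZMod 2) :=
    (e7.trans e2).trans (MulEquiv.ofBijective _ hsurj).symm
  obtain ⟨aA, bA, ha, hb, hab, hc4, ⟨yA, hyA⟩, hclass, hrig⟩ := Small.seven_pair
  obtain ⟨a, rfl⟩ := e.surjective aA
  obtain ⟨b, rfl⟩ := e.surjective bA
  obtain ⟨y, rfl⟩ := e.surjective yA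
  have hya : y * a * y⁻¹ = a ^ 2 := e.injective (by simpa using hyA)
  rw [e.orderOf_eq] at ha hb
  rw [← map_mul, e.orderOf_eq] at hab
  rw [← map_pow, ← map_mul, ← map_mul, ← map_mul, e.orderOf_eq] at hc4
  -- traces
  have hab3 : (a * b) ^ 3 = 1 := orderOf_dvd_iff_pow_eq_one.1 (dvd_of_eq hab)
  have ha1 : a ≠ 1 := fun e1 => by rw [e1, orderOf_one] at ha; omega
  have ha7 : a ^ 7 = 1 := ha ▸ pow_orderOf_eq_one a
  have hc44 : (a * b * a ^ 6 * b) ^ 4 = 1 := orderOf_dvd_iff_pow_eq_one.1 (dvd_of_eq hc4)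
  have step : ∀ n : ℕ, ⟪a ^ (2 * n)⟫.trace = ⟪a ^ n⟫.trace := fun n => by
    rw [pow_mul, ← hya, conj_pow, trace_conj_core]
  have hM : ⟪a⟫ ^ 7 = 1 := by rw [← Units.val_pow_eq_pow_val, ← Subgroup.coe_pow, ha7]; rfl
  obtain ⟨hquad, hadj⟩ := Spec.trace_of_seven
    (by exact_mod_cast natCast_ne_zero_of_ne p α hF hC hSL hp ι hG Nat.prime_two hp) (hC.det_mat a)
    (hC.not_scalar htriv a ha1) hM
    (by
      have := step 1
      rwa [mul_one, pow_one, pow_two a, Subgroup.coe_mul, Units.val_mul] at this)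
    (by
      have := (step 2).trans (step 1)
      rwa [pow_one, pow_mul, pow_two (a ^ 2), pow_two a, Subgroup.coe_mul, Subgroup.coe_mul, Units.val_mul,
        Units.val_mul] at this)
  have h7' : (7 : F) ≠ 0 := by exact_mod_cast natCast_ne_zero_of_ne p α hF hC hSL hp ι hG (r := 7) (by norm_num) h7
  have h6 : a ^ 6 = a⁻¹ := eq_inv_of_mul_eq_one_left (by rw [← pow_succ, ha7])
  have hdist : ⟪a ^ 6⟫.trace ≠ ⟪a⟫.trace := fun e1 => by
    rw [h6, hC.inv_trace, hadj] at e1
    exact h7' (by linear_combination 4 * hquad + (2 * ⟪a⟫.trace + 1) * e1)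
  -- automorphisms
  have hgen : Subgroup.closure ({a, b} : Set P) = ⊤ := by
    have hma : a ∈ Subgroup.closure ({a, b} : Set P) := Subgroup.subset_closure (Or.inl rfl)
    have hmb : b ∈ Subgroup.closure ({a, b} : Set P) := Subgroup.subset_closure (Or.inr rfl)
    refine Small.eq_top_of_card (fun e1 => ha1 ?_) ?_
    · rwa [e1, Subgroup.mem_bot] at hma
    · rw [hcard]
      have d7 := Subgroup.orderOf_dvd_natCard _ hma
      have d3 := Subgroup.orderOf_dvd_natCard _ (mul_mem hma hmb)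
      have d4 := Subgroup.orderOf_dvd_natCard _ (mul_mem (mul_mem (mul_mem hma hmb) (pow_mem hma 6)) hmb)
      rw [ha] at d7; rw [hab] at d3; rw [hc4] at d4
      have h84 : 7 * 3 * 4 ∣ Nat.card ↥(Subgroup.closure ({a, b} : Set P)) :=
        Nat.Coprime.mul_dvd_of_dvd_of_dvd (by norm_num) (Nat.Coprime.mul_dvd_of_dvd_of_dvd (by norm_num) d7 d3) d4
      omega
  have hin : ∀ ψ : P ≃* P, (∀ g, ⟪ψ g⟫.trace = ⟪g⟫.trace) → ∃ x : P, ∀ z, ψ z = x * z * x⁻¹ := by
    intro ψ hψ
    obtain ⟨w, hw⟩ := hclass (e (ψ a)) (by rw [← map_pow, ← map_pow, ha7, map_one, map_one])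
      fun e1 => ha1 (ψ.injective (e.injective (by rw [e1, map_one, map_one])))
    obtain ⟨x, rfl⟩ := e.surjective w
    rcases hw with hw | hw
    · refine Small.inner_of_rigid hgen (fun φ hφ => ?_) ψ (e.injective (by simpa using hw))
      have hb2 : b ^ 2 = 1 := hb ▸ pow_orderOf_eq_one b
      obtain ⟨i, hi⟩ := hrig (e (φ b)) (by rw [← map_pow, ← map_pow, hb2, map_one, map_one])
        (fun e1 => by
          have : b = 1 := φ.injective (e.injective (by rw [e1, map_one, map_one]))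
          rw [this, orderOf_one] at hb; omega)
        (by
          rw [← hφ, ← map_mul, ← map_mul, ← map_pow, ← map_pow, hab3, map_one, map_one])
        (by
          rw [← hφ, ← map_pow, ← map_pow, ← map_mul, ← map_mul, ← map_mul, ← map_mul, ← map_mul, ← map_mul,
            ← map_pow, ← map_pow, hc44, map_one, map_one])
      exact ⟨i, e.injective (by simpa using hi)⟩
    · exfalso
      have hxa : x * ψ a * x⁻¹ = a ^ 6 := e.injective (by simpa using hw)
      exact hdist (by rw [← hxa, trace_conj_core, hψ])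
  obtain ⟨eH⟩ := hC.pro_equiv_of_inner htriv hin
  -- the congruence
  refine ⟨?_, ZMod 7, inferInstance, inferInstance, ZMod.card 7, ⟨eH.symm.trans e7⟩⟩
  have hfr := trace_frob p α hF hC hSL hp ι hG ha7
  have e36 : ⟪a ^ 3⟫.trace = ⟪a ^ 6⟫.trace := (step 3).symm
  have e56 : ⟪a ^ 5⟫.trace = ⟪a ^ 6⟫.trace := by
    rw [← step 5, ← step (2 * 5), pow_eq_pow_mod _ ha7]
  rw [Nat.pow_mod]
  rcases (show p ^ α % 7 = 0 ∨ p ^ α % 7 = 1 ∨ p ^ α % 7 = 2 ∨ p ^ α % 7 = 3 ∨ p ^ α % 7 = 4 ∨ p ^ α % 7 = 5 ∨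
      p ^ α % 7 = 6 by omega) with h0 | h1 | h2 | h3 | h4 | h5 | h6'
  · exfalso
    rw [h0, pow_zero] at hfr
    have h3 : (3 : F) = ⟪a⟫.trace := by rw [← hfr]; simp
    rw [← h3] at hquad
    exact h7' ((mul_eq_zero.1 (show (2 : F) * 7 = 0 by linear_combination hquad)).resolve_left
      (by exact_mod_cast natCast_ne_zero_of_ne p α hF hC hSL hp ι hG Nat.prime_two hp))
  · rw [h1]
  · rw [h2]
  · exfalso; rw [h3, e36] at hfr; exact hdist hfr
  · rw [h4]
  · exfalso; rw [h5, e56] at hfr; exact hdist hfr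
  · exfalso; rw [h6'] at hfr; exact hdist hfr

theorem shape_168 (h : Nat.card (Pro P) = 168) : ShapeSeven p α (Pro Ht) ∨ ShapeConic p α (Pro Ht) := by
  by_cases h7 : p = 7
  · subst h7
    refine Or.inr ?_
    obtain ⟨e⟩ := pro_map_fieldHom ι P
    haveI := hC.simple
    haveI : IsSimpleGroup (Pro (P.map (Matrix.GeneralLinearGroup.map (n := Fin 3) ι))) :=
      MulEquiv.isSimpleGroup e.symm
    haveI : CharP L 7 := charP_of_injective_ringHom ι.injective 7
    have hcG : Nat.card (Pro (P.map (Matrix.GeneralLinearGroup.map (n := Fin 3) ι))) = 168 := by rw [card_pro_map, h]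
    obtain ⟨u, hu, hU, hN⟩ := hG.uni_data_168 hcG
    exact shape_conic 7 α hF hC hSL hp ι hG (q := 7) hu (by norm_num) (by rw [hcG]) hU (by rw [hN])
  · exact Or.inl (shape_168_seven p α hF hC hSL hp ι hG h h7)

end shapes

end CfsgLib.Geo.D3
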