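/-
A normal alternating group of degree six or seven whose overgroup acts with determinant one on a Sylow
three-subgroup: index at most two.
-/
import Mathlib

set_option autoImplicit false

namespace CfsgLib.Geo.D3.Big

open Equiv

variable {X : Type*} [Group X]

/-- The elements of the span of two commuting elements of order three. -/
def InE (a b x : X) : Prop := ∃ i j : ℕ, x = a ^ i * b ^ j

/-- A normal subgroup with a marked Sylow three-subgroup. -/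
structure Frame (A : Subgroup X) (a b t : X) : Prop where
  normal : A.Normal
  a_mem : a ∈ A
  b_mem : b ∈ A
  t_mem : t ∈ A
  a_cube : a ^ 3 = 1
  b_cube : b ^ 3 = 1
  comm : Commute a b
  uniq : ∀ i j : ℕ, a ^ i * b ^ j = 1 → i % 3 = 0 ∧ j % 3 = 0
  t_a : t * a * t⁻¹ = b
  t_b : t * b * t⁻¹ = a⁻¹
  pure : ∀ y ∈ A, ∀ i j : ℕ,
    y * a * y⁻¹ = a ^ i * b ^ j ∨ y * b * y⁻¹ = a ^ i * b ^ j → i % 3 = 0 ∨ j % 3 = 0
  sylow : ∀ h : X, ∃ y ∈ A, InE a b (y * h * a * (y * h)⁻¹) ∧ InE a b (y * h * b * (y * h)⁻¹)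
  det : ∀ (h : X) (x y u v : ℕ), h * a * h⁻¹ = a ^ x * b ^ y → h * b * h⁻¹ = a ^ u * b ^ v →
    (x * v + 2 * (y * u)) % 3 = 1
  cent : ∀ h : X, h * a * h⁻¹ = a → h * b * h⁻¹ = b → InE a b h

namespace Frame

variable {A : Subgroup X} {a b t : X} (P : Frame A a b t)
include P

lemma mem_of_inE {x : X} (h : InE a b x) : x ∈ A := by
  obtain ⟨i, j, rfl⟩ := h
  exact mul_mem (pow_mem P.a_mem i) (pow_mem P.b_mem j)

lemma pow_mod (i j : ℕ) : a ^ i * b ^ j = a ^ (i % 3) * b ^ (j % 3) := by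
  rw [← pow_eq_pow_mod i P.a_cube, ← pow_eq_pow_mod j P.b_cube]

lemma exp_eq {i j k l : ℕ} (h : a ^ i * b ^ j = a ^ k * b ^ l) : i % 3 = k % 3 ∧ j % 3 = l % 3 := by
  have ha : (a ^ k) * a ^ (2 * k) = 1 := by
    rw [← pow_add, show k + 2 * k = 3 * k by ring, pow_mul, P.a_cube, one_pow]
  have hb : (b ^ l) * b ^ (2 * l) = 1 := by
    rw [← pow_add, show l + 2 * l = 3 * l by ring, pow_mul, P.b_cube, one_pow]
  have h1 : a ^ (i + 2 * k) * b ^ (j + 2 * l) = 1 := by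
    calc a ^ (i + 2 * k) * b ^ (j + 2 * l) = a ^ (2 * k) * (a ^ i * b ^ j) * b ^ (2 * l) := by
          rw [add_comm i, pow_add, pow_add]; group
      _ = a ^ (2 * k) * a ^ k * (b ^ l * b ^ (2 * l)) := by rw [h]; group
      _ = 1 := by rw [hb, mul_one, ← (Commute.pow_pow_self a k (2 * k)).eq, ha]
  obtain ⟨e1, e2⟩ := P.uniq _ _ h1
  omega

lemma image {g : X} {x y u v : ℕ} (h1 : g * a * g⁻¹ = a ^ x * b ^ y) (h2 : g * b * g⁻¹ = a ^ u * b ^ v)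
    (i j : ℕ) : g * (a ^ i * b ^ j) * g⁻¹ = a ^ (x * i + u * j) * b ^ (y * i + v * j) := by
  have e1 : g * a ^ i * g⁻¹ = a ^ (x * i) * b ^ (y * i) := by
    rw [← conj_pow, h1, (P.comm.pow_pow x y).mul_pow, ← pow_mul, ← pow_mul]
  have e2 : g * b ^ j * g⁻¹ = a ^ (u * j) * b ^ (v * j) := by
    rw [← conj_pow, h2, (P.comm.pow_pow u v).mul_pow, ← pow_mul, ← pow_mul]
  calc g * (a ^ i * b ^ j) * g⁻¹ = g * a ^ i * g⁻¹ * (g * b ^ j * g⁻¹) := by group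
    _ = a ^ (x * i) * (b ^ (y * i) * a ^ (u * j)) * b ^ (v * j) := by rw [e1, e2]; group
    _ = a ^ (x * i + u * j) * b ^ (y * i + v * j) := by
      rw [(P.comm.symm.pow_pow (y * i) (u * j)).eq, pow_add, pow_add]; group

/-- Composition with `t` rotates. -/
lemma rot {g : X} {x y u v : ℕ} (h1 : g * a * g⁻¹ = a ^ x * b ^ y) (h2 : g * b * g⁻¹ = a ^ u * b ^ v) :
    t * g * a * (t * g)⁻¹ = a ^ ((2 * y) % 3) * b ^ (x % 3) ∧
      t * g * b * (t * g)⁻¹ = a ^ ((2 * v) % 3) * b ^ (u % 3) := by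
  have e1 : t * a * t⁻¹ = a ^ 0 * b ^ 1 := by rw [pow_zero, one_mul, pow_one, P.t_a]
  have e2 : t * b * t⁻¹ = a ^ 2 * b ^ 0 := by
    rw [pow_zero, mul_one, P.t_b]
    exact inv_eq_of_mul_eq_one_right (by rw [← pow_succ', P.a_cube])
  constructor
  · rw [show t * g * a * (t * g)⁻¹ = t * (g * a * g⁻¹) * t⁻¹ by group, h1, P.image e1 e2, P.pow_mod]
    congr 2 <;> congr 1 <;> omega
  · rw [show t * g * b * (t * g)⁻¹ = t * (g * b * g⁻¹) * t⁻¹ by group, h2, P.image e1 e2, P.pow_mod]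
    congr 2 <;> congr 1 <;> omega

/-- The shape of the action of a normalising element. -/
lemma action {g : X} (ha : InE a b (g * a * g⁻¹)) (hb : InE a b (g * b * g⁻¹)) :
    ∃ x y u v : ℕ, x < 3 ∧ y < 3 ∧ g * a * g⁻¹ = a ^ x * b ^ y ∧ g * b * g⁻¹ = a ^ u * b ^ v ∧
      (x * v + 2 * (y * u)) % 3 = 1 ∧
      ((u % 3 = (2 * y) % 3 ∧ v % 3 = x % 3) ∨ (u % 3 = y % 3 ∧ v % 3 = (2 * x) % 3)) := by
  obtain ⟨x₀, y₀, h1⟩ := ha
  obtain ⟨u, v, h2⟩ := hb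
  rw [P.pow_mod] at h1
  obtain ⟨x, hx, hx'⟩ : ∃ x, x < 3 ∧ x₀ % 3 = x := ⟨_, Nat.mod_lt _ (by norm_num), rfl⟩
  obtain ⟨y, hy, hy'⟩ : ∃ y, y < 3 ∧ y₀ % 3 = y := ⟨_, Nat.mod_lt _ (by norm_num), rfl⟩
  rw [hx', hy'] at h1
  have hd := P.det g x y u v h1 h2
  obtain ⟨T, hT⟩ : ∃ T, g * t * g⁻¹ = T := ⟨_, rfl⟩
  have hTA : T ∈ A := hT ▸ P.normal.conj_mem t P.t_mem g
  have conjT : ∀ z : X, T * (g * z * g⁻¹) * T⁻¹ = g * (t * z * t⁻¹) * g⁻¹ := fun z => by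
    rw [← hT]; group
  have back : ∀ i j : ℕ, g * (a ^ i * b ^ j) * g⁻¹ = a ^ (x * i + u * j) * b ^ (y * i + v * j) :=
    P.image h1 h2
  have ia : g * (a ^ v * b ^ (2 * y)) * g⁻¹ = a := by
    rw [back, P.pow_mod, show y * v + v * (2 * y) = 3 * (y * v) by ring,
      show x * v + u * (2 * y) = x * v + 2 * (y * u) by ring, hd, Nat.mul_mod_right, pow_one, pow_zero, mul_one]
  have ib : g * (a ^ (2 * u) * b ^ x) * g⁻¹ = b := by
    rw [back, P.pow_mod, show x * (2 * u) + u * x = 3 * (x * u) by ring,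
      show y * (2 * u) + v * x = x * v + 2 * (y * u) by ring, hd, Nat.mul_mod_right, pow_one, pow_zero, one_mul]
  -- the conjugate of `t` normalises
  have e1 : t * a * t⁻¹ = a ^ 0 * b ^ 1 := by rw [pow_zero, one_mul, pow_one, P.t_a]
  have e2 : t * b * t⁻¹ = a ^ 2 * b ^ 0 := by
    rw [pow_zero, mul_one, P.t_b]
    exact inv_eq_of_mul_eq_one_right (by rw [← pow_succ', P.a_cube])
  obtain ⟨p, q, hTa⟩ : InE a b (T * a * T⁻¹) :=
    ⟨_, _, (congrArg (fun z => T * z * T⁻¹) ia.symm).trans ((conjT _).trans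
      ((congrArg (fun z => g * z * g⁻¹) (P.image e1 e2 _ _)).trans (back _ _)))⟩
  obtain ⟨r, s, hTb⟩ : InE a b (T * b * T⁻¹) :=
    ⟨_, _, (congrArg (fun z => T * z * T⁻¹) ib.symm).trans ((conjT _).trans
      ((congrArg (fun z => g * z * g⁻¹) (P.image e1 e2 _ _)).trans (back _ _)))⟩
  have hTd := P.det T p q r s hTa hTb
  have p1 := P.pure T hTA p q (Or.inl hTa)
  have p2 := P.pure T hTA r s (Or.inr hTb)
  -- the image of `a` goes to the image of `b`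
  have hab : T * (a ^ x * b ^ y) * T⁻¹ = a ^ u * b ^ v := by
    rw [← h1, conjT, P.t_a, h2]
  rw [P.image hTa hTb] at hab
  obtain ⟨hu, hv⟩ := P.exp_eq hab
  refine ⟨x, y, u, v, hx, hy, h1, h2, hd, ?_⟩
  have key : ∀ x y p q r s : Fin 3,
      ((x : ℕ) * (q * x + s * y) + 2 * (y * (p * x + r * y))) % 3 = 1 →
      ((p : ℕ) * s + 2 * (q * r)) % 3 = 1 → ((p : ℕ) = 0 ∨ (q : ℕ) = 0) → ((r : ℕ) = 0 ∨ (s : ℕ) = 0) →
      (((p : ℕ) * x + r * y) % 3 = (2 * y) % 3 ∧ ((q : ℕ) * x + s * y) % 3 = (x : ℕ) % 3) ∨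
      (((p : ℕ) * x + r * y) % 3 = (y : ℕ) % 3 ∧ ((q : ℕ) * x + s * y) % 3 = (2 * x) % 3) := by
    decide +kernel
  have hm : ∀ n : ℕ, n % 3 ≡ n [MOD 3] := fun n => Nat.mod_modEq n 3
  have eu : (p % 3 * x + r % 3 * y) % 3 = u % 3 := by rw [← hu]; exact ((hm p).mul_right x).add ((hm r).mul_right y)
  have ev : (q % 3 * x + s % 3 * y) % 3 = v % 3 := by rw [← hv]; exact ((hm q).mul_right x).add ((hm s).mul_right y)
  have k := key ⟨x, hx⟩ ⟨y, hy⟩ ⟨p % 3, Nat.mod_lt _ (by norm_num)⟩ ⟨q % 3, Nat.mod_lt _ (by norm_num)⟩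
    ⟨r % 3, Nat.mod_lt _ (by norm_num)⟩ ⟨s % 3, Nat.mod_lt _ (by norm_num)⟩ ?_ ?_ p1 p2
  · simp only [eu, ev] at k
    exact k
  · refine Eq.trans ?_ hd
    exact ((Nat.ModEq.refl x).mul ev).add ((Nat.ModEq.refl 2).mul ((Nat.ModEq.refl y).mul eu))
  · refine Eq.trans ?_ hTd
    exact ((hm p).mul (hm s)).add ((Nat.ModEq.refl 2).mul ((hm q).mul (hm r)))

/-- Either inside, or normalised to the reflection. -/
lemma classify (h : X) : h ∈ A ∨
    ∃ y ∈ A, y * h * a * (y * h)⁻¹ = a * b ∧ y * h * b * (y * h)⁻¹ = a * b ^ 2 := by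
  obtain ⟨y₀, hy₀, ha, hb⟩ := P.sylow h
  obtain ⟨x, y, u, v, hx, hy, h1, h2, hd, hshape⟩ := P.action ha hb
  obtain ⟨g, hg⟩ : ∃ g, y₀ * h = g := ⟨_, rfl⟩
  rw [hg] at h1 h2
  have hd' : (x * (v % 3) + 2 * (y * (u % 3))) % 3 = 1 :=
    Eq.trans (((Nat.ModEq.refl x).mul (Nat.mod_modEq v 3)).add
      ((Nat.ModEq.refl 2).mul ((Nat.ModEq.refl y).mul (Nat.mod_modEq u 3)))) hd
  clear hd
  have inA : ∀ (k : X), k ∈ A → k * g * a * (k * g)⁻¹ = a ^ 1 * b ^ 0 → k * g * b * (k * g)⁻¹ = a ^ 0 * b ^ 1 →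
      h ∈ A := by
    intro k hk e1 e2
    rw [pow_one, pow_zero, mul_one] at e1
    rw [pow_one, pow_zero, one_mul] at e2
    have hm := P.mem_of_inE (P.cent _ e1 e2)
    rw [← hg, ← mul_assoc] at hm
    exact (Subgroup.mul_mem_cancel_left A (mul_mem hk hy₀)).1 hm
  have good : ∀ (k : X), k ∈ A → k * g * a * (k * g)⁻¹ = a ^ 1 * b ^ 1 → k * g * b * (k * g)⁻¹ = a ^ 1 * b ^ 2 →
      ∃ y ∈ A, y * h * a * (y * h)⁻¹ = a * b ∧ y * h * b * (y * h)⁻¹ = a * b ^ 2 := by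
    intro k hk e1 e2
    refine ⟨k * y₀, mul_mem hk hy₀, ?_, ?_⟩
    · rw [mul_assoc k y₀ h, hg, e1, pow_one, pow_one]
    · rw [mul_assoc k y₀ h, hg, e2, pow_one]
  rw [P.pow_mod u v] at h2
  have s0 : (1 : X) * g * a * (1 * g)⁻¹ = a ^ x * b ^ y ∧
      (1 : X) * g * b * (1 * g)⁻¹ = a ^ (u % 3) * b ^ (v % 3) := by simp only [one_mul]; exact ⟨h1, h2⟩
  have s1 := P.rot h1 h2
  have s2 := P.rot s1.1 s1.2
  have s3 := P.rot s2.1 s2.2
  rw [← mul_assoc t t g] at s2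
  rw [← mul_assoc t t g, ← mul_assoc t (t * t) g] at s3
  have ht2 : t * t ∈ A := mul_mem P.t_mem P.t_mem
  have ht3 : t * (t * t) ∈ A := mul_mem P.t_mem ht2
  have hu3 : u % 3 < 3 := Nat.mod_lt _ (by norm_num)
  have hv3 : v % 3 < 3 := Nat.mod_lt _ (by norm_num)
  generalize u % 3 = u' at *
  generalize v % 3 = v' at *
  have key : ∀ x y u v : Fin 3, ((x : ℕ) * v + 2 * (y * u)) % 3 = 1 →
      ((u : ℕ) = (2 * y) % 3 ∧ (v : ℕ) = x) ∨ ((u : ℕ) = y ∧ (v : ℕ) = (2 * x) % 3) →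
      (![x, y, u, v] : Fin 4 → Fin 3) ∈ ([![1, 0, 0, 1], ![0, 2, 1, 0], ![2, 0, 0, 2], ![0, 1, 2, 0],
        ![1, 1, 1, 2], ![1, 2, 2, 2], ![2, 2, 2, 1], ![2, 1, 1, 1]] : List (Fin 4 → Fin 3)) := by
    decide +kernel
  have hk := key ⟨x, hx⟩ ⟨y, hy⟩ ⟨u', hu3⟩ ⟨v', hv3⟩ hd' (by
    rw [Nat.mod_eq_of_lt hx, Nat.mod_eq_of_lt hy] at hshape
    exact hshape)
  have val : ∀ {c : Fin 4 → Fin 3}, (![⟨x, hx⟩, ⟨y, hy⟩, ⟨u', hu3⟩, ⟨v', hv3⟩] : Fin 4 → Fin 3) = c →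
      x = (c 0 : ℕ) ∧ y = (c 1 : ℕ) ∧ u' = (c 2 : ℕ) ∧ v' = (c 3 : ℕ) := fun e => by subst e; simp
  simp only [List.mem_cons, List.not_mem_nil, or_false] at hk
  rcases hk with e | e | e | e | e | e | e | e <;> obtain ⟨rfl, rfl, rfl, rfl⟩ := val e
  · exact Or.inl (inA 1 A.one_mem (by simpa using s0.1) (by simpa using s0.2))
  · exact Or.inl (inA t P.t_mem (by simpa using s1.1) (by simpa using s1.2))
  · exact Or.inl (inA _ ht2 (by simpa using s2.1) (by simpa using s2.2))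
  · exact Or.inl (inA _ ht3 (by simpa using s3.1) (by simpa using s3.2))
  · exact Or.inr (good 1 A.one_mem (by simpa using s0.1) (by simpa using s0.2))
  · exact Or.inr (good t P.t_mem (by simpa using s1.1) (by simpa using s1.2))
  · exact Or.inr (good _ ht2 (by simpa using s2.1) (by simpa using s2.2))
  · exact Or.inr (good _ ht3 (by simpa using s3.1) (by simpa using s3.2))

/-- Everything, or index two with a normalised outer element. -/
theorem top_or_two : A = ⊤ ∨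
    (A.index = 2 ∧ ∃ g : X, g * a * g⁻¹ = a * b ∧ g * b * g⁻¹ = a * b ^ 2) := by
  by_cases hall : ∀ h, h ∈ A
  · exact Or.inl ((Subgroup.eq_top_iff' A).2 hall)
  push Not at hall
  obtain ⟨h₀, hh₀⟩ := hall
  obtain ⟨y₀, hy₀, e1, e2⟩ := (P.classify h₀).resolve_left hh₀
  refine Or.inr ⟨?_, y₀ * h₀, e1, e2⟩
  rw [Subgroup.index_eq_two_iff]
  refine ⟨h₀⁻¹, fun h => ?_⟩
  rcases P.classify h with hh | ⟨y, hy, f1, f2⟩
  · refine Or.inr ⟨hh, fun hc => hh₀ ?_⟩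
    exact A.inv_mem_iff.1 ((Subgroup.mul_mem_cancel_left A hh).1 hc)
  refine Or.inl ⟨?_, fun hh => hh₀ ?_⟩
  · obtain ⟨g, hg⟩ : ∃ g, (y₀ * h₀)⁻¹ * (y * h) = g := ⟨_, rfl⟩
    have gab : g * (a * b) * g⁻¹ = g * a * g⁻¹ * (g * b * g⁻¹) := by group
    have ga : g * a * g⁻¹ = a := by
      rw [← hg, show (y₀ * h₀)⁻¹ * (y * h) * a * ((y₀ * h₀)⁻¹ * (y * h))⁻¹ =
        (y₀ * h₀)⁻¹ * (y * h * a * (y * h)⁻¹) * (y₀ * h₀) by group, f1, ← e1]
      group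
    have gb : g * b * g⁻¹ = b := by
      rw [← hg, show (y₀ * h₀)⁻¹ * (y * h) * b * ((y₀ * h₀)⁻¹ * (y * h))⁻¹ =
        (y₀ * h₀)⁻¹ * (y * h * b * (y * h)⁻¹) * (y₀ * h₀) by group, f2, ← e2]
      group
    have hm := P.mem_of_inE (P.cent g ga gb)
    rw [← hg] at hm
    have h3 : h₀⁻¹ * (y₀⁻¹ * y) * h ∈ A := by
      convert hm using 1
      group
    have h4 := P.normal.conj_mem _ (mul_mem (A.inv_mem hy₀) hy) h₀⁻¹
    rw [inv_inv] at h4
    have h5 : h₀⁻¹ * h ∈ A := by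
      have h6 := mul_mem (A.inv_mem h4) h3
      rwa [show (h₀⁻¹ * (y₀⁻¹ * y) * h₀)⁻¹ * (h₀⁻¹ * (y₀⁻¹ * y) * h) = h₀⁻¹ * h by group] at h6
    exact (P.normal.mem_comm h5)
  · -- an element of the normalised coset inside would put the reflection inside
    exfalso
    have hm : y * h ∈ A := mul_mem hy hh
    have hp := P.pure _ hm 1 1 (Or.inl (by rw [f1, pow_one, pow_one]))
    omega

/-- The reflection can be chosen to invert `t`. -/
lemma refine_t {g : X} (e1 : g * a * g⁻¹ = a * b) (e2 : g * b * g⁻¹ = a * b ^ 2)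
    (hfix : ∀ i j : ℕ, ∃ k l : ℕ, a ^ k * b ^ l * (a ^ i * b ^ j * t⁻¹) * (a ^ k * b ^ l)⁻¹ = t⁻¹) :
    ∃ g : X, g * a * g⁻¹ = a * b ∧ g * b * g⁻¹ = a * b ^ 2 ∧ g * t * g⁻¹ = t⁻¹ := by
  obtain ⟨T, hT⟩ : ∃ T, g * t * g⁻¹ = T := ⟨_, rfl⟩
  have conjT : ∀ z : X, T * (g * z * g⁻¹) * T⁻¹ = g * (t * z * t⁻¹) * g⁻¹ := fun z => by
    rw [← hT]; group
  have tq : t * a⁻¹ * t⁻¹ = b⁻¹ := by rw [← P.t_a]; group
  have ia : g * (a⁻¹ * b⁻¹) * g⁻¹ = a := by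
    calc g * (a⁻¹ * b⁻¹) * g⁻¹ = (g * a * g⁻¹)⁻¹ * (g * b * g⁻¹)⁻¹ := by group
      _ = (a * b)⁻¹ * (a * b ^ 2)⁻¹ := by rw [e1, e2]
      _ = (a ^ 2 * b ^ 3)⁻¹ := by
          rw [← _root_.mul_inv_rev, show a * b ^ 2 * (a * b) = a * (b ^ 2 * a) * b by group,
            (P.comm.symm.pow_left 2).eq, show a * (a * b ^ 2) * b = a ^ 2 * b ^ 3 by
              rw [pow_succ b 2, pow_two a]; group]
      _ = a := by
          rw [P.b_cube, mul_one]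
          exact inv_eq_of_mul_eq_one_right (by rw [← pow_succ, P.a_cube])
  have ib : g * (a⁻¹ * b) * g⁻¹ = b := by
    calc g * (a⁻¹ * b) * g⁻¹ = (g * a * g⁻¹)⁻¹ * (g * b * g⁻¹) := by group
      _ = (a * b)⁻¹ * (a * b * b) := by rw [e1, e2, pow_two, mul_assoc a b b]
      _ = b := inv_mul_cancel_left _ _
  have hTa : T * a * T⁻¹ = b⁻¹ := by
    calc T * a * T⁻¹ = g * (t * (a⁻¹ * b⁻¹) * t⁻¹) * g⁻¹ := by rw [← conjT, ia]
      _ = g * (t * a⁻¹ * t⁻¹ * (t * b * t⁻¹)⁻¹) * g⁻¹ := by group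
      _ = g * (b⁻¹ * a) * g⁻¹ := by rw [tq, P.t_b, inv_inv]
      _ = (g * (a⁻¹ * b) * g⁻¹)⁻¹ := by group
      _ = b⁻¹ := by rw [ib]
  have hTb : T * b * T⁻¹ = a := by
    calc T * b * T⁻¹ = g * (t * (a⁻¹ * b) * t⁻¹) * g⁻¹ := by rw [← conjT, ib]
      _ = g * (t * a⁻¹ * t⁻¹ * (t * b * t⁻¹)) * g⁻¹ := by group
      _ = g * (b⁻¹ * a⁻¹) * g⁻¹ := by rw [tq, P.t_b]
      _ = g * (a⁻¹ * b⁻¹) * g⁻¹ := by rw [(P.comm.inv_inv).eq]
      _ = a := ia
  have c1 : T * t * a * (T * t)⁻¹ = a := by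
    rw [show T * t * a * (T * t)⁻¹ = T * (t * a * t⁻¹) * T⁻¹ by group, P.t_a, hTb]
  have c2 : T * t * b * (T * t)⁻¹ = b := by
    rw [show T * t * b * (T * t)⁻¹ = T * (t * b * t⁻¹) * T⁻¹ by group, P.t_b,
      show T * a⁻¹ * T⁻¹ = (T * a * T⁻¹)⁻¹ by group, hTa, inv_inv]
  obtain ⟨i, j, hij⟩ := P.cent _ c1 c2
  obtain ⟨k, l, hkl⟩ := hfix i j
  obtain ⟨e, he⟩ : ∃ e, a ^ k * b ^ l = e := ⟨_, rfl⟩
  have hea : Commute e a := he ▸ ((Commute.refl a).pow_left k).mul_left (P.comm.symm.pow_left l)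
  have heb : Commute e b := he ▸ (P.comm.pow_left k).mul_left ((Commute.refl b).pow_left l)
  refine ⟨e * g, ?_, ?_, ?_⟩
  · rw [show e * g * a * (e * g)⁻¹ = e * (g * a * g⁻¹) * e⁻¹ by group, e1,
      (hea.mul_right heb).eq, mul_inv_cancel_right]
  · rw [show e * g * b * (e * g)⁻¹ = e * (g * b * g⁻¹) * e⁻¹ by group, e2,
      (hea.mul_right (heb.pow_right 2)).eq, mul_inv_cancel_right]
  · rw [show e * g * t * (e * g)⁻¹ = e * (g * t * g⁻¹) * e⁻¹ by group, hT,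
      show T = a ^ i * b ^ j * t⁻¹ by rw [← hij, mul_inv_cancel_right], ← he, hkl]

end Frame

/-- A conjugate of a subgroup of order nine is a conjugate inside a normal subgroup with Sylow
three-subgroups of order nine. -/
lemma sylow_conj [Finite X] {A E : Subgroup X} (hn : A.Normal) (hle : E ≤ A) (hE : Nat.card E = 9)
    (hA : (Nat.card A).factorization 3 = 2) (h : X) :
    ∃ y ∈ A, ∀ x ∈ E, y * h * x * (y * h)⁻¹ ∈ E := by
  haveI : Fact (Nat.Prime 3) := ⟨Nat.prime_three⟩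
  set E' : Subgroup X := E.map (MulAut.conj h).toMonoidHom with hE'
  have hle' : E' ≤ A := by
    rintro _ ⟨x, hx, rfl⟩
    exact hn.conj_mem x (hle hx) h
  have c1 : Nat.card (E.subgroupOf A) = 3 ^ (Nat.card A).factorization 3 := by
    rw [hA, Nat.card_congr (Subgroup.subgroupOfEquivOfLe hle).toEquiv, hE]; norm_num
  have c2 : Nat.card (E'.subgroupOf A) = 3 ^ (Nat.card A).factorization 3 := by
    rw [hA, Nat.card_congr (Subgroup.subgroupOfEquivOfLe hle').toEquiv, hE',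
      ← Nat.card_congr (Subgroup.equivMapOfInjective E _ (MulAut.conj h).injective).toEquiv, hE]
    norm_num
  obtain ⟨y, hy⟩ := MulAction.exists_smul_eq A (Sylow.ofCard _ c2) (Sylow.ofCard _ c1)
  refine ⟨y, y.2, fun x hx => ?_⟩
  have hx' : (⟨h * x * h⁻¹, hle' ⟨x, hx, rfl⟩⟩ : A) ∈ (Sylow.ofCard _ c2 : Sylow 3 A).toSubgroup :=
    Subgroup.mem_subgroupOf.2 ⟨x, hx, rfl⟩
  have h2 := Subgroup.smul_mem_pointwise_smul _ (MulAut.conj y) _ hx'
  rw [← Sylow.pointwise_smul_def] at h2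
  have h3 : MulAut.conj y • (⟨h * x * h⁻¹, hle' ⟨x, hx, rfl⟩⟩ : A) ∈ E.subgroupOf A := by
    have := h2
    rw [show MulAut.conj y • Sylow.ofCard _ c2 = y • Sylow.ofCard _ c2 from rfl, hy] at this
    exact this
  rw [Subgroup.mem_subgroupOf] at h3
  convert h3 using 1
  simp [MulAut.smul_def, mul_assoc]

/-- Sylow conjugacy for the span of two commuting elements of order three. -/
lemma sylow_span [Finite X] {A : Subgroup X} (hn : A.Normal) {a b : X} (ha : a ∈ A) (hb : b ∈ A)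
    (ha3 : a ^ 3 = 1) (hb3 : b ^ 3 = 1) (hab : Commute a b)
    (huniq : ∀ i j : ℕ, a ^ i * b ^ j = 1 → i % 3 = 0 ∧ j % 3 = 0)
    (hA : (Nat.card A).factorization 3 = 2) (h : X) :
    ∃ y ∈ A, InE a b (y * h * a * (y * h)⁻¹) ∧ InE a b (y * h * b * (y * h)⁻¹) := by
  have hmul : ∀ i j k l : ℕ, a ^ i * b ^ j * (a ^ k * b ^ l) = a ^ (i + k) * b ^ (j + l) := fun i j k l =>
    calc a ^ i * b ^ j * (a ^ k * b ^ l) = a ^ i * (b ^ j * a ^ k) * b ^ l := by group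
      _ = a ^ (i + k) * b ^ (j + l) := by rw [(hab.symm.pow_pow j k).eq, pow_add, pow_add]; group
  have hred : ∀ i j : ℕ, a ^ i * b ^ j = a ^ (i % 3) * b ^ (j % 3) := fun i j => by
    rw [← pow_eq_pow_mod i ha3, ← pow_eq_pow_mod j hb3]
  let E : Subgroup X :=
    { carrier := {x | InE a b x}
      one_mem' := ⟨0, 0, by simp⟩
      mul_mem' := by
        rintro _ _ ⟨i, j, rfl⟩ ⟨k, l, rfl⟩
        exact ⟨i + k, j + l, hmul i j k l⟩
      inv_mem' := by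
        rintro _ ⟨i, j, rfl⟩
        refine ⟨2 * i, 2 * j, inv_eq_of_mul_eq_one_right ?_⟩
        rw [hmul, show i + 2 * i = 3 * i by ring, show j + 2 * j = 3 * j by ring, pow_mul, pow_mul, ha3, hb3,
          one_pow, one_pow, one_mul] }
  let f : Fin 3 × Fin 3 → E := fun k => ⟨a ^ (k.1 : ℕ) * b ^ (k.2 : ℕ), k.1, k.2, rfl⟩
  have hf : Function.Bijective f := by
    refine ⟨fun k l hkl => ?_, ?_⟩
    · have h1 : a ^ ((k.1 : ℕ) + 2 * l.1) * b ^ ((k.2 : ℕ) + 2 * l.2) = 1 := by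
        rw [← hmul, show a ^ (k.1 : ℕ) * b ^ (k.2 : ℕ) = a ^ (l.1 : ℕ) * b ^ (l.2 : ℕ) from congrArg Subtype.val hkl,
          hmul, show (l.1 : ℕ) + 2 * l.1 = 3 * l.1 by ring,
          show (l.2 : ℕ) + 2 * l.2 = 3 * l.2 by ring, pow_mul, pow_mul, ha3, hb3, one_pow, one_pow, one_mul]
      obtain ⟨e1, e2⟩ := huniq _ _ h1
      exact Prod.ext (Fin.ext (by omega)) (Fin.ext (by omega))
    · rintro ⟨_, i, j, rfl⟩
      exact ⟨(⟨i % 3, Nat.mod_lt _ (by norm_num)⟩, ⟨j % 3, Nat.mod_lt _ (by norm_num)⟩), Subtype.ext (hred i j).symm⟩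
  have hE : Nat.card E = 9 := by
    rw [← Nat.card_eq_of_bijective f hf, Nat.card_prod, Nat.card_fin]
  obtain ⟨y, hy, hyE⟩ := sylow_conj hn (E := E) (fun x hx => by
    obtain ⟨i, j, rfl⟩ := hx
    exact mul_mem (pow_mem ha i) (pow_mem hb j)) hE hA h
  exact ⟨y, hy, hyE a ⟨1, 0, by simp⟩, hyE b ⟨0, 1, by simp⟩⟩

section model

/-- The marked elements in degree six. -/
abbrev pa : Perm (Fin 6) := c[0, 1, 2]

/-- The second marked element. -/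
abbrev pb : Perm (Fin 6) := c[3, 4, 5]

/-- The element of order four of the normaliser. -/
abbrev pt : Perm (Fin 6) := c[0, 3] * c[1, 4, 2, 5]

/-- An involution inverting it. -/
abbrev pn : Perm (Fin 6) := c[1, 4] * c[2, 5]

/-- The marked elements in degree seven. -/
abbrev qa : Perm (Fin 7) := c[0, 1, 2]

/-- The second marked element. -/
abbrev qb : Perm (Fin 7) := c[3, 4, 5]

/-- The element of order four of the normaliser. -/
abbrev qt : Perm (Fin 7) := c[0, 3] * c[1, 4, 2, 5]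

/-- An involution centralising the first marked element. -/
abbrev qz : Perm (Fin 7) := c[3, 4] * c[5, 6]

lemma six_pure (y : Perm (Fin 6)) (i j : ℕ) (h : y * pa * y⁻¹ = pa ^ i * pb ^ j ∨ y * pb * y⁻¹ = pa ^ i * pb ^ j) :
    i % 3 = 0 ∨ j % 3 = 0 := by
  have key : ∀ k l : Fin 3, (pa ^ (k : ℕ) * pb ^ (l : ℕ)).support.card = 3 → k = 0 ∨ l = 0 := by decide +kernel
  have hs : (pa ^ i * pb ^ j).support.card = 3 := by
    rcases h with h | h <;> rw [← h, Perm.card_support_conj] <;> decide +kernel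
  rw [pow_eq_pow_mod i (show pa ^ 3 = 1 by decide +kernel),
    pow_eq_pow_mod j (show pb ^ 3 = 1 by decide +kernel)] at hs
  simpa [Fin.ext_iff] using key ⟨i % 3, Nat.mod_lt _ (by norm_num)⟩ ⟨j % 3, Nat.mod_lt _ (by norm_num)⟩ hs

lemma seven_pure (y : Perm (Fin 7)) (i j : ℕ) (h : y * qa * y⁻¹ = qa ^ i * qb ^ j ∨ y * qb * y⁻¹ = qa ^ i * qb ^ j) :
    i % 3 = 0 ∨ j % 3 = 0 := by
  have key : ∀ k l : Fin 3, (qa ^ (k : ℕ) * qb ^ (l : ℕ)).support.card = 3 → k = 0 ∨ l = 0 := by decide +kernel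
  have hs : (qa ^ i * qb ^ j).support.card = 3 := by
    rcases h with h | h <;> rw [← h, Perm.card_support_conj] <;> decide +kernel
  rw [pow_eq_pow_mod i (show qa ^ 3 = 1 by decide +kernel),
    pow_eq_pow_mod j (show qb ^ 3 = 1 by decide +kernel)] at hs
  simpa [Fin.ext_iff] using key ⟨i % 3, Nat.mod_lt _ (by norm_num)⟩ ⟨j % 3, Nat.mod_lt _ (by norm_num)⟩ hs

lemma six_uniq : ∀ k l : Fin 3, pa ^ (k : ℕ) * pb ^ (l : ℕ) = 1 → k = 0 ∧ l = 0 := by decide +kernel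

lemma seven_uniq : ∀ k l : Fin 3, qa ^ (k : ℕ) * qb ^ (l : ℕ) = 1 → k = 0 ∧ l = 0 := by decide +kernel

lemma six_fix : ∀ i j : Fin 3, ∃ k l : Fin 3,
    pa ^ (k : ℕ) * pb ^ (l : ℕ) * (pa ^ (i : ℕ) * pb ^ (j : ℕ) * pt⁻¹) * (pa ^ (k : ℕ) * pb ^ (l : ℕ))⁻¹ = pt⁻¹ := by
  decide +kernel

/-- The images of the involution under the reflection fuse the classes of order five. -/
lemma six_fuse : ∀ c : Perm (Fin 6), Perm.sign c = 1 → c * c = 1 → c * pt * c = pt⁻¹ →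
    (pa * pa * c) ^ 3 = 1 →
    (c[1, 2, 3] : Perm (Fin 6)) * (pa * pb * c) * (c[1, 2, 3])⁻¹ = (pa * pn) ^ 2 := by
  decide +kernel

/-- Two cycles of length three are centralised by no even involution of seven points. -/
lemma seven_cent (y : Perm (Fin 7)) (hs : Perm.sign y = 1) (h2 : y * y = 1) (hc : y * (qa * qb) = qa * qb * y) :
    y = 1 := by
  obtain ⟨C, hC⟩ : ∃ C : Perm (Fin 7), qa * qb = C := ⟨_, rfl⟩
  rw [hC] at hc
  have hy : ∀ i, y (C i) = C (y i) := fun i => congrArg (fun s : Perm (Fin 7) => s i) hc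
  have hfix : ∀ i, C i = i → i = 6 := by rw [← hC]; decide +kernel
  have h6 : y 6 = 6 := hfix _ (by
    rw [← hy, show C 6 = 6 by rw [← hC]; decide +kernel])
  let f : Fin 7 → Fin 7 → Fin 7 → Fin 7 := fun u v => ![u, C u, C (C u), v, C v, C (C v), 6]
  let S : Fin 3 → Perm (Fin 7) := ![swap 0 3 * swap 1 4 * swap 2 5, swap 0 4 * swap 1 5 * swap 2 3,
    swap 0 5 * swap 1 3 * swap 2 4]
  have hyf : ∀ i, y i = f (y 0) (y 3) i := by
    have v1 : C 0 = 1 ∧ C 1 = 2 ∧ C 3 = 4 ∧ C 4 = 5 := by rw [← hC]; decide +kernel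
    have a1 : y 1 = C (y 0) := by rw [← hy, v1.1]
    have a2 : y 2 = C (C (y 0)) := by rw [← a1, ← hy, v1.2.1]
    have a4 : y 4 = C (y 3) := by rw [← hy, v1.2.2.1]
    have a5 : y 5 = C (C (y 3)) := by rw [← a4, ← hy, v1.2.2.2]
    intro i
    fin_cases i
    · rfl
    · exact a1
    · exact a2
    · rfl
    · exact a4
    · exact a5
    · exact h6
  have key : ∀ u v : Fin 7, (∀ i, f u v (f u v i) = i) →
      (∀ i, f u v i = i) ∨ ∃ k, ∀ i, f u v i = S k i := by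
    simp only [f, S, ← hC]
    decide +kernel
  rcases key (y 0) (y 3) (fun i => by
    rw [← hyf, ← hyf]
    exact congrArg (fun s : Perm (Fin 7) => s i) h2) with h | ⟨k, h⟩
  · exact Perm.ext fun i => by rw [hyf, h]; rfl
  · exfalso
    rw [show y = S k from Perm.ext fun i => by rw [hyf, h]] at hs
    revert hs
    fin_cases k <;> simp only [S] <;> decide +kernel

end model

end CfsgLib.Geo.D3.Big
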