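/-
The shapes of groups of dimension three without transvections whose core is alternating of degree six or seven.
-/
import Cfsg.Agent.Geo.DimThree.Shapes
import Cfsg.Agent.Geo.DimThree.ShapeBigFrame
import Cfsg.Agent.Geo.DimThree.NoTv.Spectra

set_option autoImplicit false
set_option linter.style.haveILetI false
set_option linter.unusedSectionVars false
set_option linter.unusedVariables false

namespace CfsgLib.Geo.D3

open Matrix Cfsg Cfsg.Geo CfsgLib.Geo Spec
open scoped commutatorElement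

universe u

namespace Big

section group

variable {Γ : Type*} [Group Γ] {A B z : Γ}

/-- Moving a power past a power. -/
lemma swap_pow (hz : ∀ x, Commute z x) (h : A * B = z * (B * A)) (i j : ℕ) :
    A ^ i * B ^ j = z ^ (i * j) * (B ^ j * A ^ i) := by
  have h1 : ∀ j, A * B ^ j = z ^ j * (B ^ j * A) := by
    intro j
    have hs : SemiconjBy A B (z * B) := by rw [SemiconjBy, h, mul_assoc]
    have := (hs.pow_right j).eq
    rwa [(hz B).mul_pow, mul_assoc] at this
  induction i with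
  | zero => simp
  | succ i ih =>
    calc A ^ (i + 1) * B ^ j = A * (A ^ i * B ^ j) := by rw [pow_succ', mul_assoc]
      _ = z ^ (i * j) * (A * B ^ j) * A ^ i := by
        rw [ih, ← mul_assoc A, ← ((hz A).pow_left (i * j)).eq]; group
      _ = z ^ (i * j) * (z ^ j * (B ^ j * A)) * A ^ i := by rw [h1]
      _ = z ^ ((i + 1) * j) * (B ^ j * A ^ (i + 1)) := by
        rw [show (i + 1) * j = i * j + j by ring, pow_add, pow_succ' A i]; group

/-- Conjugation keeps the commutator: the determinant is one. -/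
lemma det_rule {h s s' : Γ} {x y u v : ℕ} (hz : ∀ x, Commute z x) (hs : ∀ x, Commute s x) (hs' : ∀ x, Commute s' x)
    (hAB : A * B = z * (B * A)) (hord : orderOf z = 3) (h1 : h * A * h⁻¹ = s * (A ^ x * B ^ y))
    (h2 : h * B * h⁻¹ = s' * (A ^ u * B ^ v)) : (x * v + 2 * (y * u)) % 3 = 1 := by
  set P := A ^ x * B ^ y with hP
  set Q := A ^ u * B ^ v with hQ
  have e1 : s * P * (s' * Q) = s * s' * (P * Q) := by
    calc s * P * (s' * Q) = s * (P * s') * Q := by group
      _ = _ := by rw [← (hs' P).eq]; group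
  have e2 : s' * Q * (s * P) = s * s' * (Q * P) := by
    calc s' * Q * (s * P) = s' * (Q * s) * P := by group
      _ = s' * s * (Q * P) := by rw [← (hs Q).eq]; group
      _ = _ := by rw [← (hs s').eq]
  have e : P * Q = z * (Q * P) := by
    apply mul_left_cancel (a := s * s')
    calc s * s' * (P * Q) = h * A * h⁻¹ * (h * B * h⁻¹) := by rw [h1, h2, e1]
      _ = h * z * (B * A) * h⁻¹ := by
        rw [show h * A * h⁻¹ * (h * B * h⁻¹) = h * (A * B) * h⁻¹ by group, hAB]; group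
      _ = z * (h * B * h⁻¹ * (h * A * h⁻¹)) := by rw [← (hz h).eq]; group
      _ = z * (s * s') * (Q * P) := by rw [h1, h2, e2]; group
      _ = s * s' * (z * (Q * P)) := by rw [(hz (s * s')).eq]; group
  have hsum : ∀ x y u v : ℕ, z ^ (u * y) * (A ^ x * B ^ y * (A ^ u * B ^ v)) = A ^ (x + u) * B ^ (y + v) := by
    intro x y u v
    calc z ^ (u * y) * (A ^ x * B ^ y * (A ^ u * B ^ v))
        = z ^ (u * y) * A ^ x * (B ^ y * A ^ u) * B ^ v := by group
      _ = A ^ x * (z ^ (u * y) * (B ^ y * A ^ u)) * B ^ v := by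
        rw [((hz (A ^ x)).pow_left (u * y)).eq]; group
      _ = A ^ (x + u) * B ^ (y + v) := by rw [← swap_pow hz hAB u y, pow_add, pow_add]; group
  have k1 := hsum x y u v
  have k2 := hsum u v x y
  rw [← hP, ← hQ, add_comm u x, add_comm v y, ← k1, e] at k2
  have k3 : z ^ (x * v) = z ^ (u * y + 1) := by
    rw [pow_succ]
    exact mul_right_cancel (b := Q * P) (k2.trans (mul_assoc _ _ _).symm)
  have k4 := pow_eq_pow_iff_modEq.1 k3
  rw [hord] at k4
  have k5 : x * v % 3 = (u * y + 1) % 3 := k4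
  rw [mul_comm u y] at k5
  generalize y * u = m at k5 ⊢
  generalize x * v = n at k5 ⊢
  omega

end group

variable {L : Type u} [Field L] {G H : Subgroup (GL (Fin 3) L)}

local notation "Mat" => Matrix (Fin 3) (Fin 3) L
local notation:max "⟪" g "⟫" => (((g : G) : GL (Fin 3) L) : Matrix (Fin 3) (Fin 3) L)

/-- The inclusion modulo scalars. -/
noncomputable def incl (hGH : G ≤ H) : Pro G →* Pro H :=
  QuotientGroup.map _ _ (Subgroup.inclusion hGH) (fun x hx => by simpa [Subgroup.mem_subgroupOf] using hx)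

lemma incl_toPro (hGH : G ≤ H) (g : G) : incl hGH (toPro G g) = toPro H ⟨g, hGH g.2⟩ := rfl

lemma incl_injective (hGH : G ≤ H) : Function.Injective (incl hGH) := by
  refine (injective_iff_map_eq_one _).2 fun x hx => ?_
  obtain ⟨g, rfl⟩ := toPro_surjective x
  rw [incl_toPro, toPro_eq_one] at hx
  exact toPro_eq_one.2 hx

lemma incl_normal (hGH : G ≤ H) (hn : ∀ h ∈ H, ∀ x ∈ G, h * x * h⁻¹ ∈ G) : (incl hGH).range.Normal := by
  refine ⟨?_⟩
  rintro _ ⟨x, rfl⟩ k
  obtain ⟨g, rfl⟩ := toPro_surjective x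
  obtain ⟨h, rfl⟩ := toPro_surjective k
  refine ⟨toPro G ⟨_, hn h h.2 g g.2⟩, ?_⟩
  rw [incl_toPro, incl_toPro, ← map_inv, ← map_mul, ← map_mul]
  rfl

/-- Equality modulo scalars. -/
lemma exists_scalar_of_eq {g g' : H} (e : toPro H g = toPro H g') :
    ∃ s ∈ scalars (Fin 3) L, (g : GL (Fin 3) L) = s * g' := by
  refine ⟨(g : GL (Fin 3) L) * (g' : GL (Fin 3) L)⁻¹, ?_, by group⟩
  have : toPro H (g * g'⁻¹) = 1 := by rw [map_mul, map_inv, e, mul_inv_cancel]
  exact toPro_eq_one.1 this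

/-- Lifts of a pair of commuting elements of order three: they do not commute and their common centraliser is
scalar. -/
theorem pair_facts (hG : NoTv G) (h3 : (3 : L) ≠ 0) (hreal : ∀ x : Pro G, x ^ 3 = 1 → Real' x) {α β : Pro G}
    (hα : α ^ 3 = 1) (hβ : β ^ 3 = 1) (hαβ : Commute α β)
    (huniq : ∀ i j : ℕ, α ^ i * β ^ j = 1 → i % 3 = 0 ∧ j % 3 = 0) :
    ∃ (A B : G) (c : L) (z : GL (Fin 3) L), toPro G A = α ∧ toPro G B = β ∧ A ^ 3 = 1 ∧ B ^ 3 = 1 ∧
      c ^ 2 + c + 1 = 0 ∧ (z : Mat) = c • (1 : Mat) ∧ orderOf z = 3 ∧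
      (A : GL (Fin 3) L) * B = z * (B * A) ∧
      ∀ h : GL (Fin 3) L, Commute h A → Commute h B → h ∈ scalars (Fin 3) L := by
  classical
  obtain ⟨A, rfl⟩ := toPro_surjective α
  obtain ⟨B, rfl⟩ := toPro_surjective β
  have hA : A ^ 3 = 1 := hG.pow_eq_one_of_real dvd_rfl hα (hreal _ hα)
  have hB : B ^ 3 = 1 := hG.pow_eq_one_of_real dvd_rfl hβ (hreal _ hβ)
  let m : Fin 3 × Fin 3 → G := fun k => A ^ (k.1 : ℕ) * B ^ (k.2 : ℕ)
  have htr : ∀ k l, k ≠ l → ⟪m k * (m l)⁻¹⟫.trace = 0 := by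
    intro k l hkl
    have hne : toPro G (m k * (m l)⁻¹) ≠ 1 := by
      intro e
      rw [map_mul, map_inv, mul_inv_eq_one] at e
      simp only [m, map_mul, map_pow] at e
      have h1 : toPro G A ^ ((k.1 : ℕ) + 2 * l.1) * toPro G B ^ ((k.2 : ℕ) + 2 * l.2) = 1 := by
        rw [pow_add, pow_add]
        calc toPro G A ^ (k.1 : ℕ) * toPro G A ^ (2 * (l.1 : ℕ)) *
              (toPro G B ^ (k.2 : ℕ) * toPro G B ^ (2 * (l.2 : ℕ)))
            = toPro G A ^ (k.1 : ℕ) * toPro G B ^ (k.2 : ℕ) *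
              (toPro G A ^ (2 * (l.1 : ℕ)) * toPro G B ^ (2 * (l.2 : ℕ))) :=
              (hαβ.pow_pow (2 * (l.1 : ℕ)) (k.2 : ℕ)).mul_mul_mul_comm _ _
          _ = toPro G A ^ (l.1 : ℕ) * toPro G B ^ (l.2 : ℕ) *
              (toPro G A ^ (2 * (l.1 : ℕ)) * toPro G B ^ (2 * (l.2 : ℕ))) := by rw [e]
          _ = 1 := by
            rw [(hαβ.symm.pow_pow (l.2 : ℕ) (2 * (l.1 : ℕ))).mul_mul_mul_comm, ← pow_add, ← pow_add,
              show (l.1 : ℕ) + 2 * l.1 = 3 * l.1 by ring, show (l.2 : ℕ) + 2 * l.2 = 3 * l.2 by ring,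
              pow_mul, pow_mul, hα, hβ, one_pow, one_pow, one_mul]
      obtain ⟨e1, e2⟩ := huniq _ _ h1
      exact hkl (Prod.ext (Fin.ext (by omega)) (Fin.ext (by omega)))
    have hcube : toPro G (m k * (m l)⁻¹) ^ 3 = 1 := by
      have hc : ∀ i j k l : ℕ, Commute (toPro G A ^ i * toPro G B ^ j) (toPro G A ^ k * toPro G B ^ l) :=
        fun i j k l => (((Commute.refl _).pow_pow i k).mul_right (hαβ.pow_pow i l)).mul_left
          ((hαβ.symm.pow_pow j k).mul_right ((Commute.refl _).pow_pow j l))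
      have h1 : ∀ i j : ℕ, (toPro G A ^ i * toPro G B ^ j) ^ 3 = 1 := fun i j => by
        rw [(hαβ.pow_pow i j).mul_pow, ← pow_mul, ← pow_mul, mul_comm i, mul_comm j, pow_mul, pow_mul, hα, hβ,
          one_pow, one_pow, one_mul]
      rw [map_mul, map_inv]
      simp only [m, map_mul, map_pow]
      rw [(hc _ _ _ _).inv_right.mul_pow, inv_pow, h1, h1, inv_one, one_mul]
    exact (hG.trace_three hne (hG.pow_eq_one_of_real dvd_rfl hcube (hreal _ hcube))).1
  have hli : LinearIndependent L fun k => ⟪m k⟫ := by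
    rw [Fintype.linearIndependent_iff]
    intro g hg l
    have h1 := congrArg (fun X : Mat => (X * ⟪(m l)⁻¹⟫).trace) hg
    simp only [Finset.sum_mul, Matrix.smul_mul, Matrix.trace_sum, Matrix.trace_smul, zero_mul, Matrix.trace_zero,
      ← Units.val_mul, ← Subgroup.coe_mul] at h1
    rw [Finset.sum_eq_single l (fun k _ hk => by rw [htr k l hk, smul_zero])
      (fun h => absurd (Finset.mem_univ l) h), mul_inv_cancel, Subgroup.coe_one, Units.val_one, Matrix.trace_one,
      smul_eq_mul, mul_eq_zero] at h1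
    exact h1.resolve_right (by simpa using h3)
  have hspan : Submodule.span L (Set.range fun k => ⟪m k⟫) = ⊤ :=
    hli.span_eq_top_of_card_eq_finrank (by simp [Module.finrank_matrix])
  have hcent : ∀ h : GL (Fin 3) L, Commute h A → Commute h B → h ∈ scalars (Fin 3) L := by
    intro h h1 h2
    have hm : ∀ k, Commute (h : Mat) ⟪m k⟫ := fun k => by
      have h4 : Commute h (m k : GL (Fin 3) L) := by
        simp only [m, Subgroup.coe_mul, Subgroup.coe_pow]
        exact (h1.pow_right _).mul_right (h2.pow_right _)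
      exact congrArg Units.val h4.eq
    have hall : ∀ X : Mat, Commute (h : Mat) X := by
      intro X
      have hX : X ∈ Submodule.span L (Set.range fun k => ⟪m k⟫) := hspan ▸ Submodule.mem_top
      induction hX using Submodule.span_induction with
      | mem x hx => obtain ⟨k, rfl⟩ := hx; exact hm k
      | zero => exact Commute.zero_right _
      | add x y _ _ hx hy => exact hx.add_right hy
      | smul a x _ hx => exact hx.smul_right a
    obtain ⟨c, hc⟩ := hG.absIrred.2 (h : Mat) fun s _ => (hall s).eq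
    have hc0 : c ≠ 0 := fun e => by
      rw [e, zero_smul] at hc
      exact h.isUnit.ne_zero hc
    exact (mem_scalars_iff _).2 ⟨Units.mk0 c hc0, hc⟩
  have hzP : toPro G ⁅A, B⁆ = 1 := by
    rw [map_commutatorElement, commutatorElement_eq_one_iff_mul_comm]
    exact hαβ.eq
  obtain ⟨c, hc3, hc⟩ := hG.scalar_form _ hzP
  have hAB : A * B = ⁅A, B⁆ * (B * A) := by rw [commutatorElement_def]; group
  have hc1 : c ≠ 1 := by
    intro e
    rw [e, one_smul] at hc
    have hcom : Commute (A : GL (Fin 3) L) (B : GL (Fin 3) L) := by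
      have := congrArg Subtype.val hAB
      rw [Subgroup.coe_mul, Subgroup.coe_mul, Subgroup.coe_mul,
        show ((⁅A, B⁆ : G) : GL (Fin 3) L) = 1 from Units.ext hc, one_mul] at this
      exact this
    have := huniq 1 0 (by rw [pow_one, pow_zero, mul_one]; exact toPro_eq_one.2 (hcent _ (Commute.refl _) hcom))
    omega
  refine ⟨A, B, c, ((⁅A, B⁆ : G) : GL (Fin 3) L), rfl, rfl, hA, hB, ?_, hc, orderOf_eq_prime ?_ fun e => hc1 ?_, ?_, hcent⟩
  · refine (mul_eq_zero.1 (show (c - 1) * _ = 0 from ?_)).resolve_left (sub_ne_zero.2 hc1)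
    linear_combination hc3
  · simpa using congrArg Subtype.val (hG.scalar_cube' _ hzP)
  · rw [e, Units.val_one] at hc
    have := congrFun (congrFun hc 0) 0
    simpa using this.symm
  · simpa only [Subgroup.coe_mul] using congrArg Subtype.val hAB

/-- The frame of an alternating core. -/
theorem frame [Finite L] (hG : NoTv G) (hGH : G ≤ H) (hn : ∀ h ∈ H, ∀ x ∈ G, h * x * h⁻¹ ∈ G) (h3 : (3 : L) ≠ 0)
    (hreal : ∀ x : Pro G, x ^ 3 = 1 → Real' x) {K : Type*} [Group K] (e : K ≃* Pro G) {a b t : K}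
    (ha : a ^ 3 = 1) (hb : b ^ 3 = 1) (hab : Commute a b)
    (huniq : ∀ i j : ℕ, a ^ i * b ^ j = 1 → i % 3 = 0 ∧ j % 3 = 0)
    (hta : t * a * t⁻¹ = b) (htb : t * b * t⁻¹ = a⁻¹)
    (hpure : ∀ (y : K) (i j : ℕ), y * a * y⁻¹ = a ^ i * b ^ j ∨ y * b * y⁻¹ = a ^ i * b ^ j → i % 3 = 0 ∨ j % 3 = 0)
    (hcard : (Nat.card K).factorization 3 = 2) :
    Frame (incl hGH).range (incl hGH (e a)) (incl hGH (e b)) (incl hGH (e t)) := by
  set φ : K →* Pro H := (incl hGH).comp e.toMonoidHom with hφ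
  have hφi : Function.Injective φ := (incl_injective hGH).comp e.injective
  have hrange : ∀ y : Pro H, y ∈ (incl hGH).range → ∃ k, φ k = y := by
    rintro _ ⟨x, rfl⟩
    exact ⟨e.symm x, by simp [hφ]⟩
  have hu : ∀ i j : ℕ, φ a ^ i * φ b ^ j = 1 → i % 3 = 0 ∧ j % 3 = 0 := fun i j h =>
    huniq i j (hφi (by rw [map_mul, map_pow, map_pow, h, map_one]))
  have hue : ∀ i j : ℕ, e a ^ i * e b ^ j = 1 → i % 3 = 0 ∧ j % 3 = 0 := fun i j h =>
    huniq i j (e.injective (by rw [map_mul, map_pow, map_pow, h, map_one]))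
  obtain ⟨A, B, c, z, hA, hB, hA3, hB3, hc, hz, hord, hAB, hcent⟩ := pair_facts hG h3 hreal
    (show e a ^ 3 = 1 by rw [← map_pow, ha, map_one]) (show e b ^ 3 = 1 by rw [← map_pow, hb, map_one])
    (hab.map e) hue
  have hc0 : c ≠ 0 := fun h => by rw [h] at hc; norm_num at hc
  have hzs : z ∈ scalars (Fin 3) L := (mem_scalars_iff _).2 ⟨Units.mk0 c hc0, hz⟩
  let A' : H := ⟨A, hGH A.2⟩
  let B' : H := ⟨B, hGH B.2⟩
  have hA' : toPro H A' = φ a := by
    show incl hGH (toPro G A) = _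
    rw [hA]; rfl
  have hB' : toPro H B' = φ b := by
    show incl hGH (toPro G B) = _
    rw [hB]; rfl
  refine
    { normal := incl_normal hGH hn
      a_mem := ⟨e a, rfl⟩
      b_mem := ⟨e b, rfl⟩
      t_mem := ⟨e t, rfl⟩
      a_cube := show φ a ^ 3 = 1 by rw [← map_pow, ha, map_one]
      b_cube := show φ b ^ 3 = 1 by rw [← map_pow, hb, map_one]
      comm := hab.map φ
      uniq := hu
      t_a := show φ t * φ a * (φ t)⁻¹ = φ b by rw [← map_inv, ← map_mul, ← map_mul, hta]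
      t_b := show φ t * φ b * (φ t)⁻¹ = (φ a)⁻¹ by rw [← map_inv, ← map_mul, ← map_mul, htb, map_inv]
      pure := ?_
      sylow := ?_
      det := ?_
      cent := ?_ }
  · intro y hy i j hyp
    obtain ⟨k, rfl⟩ := hrange y hy
    refine hpure k i j ?_
    change φ k * φ a * (φ k)⁻¹ = φ a ^ i * φ b ^ j ∨ φ k * φ b * (φ k)⁻¹ = φ a ^ i * φ b ^ j at hyp
    simp only [← map_inv, ← map_mul, ← map_pow] at hyp
    exact hyp.imp (fun h => hφi h) (fun h => hφi h)
  · intro h
    refine sylow_span (incl_normal hGH hn) ⟨e a, rfl⟩ ⟨e b, rfl⟩ (show φ a ^ 3 = 1 by rw [← map_pow, ha, map_one])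
      (show φ b ^ 3 = 1 by rw [← map_pow, hb, map_one]) (hab.map φ) hu ?_ h
    rw [Nat.card_congr (MonoidHom.ofInjective (incl_injective hGH)).toEquiv.symm, ← Nat.card_congr e.toEquiv]
    exact hcard
  · intro k x y u v e1 e2
    change k * φ a * k⁻¹ = φ a ^ x * φ b ^ y at e1
    change k * φ b * k⁻¹ = φ a ^ u * φ b ^ v at e2
    obtain ⟨h, rfl⟩ := toPro_surjective k
    rw [← hA', ← hB', ← map_inv, ← map_mul, ← map_mul, ← map_pow, ← map_pow, ← map_mul] at e1
    rw [← hA', ← hB', ← map_inv, ← map_mul, ← map_mul, ← map_pow, ← map_pow, ← map_mul] at e2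
    obtain ⟨s, hs, hs1⟩ := exists_scalar_of_eq e1
    obtain ⟨s', hs', hs2⟩ := exists_scalar_of_eq e2
    simp only [Subgroup.coe_mul, Subgroup.coe_inv, Subgroup.coe_pow] at hs1 hs2
    exact det_rule (scalar_comm hzs) (scalar_comm hs) (scalar_comm hs') hAB hord hs1 hs2
  · intro k e1 e2
    change k * φ a * k⁻¹ = φ a at e1
    change k * φ b * k⁻¹ = φ b at e2
    obtain ⟨h, rfl⟩ := toPro_surjective k
    rw [← hA', ← map_inv, ← map_mul, ← map_mul] at e1
    rw [← hB', ← map_inv, ← map_mul, ← map_mul] at e2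
    obtain ⟨s, hs, hs1⟩ := exists_scalar_of_eq e1
    obtain ⟨s', hs', hs2⟩ := exists_scalar_of_eq e2
    simp only [Subgroup.coe_mul, Subgroup.coe_inv] at hs1 hs2
    have pw : ∀ (M : G) (σ : GL (Fin 3) L), M ^ 3 = 1 → σ ∈ scalars (Fin 3) L →
        (h : GL (Fin 3) L) * M * (h : GL (Fin 3) L)⁻¹ = σ * (M : GL (Fin 3) L) →
        ∃ i : ℕ, σ = z ^ i := by
      intro M σ hM hσ he
      have hM' : (M : GL (Fin 3) L) ^ 3 = 1 := by simpa using congrArg Subtype.val hM
      have h1 : σ ^ 3 = 1 := by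
        have := congrArg (· ^ 3) he
        rw [conj_pow, hM', (scalar_comm hσ _).mul_pow, hM', mul_one, mul_one, mul_inv_cancel] at this
        exact this.symm
      obtain ⟨d, hd⟩ := (mem_scalars_iff σ).1 hσ
      have hd3 : (d : L) ^ 3 = 1 := by
        have := congrArg (fun g : GL (Fin 3) L => (g : Mat) 0 0) h1
        rw [Units.val_pow_eq_pow_val, hd, smul_pow, one_pow] at this
        simpa using this
      obtain ⟨i, -, hi⟩ := cube_roots hc hd3
      exact ⟨i, Units.ext (by rw [hd, hi, Units.val_pow_eq_pow_val, hz, smul_pow, one_pow])⟩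
    obtain ⟨i, hi⟩ := pw A s hA3 hs hs1
    obtain ⟨j, hj⟩ := pw B s' hB3 hs' hs2
    rw [hi] at hs1
    rw [hj] at hs2
    have hz3 : z ^ 3 = 1 := by
      have h0 := pow_orderOf_eq_one z
      rwa [hord] at h0
    have zc : ∀ (n : ℕ) (x : GL (Fin 3) L), Commute (z ^ n) x := fun n x => (scalar_comm hzs x).pow_left n
    obtain ⟨h', hh'⟩ : ∃ h' : H, h' = h * B' ^ i * A' ^ (2 * j) := ⟨_, rfl⟩
    have hval : (h' : GL (Fin 3) L) = h * (B : GL (Fin 3) L) ^ i * (A : GL (Fin 3) L) ^ (2 * j) := by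
      rw [hh']; rfl
    have cA : (B : GL (Fin 3) L) ^ i * A = z ^ (2 * i) * (A * (B : GL (Fin 3) L) ^ i) := by
      have := swap_pow (scalar_comm hzs) hAB 1 i
      rw [pow_one, one_mul] at this
      rw [this, ← mul_assoc, ← pow_add, show 2 * i + i = 3 * i by ring, pow_mul, hz3, one_pow, one_mul]
    have cB : (A : GL (Fin 3) L) ^ (2 * j) * B = z ^ (2 * j) * (B * (A : GL (Fin 3) L) ^ (2 * j)) := by
      have := swap_pow (scalar_comm hzs) hAB (2 * j) 1
      rwa [pow_one, mul_one] at this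
    have hsA : (h : GL (Fin 3) L) * A = z ^ i * A * h := mul_inv_eq_iff_eq_mul.1 hs1
    have hsB : (h : GL (Fin 3) L) * B = z ^ j * B * h := mul_inv_eq_iff_eq_mul.1 hs2
    have hsc : (h' : GL (Fin 3) L) ∈ scalars (Fin 3) L := by
      refine hcent _ ?_ ?_
      · show _ = _
        rw [hval]
        calc (h : GL (Fin 3) L) * (B : GL (Fin 3) L) ^ i * (A : GL (Fin 3) L) ^ (2 * j) * A
            = h * ((B : GL (Fin 3) L) ^ i * A) * (A : GL (Fin 3) L) ^ (2 * j) := by
              rw [mul_assoc _ _ (A : GL (Fin 3) L), (Commute.pow_self (A : GL (Fin 3) L) (2 * j)).eq]; group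
          _ = z ^ (2 * i) * (h * A) * (B : GL (Fin 3) L) ^ i * (A : GL (Fin 3) L) ^ (2 * j) := by
              rw [cA, ← mul_assoc (h : GL (Fin 3) L) (z ^ (2 * i)), ← (zc (2 * i) h).eq]; group
          _ = z ^ (2 * i) * z ^ i * A * (h * (B : GL (Fin 3) L) ^ i * (A : GL (Fin 3) L) ^ (2 * j)) := by
              rw [hsA]; group
          _ = _ := by
              rw [← pow_add, show 2 * i + i = 3 * i by ring, pow_mul, hz3, one_pow, one_mul]
      · show _ = _
        rw [hval]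
        calc (h : GL (Fin 3) L) * (B : GL (Fin 3) L) ^ i * (A : GL (Fin 3) L) ^ (2 * j) * B
            = h * (B : GL (Fin 3) L) ^ i * z ^ (2 * j) * (B * (A : GL (Fin 3) L) ^ (2 * j)) := by
              rw [mul_assoc _ _ (B : GL (Fin 3) L), cB]; group
          _ = z ^ (2 * j) * (h * ((B : GL (Fin 3) L) ^ i * B) * (A : GL (Fin 3) L) ^ (2 * j)) := by
              rw [← (zc (2 * j) (h * (B : GL (Fin 3) L) ^ i)).eq]; group
          _ = z ^ (2 * j) * ((h * B) * (B : GL (Fin 3) L) ^ i * (A : GL (Fin 3) L) ^ (2 * j)) := by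
              rw [(Commute.pow_self (B : GL (Fin 3) L) i).eq]; group
          _ = z ^ (2 * j) * z ^ j * B * (h * (B : GL (Fin 3) L) ^ i * (A : GL (Fin 3) L) ^ (2 * j)) := by
              rw [hsB]; group
          _ = _ := by
              rw [← pow_add, show 2 * j + j = 3 * j by ring, pow_mul, hz3, one_pow, one_mul]
    show InE (φ a) (φ b) (toPro H h)
    refine ⟨j, 2 * i, ?_⟩
    have h0 : toPro H h * φ b ^ i * φ a ^ (2 * j) = 1 := by
      rw [← hA', ← hB', ← map_pow, ← map_pow, ← map_mul, ← map_mul, ← hh', toPro_eq_one]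
      exact hsc
    rw [mul_assoc, mul_eq_one_iff_eq_inv] at h0
    rw [h0]
    refine inv_eq_of_mul_eq_one_right ?_
    calc φ b ^ i * φ a ^ (2 * j) * (φ a ^ j * φ b ^ (2 * i))
        = φ b ^ i * (φ a ^ (2 * j) * φ a ^ j) * φ b ^ (2 * i) := by group
      _ = 1 := by
        rw [← pow_add, show 2 * j + j = 3 * j by ring, pow_mul, ← map_pow φ a 3, ha, map_one, one_pow, mul_one,
          ← pow_add, show i + 2 * i = 3 * i by ring, pow_mul, ← map_pow φ b 3, hb, map_one, one_pow]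

/-- Fusing an element of order five with its square forces characteristic five. -/
theorem five_of_fuse [Finite L] (hG : NoTv G) (hGH : G ≤ H) (hn : ∀ h ∈ H, ∀ x ∈ G, h * x * h⁻¹ ∈ G)
    (hreal : ∀ x : Pro G, Real' x) {x : Pro G} (h5 : x ^ 5 = 1) (hx1 : x ≠ 1) {k : Pro H}
    (hk : k * incl hGH x * k⁻¹ = incl hGH x ^ 2) : (5 : L) = 0 := by
  obtain ⟨g, rfl⟩ := toPro_surjective x
  obtain ⟨N, w, rfl, hw, hN⟩ := hG.lift_pow g (n := 5) (by norm_num) h5
  rw [map_mul (toPro G), hw, mul_one] at hk hx1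
  obtain ⟨h, rfl⟩ := toPro_surjective k
  rw [incl_toPro, ← map_inv, ← map_mul, ← map_mul, ← map_pow] at hk
  obtain ⟨s, hs, hse⟩ := exists_scalar_of_eq hk
  simp only [Subgroup.coe_mul, Subgroup.coe_inv, Subgroup.coe_pow] at hse
  have hN5 : (N : GL (Fin 3) L) ^ 5 = 1 := by simpa using congrArg Subtype.val hN
  have hs5 : s ^ 5 = 1 := by
    have := congrArg (· ^ 5) hse
    rw [conj_pow, hN5, (scalar_comm hs _).mul_pow, ← pow_mul, mul_comm 2 5, pow_mul, hN5, one_pow, mul_one,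
      mul_one, mul_inv_cancel] at this
    exact this.symm
  have hsG : s ∈ G := by
    have h1 : s = (h : GL (Fin 3) L) * N * (h : GL (Fin 3) L)⁻¹ * ((N : GL (Fin 3) L) ^ 2)⁻¹ := by
      rw [hse, mul_inv_cancel_right]
    rw [h1]
    exact G.mul_mem (hn h h.2 N N.2) (G.inv_mem (pow_mem N.2 2))
  have hs1 : s = 1 := by
    have := pow_gcd_eq_one.2 ⟨hs5, hG.scalar_cube hsG hs⟩
    simpa using this
  rw [hs1, one_mul] at hse
  obtain ⟨hr, hinv⟩ := hG.trace_five hx1 hN (hreal _)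
  have ht : ⟪N * N⟫.trace = ⟪N⟫.trace := by
    have h1 : ⟪N * N⟫ = (((h : GL (Fin 3) L) * N * (h : GL (Fin 3) L)⁻¹ : GL (Fin 3) L) : Mat) := by
      rw [hse, pow_two]; rfl
    rw [h1, Units.val_mul, Units.val_mul, Matrix.trace_units_conj]
  rw [Subgroup.coe_mul, Units.val_mul, trace_sq, ← hG.inv_trace, hinv] at ht
  generalize ⟪N⟫.trace = τ at hr ht
  linear_combination (2 * τ - 1) * (hr - ht) - 4 * hr

lemma factorization_nine_mul {n : ℕ} (hn : ¬ 3 ∣ n) : (9 * n).factorization 3 = 2 := by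
  have hn0 : n ≠ 0 := fun e => hn (e ▸ dvd_zero 3)
  rw [show 9 = 3 ^ 2 by norm_num, Nat.factorization_mul (by norm_num) hn0, Finsupp.add_apply,
    Nat.Prime.factorization_pow Nat.prime_three, Finsupp.single_eq_same, Nat.factorization_eq_zero_of_not_dvd hn]

lemma six_card : Nat.card (alternatingGroup (Fin 6)) = 360 := by
  rw [nat_card_alternatingGroup, Nat.card_fin]
  decide

lemma seven_card : Nat.card (alternatingGroup (Fin 7)) = 2520 := by
  rw [nat_card_alternatingGroup, Nat.card_fin]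
  decide

/-- The overgroup of a core of order 360. -/
theorem six_outcome [Finite L] (hG : NoTv G) (hGH : G ≤ H) (hn : ∀ h ∈ H, ∀ x ∈ G, h * x * h⁻¹ ∈ G)
    (h3 : (3 : L) ≠ 0) (h : Nat.card (Pro G) = 360) :
    ∃ A : Subgroup (Pro H), Nonempty (↥A ≃* ↥(alternatingGroup (Fin 6))) ∧
      (A = ⊤ ∨ (A.index = 2 ∧ (5 : L) = 0)) := by
  haveI := hG.simple
  obtain ⟨e₀⟩ := Cfsg.Agent.S0497.result h
  set e := e₀.symm with he
  let a : alternatingGroup (Fin 6) := ⟨pa, Equiv.Perm.mem_alternatingGroup.2 (by decide +kernel)⟩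
  let b : alternatingGroup (Fin 6) := ⟨pb, Equiv.Perm.mem_alternatingGroup.2 (by decide +kernel)⟩
  let t : alternatingGroup (Fin 6) := ⟨pt, Equiv.Perm.mem_alternatingGroup.2 (by decide +kernel)⟩
  let n : alternatingGroup (Fin 6) := ⟨pn, Equiv.Perm.mem_alternatingGroup.2 (by decide +kernel)⟩
  have ha : a ^ 3 = 1 := Subtype.ext (by show pa ^ 3 = 1; decide +kernel)
  have hb : b ^ 3 = 1 := Subtype.ext (by show pb ^ 3 = 1; decide +kernel)
  have hab : Commute a b := Subtype.ext (by show pa * pb = pb * pa; decide +kernel)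
  have hu : ∀ i j : ℕ, a ^ i * b ^ j = 1 → i % 3 = 0 ∧ j % 3 = 0 := fun i j hij => by
    have h0 : pa ^ (i % 3) * pb ^ (j % 3) = 1 := by
      rw [← pow_eq_pow_mod i (congrArg Subtype.val ha), ← pow_eq_pow_mod j (congrArg Subtype.val hb)]
      exact congrArg Subtype.val hij
    have := six_uniq ⟨i % 3, Nat.mod_lt _ (by norm_num)⟩ ⟨j % 3, Nat.mod_lt _ (by norm_num)⟩ h0
    simpa [Fin.ext_iff] using this
  have F := frame hG hGH hn h3 (fun x _ => (pro_360 hG h x).2) e (t := t) ha hb hab hu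
    (Subtype.ext (by show pt * pa * pt⁻¹ = pb; decide +kernel))
    (Subtype.ext (by show pt * pb * pt⁻¹ = pa⁻¹; decide +kernel))
    (fun y i j hy => six_pure y i j (hy.imp (fun e => congrArg Subtype.val e) (fun e => congrArg Subtype.val e)))
    (by rw [six_card, show 360 = 9 * 40 from rfl]; exact factorization_nine_mul (by norm_num))
  refine ⟨_, ⟨(MonoidHom.ofInjective (incl_injective hGH)).symm.trans e₀⟩, ?_⟩
  rcases F.top_or_two with htop | ⟨hidx, g, g1, g2⟩
  · exact Or.inl htop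
  refine Or.inr ⟨hidx, ?_⟩
  set φ : alternatingGroup (Fin 6) →* Pro H := (incl hGH).comp e.toMonoidHom with hφ
  have hφi : Function.Injective φ := (incl_injective hGH).comp e.injective
  change g * φ a * g⁻¹ = φ a * φ b at g1
  change g * φ b * g⁻¹ = φ a * φ b ^ 2 at g2
  have hfix : ∀ i j : ℕ, ∃ k l : ℕ, φ a ^ k * φ b ^ l * (φ a ^ i * φ b ^ j * (φ t)⁻¹) *
      (φ a ^ k * φ b ^ l)⁻¹ = (φ t)⁻¹ := by
    intro i j
    obtain ⟨k, l, hkl⟩ := six_fix ⟨i % 3, Nat.mod_lt _ (by norm_num)⟩ ⟨j % 3, Nat.mod_lt _ (by norm_num)⟩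
    refine ⟨k, l, ?_⟩
    rw [← pow_eq_pow_mod i (congrArg Subtype.val ha), ← pow_eq_pow_mod j (congrArg Subtype.val hb)] at hkl
    simp only [← map_pow, ← map_mul, ← map_inv]
    exact congrArg φ (Subtype.ext hkl)
  obtain ⟨g, g1, g2, g3⟩ := F.refine_t g1 g2 hfix
  change g * φ a * g⁻¹ = φ a * φ b at g1
  change g * φ b * g⁻¹ = φ a * φ b ^ 2 at g2
  change g * φ t * g⁻¹ = (φ t)⁻¹ at g3
  obtain ⟨ĉ, hĉ⟩ : ∃ ĉ, φ ĉ = g * φ n * g⁻¹ := by
    obtain ⟨x, hx⟩ := (incl_normal hGH hn).conj_mem (φ n) ⟨e n, rfl⟩ g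
    exact ⟨e.symm x, by simp [hφ, hx]⟩
  have hn2 : n * n = 1 := Subtype.ext (by show pn * pn = 1; decide +kernel)
  have hntn : n * t⁻¹ * n = t := Subtype.ext (by show pn * pt⁻¹ * pn = pt; decide +kernel)
  have c2 : ĉ * ĉ = 1 := hφi (by
    rw [map_mul, hĉ, show g * φ n * g⁻¹ * (g * φ n * g⁻¹) = g * (φ n * φ n) * g⁻¹ by group, ← map_mul, hn2,
      map_one, mul_one, mul_inv_cancel])
  have g3' : g * (φ t)⁻¹ * g⁻¹ = φ t := by
    calc g * (φ t)⁻¹ * g⁻¹ = (g * φ t * g⁻¹)⁻¹ := by group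
      _ = φ t := by rw [g3, inv_inv]
  have c3 : ĉ * t * ĉ = t⁻¹ := hφi (by
    rw [map_mul, map_mul, map_inv, hĉ]
    calc g * φ n * g⁻¹ * φ t * (g * φ n * g⁻¹)
        = g * φ n * g⁻¹ * (g * (φ t)⁻¹ * g⁻¹) * (g * φ n * g⁻¹) := by rw [g3']
      _ = g * (φ n * (φ t)⁻¹ * φ n) * g⁻¹ := by group
      _ = g * φ t * g⁻¹ := by rw [← map_inv, ← map_mul, ← map_mul, hntn]
      _ = (φ t)⁻¹ := g3)
  have c4 : (a * a * ĉ) ^ 3 = 1 := hφi (by
    have hab2 : φ a * φ a = φ a * φ b * (φ a * φ b ^ 2) := by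
      rw [show φ a * φ b * (φ a * φ b ^ 2) = φ a * (φ b * φ a) * φ b ^ 2 by group, ← (hab.map φ).eq,
        show φ a * (φ a * φ b) * φ b ^ 2 = φ a * φ a * φ b ^ 3 by rw [pow_succ' (φ b) 2]; group,
        ← map_pow φ b 3, hb, map_one, mul_one]
    rw [map_pow, map_mul, map_mul, hĉ, hab2, ← g1, ← g2,
      show g * φ a * g⁻¹ * (g * φ b * g⁻¹) * (g * φ n * g⁻¹) = g * (φ a * φ b * φ n) * g⁻¹ by group, conj_pow,
      ← map_mul, ← map_mul, ← map_pow,
      show (a * b * n) ^ 3 = 1 from Subtype.ext (by show (pa * pb * pn) ^ 3 = 1; decide +kernel), map_one, mul_one,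
      mul_inv_cancel])
  let y : alternatingGroup (Fin 6) := ⟨c[1, 2, 3], Equiv.Perm.mem_alternatingGroup.2 (by decide +kernel)⟩
  have hfuse : y * (a * b * ĉ) * y⁻¹ = (a * n) ^ 2 := Subtype.ext (six_fuse ĉ ĉ.2
    (congrArg Subtype.val c2) (congrArg Subtype.val c3) (congrArg Subtype.val c4))
  have hk : φ y * g * φ (a * n) * (φ y * g)⁻¹ = φ (a * n) ^ 2 := by
    rw [← map_pow, ← hfuse, map_mul, map_mul, map_mul, map_mul, map_mul, map_inv, hĉ, ← g1]
    group
  exact five_of_fuse hG hGH hn (fun x => (pro_360 hG h x).2) (x := e (a * n))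
    (by
      rw [← map_pow, show (a * n) ^ 5 = 1 from Subtype.ext (by show (pa * pn) ^ 5 = 1; decide +kernel), map_one])
    (fun h1 => absurd (congrArg Subtype.val (e.injective (h1.trans (map_one e).symm)))
      (show pa * pn ≠ 1 by decide +kernel))
    hk

/-- The overgroup of a core of order 2520. -/
theorem seven_outcome [Finite L] (hG : NoTv G) (hGH : G ≤ H) (hn : ∀ h ∈ H, ∀ x ∈ G, h * x * h⁻¹ ∈ G)
    (h3 : (3 : L) ≠ 0) (h : Nat.card (Pro G) = 2520) : Nonempty (Pro H ≃* ↥(alternatingGroup (Fin 7))) := by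
  haveI := hG.simple
  obtain ⟨e₀⟩ := Cfsg.Agent.S0984.result h
  set e := e₀.symm with he
  let a : alternatingGroup (Fin 7) := ⟨qa, Equiv.Perm.mem_alternatingGroup.2 (by decide +kernel)⟩
  let b : alternatingGroup (Fin 7) := ⟨qb, Equiv.Perm.mem_alternatingGroup.2 (by decide +kernel)⟩
  let t : alternatingGroup (Fin 7) := ⟨qt, Equiv.Perm.mem_alternatingGroup.2 (by decide +kernel)⟩
  let n : alternatingGroup (Fin 7) := ⟨qz, Equiv.Perm.mem_alternatingGroup.2 (by decide +kernel)⟩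
  have ha : a ^ 3 = 1 := Subtype.ext (by show qa ^ 3 = 1; decide +kernel)
  have hb : b ^ 3 = 1 := Subtype.ext (by show qb ^ 3 = 1; decide +kernel)
  have hab : Commute a b := Subtype.ext (by show qa * qb = qb * qa; decide +kernel)
  have hu : ∀ i j : ℕ, a ^ i * b ^ j = 1 → i % 3 = 0 ∧ j % 3 = 0 := fun i j hij => by
    have h0 : qa ^ (i % 3) * qb ^ (j % 3) = 1 := by
      rw [← pow_eq_pow_mod i (congrArg Subtype.val ha), ← pow_eq_pow_mod j (congrArg Subtype.val hb)]
      exact congrArg Subtype.val hij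
    have := seven_uniq ⟨i % 3, Nat.mod_lt _ (by norm_num)⟩ ⟨j % 3, Nat.mod_lt _ (by norm_num)⟩ h0
    simpa [Fin.ext_iff] using this
  have hreal : ∀ x : Pro G, x ^ 3 = 1 → Real' x := by
    intro x hx
    have one_real : x = 1 → Real' x := fun e => ⟨1, by rw [e]; simp⟩
    rcases pro_2520 hG h x with ⟨-, hr⟩ | ⟨-, hr⟩ | e5 | ⟨e7, -⟩
    · exact hr
    · exact hr
    · exact one_real (by simpa using pow_gcd_eq_one.2 ⟨hx, e5⟩)
    · exact one_real (by simpa using pow_gcd_eq_one.2 ⟨hx, e7⟩)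
  have F := frame hG hGH hn h3 hreal e (t := t) ha hb hab hu
    (Subtype.ext (by show qt * qa * qt⁻¹ = qb; decide +kernel))
    (Subtype.ext (by show qt * qb * qt⁻¹ = qa⁻¹; decide +kernel))
    (fun y i j hy => seven_pure y i j (hy.imp (fun e => congrArg Subtype.val e) (fun e => congrArg Subtype.val e)))
    (by rw [seven_card, show 2520 = 9 * 280 from rfl]; exact factorization_nine_mul (by norm_num))
  set φ : alternatingGroup (Fin 7) →* Pro H := (incl hGH).comp e.toMonoidHom with hφ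
  have hφi : Function.Injective φ := (incl_injective hGH).comp e.injective
  rcases F.top_or_two with htop | ⟨-, g, g1, g2⟩
  · exact ⟨(Subgroup.topEquiv.symm.trans (MulEquiv.subgroupCongr htop.symm)).trans
      ((MonoidHom.ofInjective (incl_injective hGH)).symm.trans e₀)⟩
  exfalso
  change g * φ a * g⁻¹ = φ a * φ b at g1
  obtain ⟨ĉ, hĉ⟩ : ∃ ĉ, φ ĉ = g * φ n * g⁻¹ := by
    obtain ⟨x, hx⟩ := (incl_normal hGH hn).conj_mem (φ n) ⟨e n, rfl⟩ g
    exact ⟨e.symm x, by simp [hφ, hx]⟩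
  have hn2 : n * n = 1 := Subtype.ext (by show qz * qz = 1; decide +kernel)
  have hna : n * a = a * n := Subtype.ext (by show qz * qa = qa * qz; decide +kernel)
  have c2 : ĉ * ĉ = 1 := hφi (by
    rw [map_mul, hĉ, show g * φ n * g⁻¹ * (g * φ n * g⁻¹) = g * (φ n * φ n) * g⁻¹ by group, ← map_mul, hn2,
      map_one, mul_one, mul_inv_cancel])
  have c3 : ĉ * (a * b) = a * b * ĉ := hφi (by
    rw [map_mul, map_mul φ (a * b), map_mul φ a b, hĉ, ← g1,
      show g * φ n * g⁻¹ * (g * φ a * g⁻¹) = g * (φ n * φ a) * g⁻¹ by group, ← map_mul, hna, map_mul]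
    group)
  have c1 : ĉ = 1 := Subtype.ext (seven_cent ĉ ĉ.2 (congrArg Subtype.val c2) (congrArg Subtype.val c3))
  rw [c1, map_one, eq_comm, mul_inv_eq_one, mul_eq_left] at hĉ
  exact absurd (congrArg Subtype.val (hφi (hĉ.trans (map_one φ).symm))) (show qz ≠ 1 by decide +kernel)

/-- Injective field maps keep the quotient by scalars. -/
lemma pro_map {F : Type*} [Field F] (ι : F →+* L) (M : Subgroup (GL (Fin 3) F)) :
    Nonempty (Pro M ≃* Pro (M.map (Matrix.GeneralLinearGroup.map (n := Fin 3) ι))) := by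
  set f : GL (Fin 3) F →* GL (Fin 3) L := Matrix.GeneralLinearGroup.map (n := Fin 3) ι with hf
  have happ : ∀ g i j, (f g : Mat) i j = ι ((g : Matrix (Fin 3) (Fin 3) F) i j) := fun g i j => rfl
  have hsc : ∀ g, f g ∈ scalars (Fin 3) L ↔ g ∈ scalars (Fin 3) F := by
    intro g
    rw [mem_scalars_iff, mem_scalars_iff]
    constructor
    · rintro ⟨c, hc⟩
      have h00 : ι ((g : Matrix (Fin 3) (Fin 3) F) 0 0) = c := by rw [← happ, hc]; simp
      have hne : (g : Matrix (Fin 3) (Fin 3) F) 0 0 ≠ 0 := fun e => c.ne_zero (by rw [← h00, e, map_zero])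
      refine ⟨Units.mk0 _ hne, ?_⟩
      ext i j
      apply ι.injective
      rw [← happ, hc, Units.val_mk0, Matrix.smul_apply, Matrix.smul_apply, Matrix.one_apply, Matrix.one_apply,
        smul_eq_mul, smul_eq_mul, map_mul, h00]
      split_ifs <;> simp
    · rintro ⟨c, hc⟩
      refine ⟨Units.map (ι : F →* L) c, ?_⟩
      ext i j
      rw [happ, hc, Matrix.smul_apply, Matrix.smul_apply, Matrix.one_apply, Matrix.one_apply]
      split_ifs <;> simp
  have hfi : Function.Injective f := fun x y hxy => by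
    ext i j
    exact ι.injective (by rw [← happ, ← happ, hxy])
  refine ⟨QuotientGroup.congr _ _ (M.equivMapOfInjective f hfi) ?_⟩
  ext x
  obtain ⟨y, rfl⟩ := (M.equivMapOfInjective f hfi).surjective x
  refine Iff.trans Subgroup.mem_map_equiv ?_
  rw [MulEquiv.symm_apply_apply, Subgroup.mem_subgroupOf, Subgroup.mem_subgroupOf,
    Subgroup.coe_equivMapOfInjective_apply, hsc]

/-- A field with a primitive cube root of one. -/
lemma card_mod_three {F : Type*} [Field F] [Fintype F] {c : F} (hc : c ^ 3 = 1) (hc1 : c ≠ 1) :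
    Fintype.card F % 3 = 1 := by
  classical
  have hc0 : c ≠ 0 := fun e => by rw [e] at hc; norm_num at hc
  have hord : orderOf (Units.mk0 c hc0) = 3 := by
    refine orderOf_eq_prime (Units.ext (by simpa using hc)) fun e => hc1 ?_
    simpa using congrArg Units.val e
  have h1 := orderOf_dvd_card (x := Units.mk0 c hc0)
  rw [hord, Fintype.card_units] at h1
  have := Fintype.card_pos (α := F)
  omega

lemma squares_five : ∀ x : ZMod 5, (∃ y, x = y * y) → x.val = 0 ∨ x.val = 1 ∨ x.val = 4 := by decide +kernel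

/-- A field containing the golden ratio. -/
lemma card_mod_five {F : Type*} [Field F] [Fintype F] (p α : ℕ) [Fact p.Prime] [CharP F p] (h2 : p ≠ 2)
    (h5 : p ≠ 5) (hF : Fintype.card F = p ^ α) {r : F} (hr : r ^ 2 = r + 1) :
    p ^ α % 5 = 1 ∨ p ^ α % 5 = 4 := by
  have hp : p.Prime := Fact.out
  have hp5 : p % 5 ≠ 0 := fun e => h5 ((Nat.prime_dvd_prime_iff_eq Nat.prime_five hp).1 (Nat.dvd_of_mod_eq_zero e)).symm
  have sq : ∀ k, (p ^ 2) ^ k % 5 = 1 ∨ (p ^ 2) ^ k % 5 = 4 := by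
    intro k
    induction k with
    | zero => simp
    | succ k ih =>
      have hlt : p % 5 < 5 := Nat.mod_lt _ (by norm_num)
      rw [pow_succ, Nat.mul_mod, Nat.pow_mod p 2]
      rcases ih with h | h <;> rw [h] <;> interval_cases p % 5 <;> omega
  rcases Nat.even_or_odd' α with ⟨k, hk | hk⟩
  · rw [hk, pow_mul]; exact sq k
  have hp14 : p % 5 = 1 ∨ p % 5 = 4 := by
    obtain ⟨δ, hδ, hδ0⟩ : ∃ δ : F, δ ^ 2 = 5 ∧ 2 * r - 1 = δ := ⟨_, by linear_combination 4 * hr, rfl⟩
    have h5F : (5 : F) ≠ 0 := fun e => by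
      have h' : ((5 : ℕ) : F) = 0 := by exact_mod_cast e
      rw [CharP.cast_eq_zero_iff F p, Nat.prime_dvd_prime_iff_eq hp Nat.prime_five] at h'
      exact h5 h'
    have hδne : δ ≠ 0 := fun e => h5F (by rw [← hδ, e]; simp)
    have hnat : (5 : F) ^ p = 5 := by
      have h' := map_natCast (frobenius F p) 5
      rw [frobenius_def] at h'
      exact_mod_cast h'
    have hpm : δ ^ p = δ ∨ δ ^ p = -δ := sq_eq_sq_iff_eq_or_eq_neg.1 (by
      rw [← pow_mul, mul_comm, pow_mul, hδ, hnat])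
    have hodd : Odd p := hp.odd_of_ne_two h2
    have hpp : (δ ^ p) ^ p = δ := by
      rcases hpm with e | e
      · rw [e, e]
      · rw [e, hodd.neg_pow, e, neg_neg]
    have hit : ∀ k, δ ^ (p ^ (2 * k + 1)) = δ ^ p := by
      intro k
      induction k with
      | zero => simp
      | succ k ih =>
        rw [show p ^ (2 * (k + 1) + 1) = p ^ (2 * k + 1) * p * p by ring, pow_mul, pow_mul, ih, hpp]
    have hδp : δ ^ p = δ := by rw [← hit k, ← hk, ← hF, FiniteField.pow_card]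
    have hh : (5 : F) ^ (p / 2) = 1 := by
      rw [← hδ, ← pow_mul]
      apply mul_right_cancel₀ hδne
      rw [← pow_succ, one_mul, Nat.two_mul_div_two_add_one_of_odd hodd, hδp]
    have hz : ((5 : ℕ) : ZMod p) ^ (p / 2) = 1 := (ZMod.castHom dvd_rfl F).injective (by
      rw [map_pow, map_natCast, map_one]
      exact_mod_cast hh)
    have hz0 : ((5 : ℕ) : ZMod p) ≠ 0 := by
      rw [Ne, CharP.cast_eq_zero_iff (ZMod p) p, Nat.prime_dvd_prime_iff_eq hp Nat.prime_five]
      exact h5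
    haveI : Fact (Nat.Prime 5) := ⟨Nat.prime_five⟩
    have hsq : IsSquare (p : ZMod 5) :=
      (ZMod.exists_sq_eq_prime_iff_of_mod_four_eq_one (p := 5) (q := p) (by norm_num) h2).2
        ((ZMod.euler_criterion p hz0).2 hz)
    have hv := squares_five _ hsq
    rw [ZMod.val_natCast] at hv
    omega
  rw [hk, pow_succ, pow_mul, Nat.mul_mod]
  rcases sq k with h | h <;> rcases hp14 with h' | h' <;> rw [h, h'] <;> norm_num

end Big

section shapes

variable {F : Type u} [Field F] {Ht P : Subgroup (GL (Fin 3) F)}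
variable [Fintype F] (p α : ℕ) [Fact p.Prime] [CharP F p] (hF : Fintype.card F = p ^ α) (hC : Core Ht P)
  (hSL : Ht ≤ specialLinear (Fin 3) F) (hp : p ≠ 2) {L : Type u} [Field L] [Fintype L] (ι : F →+* L)
  (hG : NoTv (P.map (Matrix.GeneralLinearGroup.map (n := Fin 3) ι)))
include hF hC hSL hp hG

omit hF hSL hp hG in
/-- The mapped core is normalised. -/
lemma Big.image_normal : ∀ h ∈ Ht.map (Matrix.GeneralLinearGroup.map (n := Fin 3) ι),
    ∀ x ∈ P.map (Matrix.GeneralLinearGroup.map (n := Fin 3) ι),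
      h * x * h⁻¹ ∈ P.map (Matrix.GeneralLinearGroup.map (n := Fin 3) ι) := by
  rintro _ ⟨h, hh, rfl⟩ _ ⟨x, hx, rfl⟩
  exact ⟨h * x * h⁻¹, hC.normal h hh x hx, by rw [map_mul, map_mul, map_inv]⟩

/-- Order 360. -/
theorem shape_360 (h : Nat.card (Pro P) = 360) (h3 : p ≠ 3) :
    ShapeCharFive p α (Pro Ht) ∨ ShapeSix p α (Pro Ht) := by
  classical
  have hpp : p.Prime := Fact.out
  haveI : CharP L p := charP_of_injective_ringHom ι.injective p
  obtain ⟨e₁⟩ := Big.pro_map ι P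
  obtain ⟨e₂⟩ := Big.pro_map ι Ht
  have hG' : Nat.card (Pro (P.map (Matrix.GeneralLinearGroup.map (n := Fin 3) ι))) = 360 := by
    rw [← Nat.card_congr e₁.toEquiv, h]
  have h3L : (3 : L) ≠ 0 := fun e => by
    have h' : ((3 : ℕ) : L) = 0 := by exact_mod_cast e
    rw [CharP.cast_eq_zero_iff L p, Nat.prime_dvd_prime_iff_eq hpp Nat.prime_three] at h'
    exact h3 h'
  obtain ⟨A, ⟨eA⟩, hA⟩ := Big.six_outcome hG (Subgroup.map_mono hC.le) (Big.image_normal hC ι) h3L hG'
  obtain ⟨w, r, hw, hr, ⟨gw, ⟨gw₀, -, hgw⟩, hgwe⟩, ⟨gr, ⟨gr₀, -, hgr⟩, i, hgre⟩, -⟩ :=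
    trace_360 hG hG' (by rw [ringChar.eq L p]; exact h3)
  obtain ⟨c, rfl⟩ : ∃ c : F, ι c = w :=
    ⟨(gw₀ : Matrix (Fin 3) (Fin 3) F) 0 0, by have := hgwe 0 0; rw [← hgw] at this; simpa using this⟩
  have hc : c ^ 2 + c + 1 = 0 := ι.injective (by simpa using hw)
  have hc1 : c ≠ 1 := fun e => by
    rw [e, map_one] at hw
    exact h3L (by linear_combination hw)
  have hc3 : c ^ 3 = 1 := by linear_combination (c - 1) * hc
  have hq3 : p ^ α % 3 = 1 := hF ▸ Big.card_mod_three hc3 hc1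
  have hchar5 : (5 : L) = 0 → p = 5 := fun e => by
    have h' : ((5 : ℕ) : L) = 0 := by exact_mod_cast e
    rw [CharP.cast_eq_zero_iff L p, Nat.prime_dvd_prime_iff_eq hpp Nat.prime_five] at h'
    exact h'
  have top : A = ⊤ → Nonempty (Pro Ht ≃* ↥(alternatingGroup (Fin 6))) := fun e =>
    ⟨e₂.trans ((Subgroup.topEquiv.symm.trans (MulEquiv.subgroupCongr e.symm)).trans eA)⟩
  by_cases h5 : p = 5
  · refine Or.inl ⟨h5, ?_, ?_⟩
    · subst h5
      rcases Nat.even_or_odd' α with ⟨k, hk | hk⟩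
      · exact ⟨k, by omega⟩
      · exfalso
        rw [hk, pow_succ, pow_mul, Nat.mul_mod, Nat.pow_mod] at hq3
        norm_num at hq3
    · rcases hA with e | ⟨e, -⟩
      · exact Or.inl (top e)
      · refine Or.inr (Or.inr ⟨A.comap e₂.toMonoidHom, ?_, ⟨?_⟩⟩)
        · rw [Subgroup.index_comap_of_surjective _ e₂.surjective, e]
        · exact (e₂.subgroupMap _).trans ((MulEquiv.subgroupCongr
            (Subgroup.map_comap_eq_self_of_surjective (f := e₂.toMonoidHom) e₂.surjective A)).trans eA)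
  · refine Or.inr ⟨?_, top (hA.resolve_right fun e => h5 (hchar5 e.2))⟩
    have hc0 : c ≠ 0 := fun e => by rw [e] at hc; norm_num at hc
    obtain ⟨r₀, hr₀⟩ : ∃ r₀ : F, ι r₀ = r := by
      refine ⟨(gr₀ : Matrix (Fin 3) (Fin 3) F).trace * (c ^ i)⁻¹, ?_⟩
      have ht : ι (gr₀ : Matrix (Fin 3) (Fin 3) F).trace = ι c ^ i * r := by
        rw [← hgre, ← hgr]
        simp [Matrix.trace, map_sum]
      rw [map_mul, map_inv₀, map_pow, ht]
      rw [mul_right_comm, mul_inv_cancel₀ (pow_ne_zero _ ((map_ne_zero ι).2 hc0)), one_mul]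
    have hq5 := Big.card_mod_five p α hp h5 hF (r := r₀) (ι.injective (by simp [hr₀, hr]))
    have hodd : p ^ α % 2 = 1 := Nat.odd_iff.1 ((hpp.odd_of_ne_two hp).pow)
    omega

/-- Order 2520. -/
theorem shape_2520 (h : Nat.card (Pro P) = 2520) (h5 : p = 5) : ShapeCharFive p α (Pro Ht) := by
  classical
  haveI : CharP L p := charP_of_injective_ringHom ι.injective p
  subst h5
  obtain ⟨e₁⟩ := Big.pro_map ι P
  obtain ⟨e₂⟩ := Big.pro_map ι Ht
  have hG' : Nat.card (Pro (P.map (Matrix.GeneralLinearGroup.map (n := Fin 3) ι))) = 2520 := by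
    rw [← Nat.card_congr e₁.toEquiv, h]
  have h3L : (3 : L) ≠ 0 := fun e => by
    have h' : ((3 : ℕ) : L) = 0 := by exact_mod_cast e
    rw [CharP.cast_eq_zero_iff L 5] at h'
    norm_num at h'
  obtain ⟨eT⟩ := Big.seven_outcome hG (Subgroup.map_mono hC.le) (Big.image_normal hC ι) h3L hG'
  refine ⟨rfl, ?_, Or.inr (Or.inl ⟨e₂.trans eT⟩)⟩
  obtain ⟨z, ⟨z₀, hz₀, hzz⟩, hzs, hz1⟩ := scalar_2520 hG hG' (ringChar.eq L 5)
  have hz3 : z ^ 3 = 1 := hG.scalar_cube ⟨z₀, hz₀, hzz⟩ hzs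
  obtain ⟨d, hd⟩ := (mem_scalars_iff z).1 hzs
  have h00 : ι ((z₀ : Matrix (Fin 3) (Fin 3) F) 0 0) = d := by
    have h' : (z : Matrix (Fin 3) (Fin 3) L) 0 0 = d := by rw [hd]; simp
    rw [← hzz] at h'
    simpa using h'
  have hd3 : (d : L) ^ 3 = 1 := by
    have := congrArg (fun g : GL (Fin 3) L => (g : Matrix (Fin 3) (Fin 3) L) 0 0) hz3
    rw [Units.val_pow_eq_pow_val, hd, smul_pow, one_pow] at this
    simpa using this
  have hq3 : 5 ^ α % 3 = 1 := hF ▸ Big.card_mod_three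
    (c := (z₀ : Matrix (Fin 3) (Fin 3) F) 0 0) (ι.injective (by rw [map_pow, h00, hd3, map_one]))
    (fun e => hz1 (Units.ext (by rw [hd, show (d : L) = 1 by rw [← h00, e, map_one], one_smul, Units.val_one])))
  rcases Nat.even_or_odd' α with ⟨k, hk | hk⟩
  · exact ⟨k, by omega⟩
  · exfalso
    rw [hk, pow_succ, pow_mul, Nat.mul_mod, Nat.pow_mod] at hq3
    norm_num at hq3

end shapes

end CfsgLib.Geo.D3
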