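/-
Subgroups of SL of dimension three without abelian normal subgroups modulo scalars are irreducible; two
non-solvable subgroups cannot commute modulo scalars.
-/
import Cfsg.Agent.Geo.DimThree.Core
import Mathlib.Algebra.Polynomial.SpecificDegree

set_option autoImplicit false
set_option linter.style.haveILetI false

namespace CfsgLib.Geo.D3

open Matrix Cfsg Cfsg.Geo CfsgLib.Geo
open scoped commutatorElement

variable {F : Type*} [Field F]

local notation "Mat" => Matrix (Fin 3) (Fin 3) F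
local notation "GL3" => GL (Fin 3) F

/-- Transpose inverse. -/
def contra : GL3 ≃* GL3 where
  toFun g := ⟨((g⁻¹ : GL3) : Mat)ᵀ, (g : Mat)ᵀ,
    by rw [← Matrix.transpose_mul, Units.mul_inv, Matrix.transpose_one],
    by rw [← Matrix.transpose_mul, Units.inv_mul, Matrix.transpose_one]⟩
  invFun g := ⟨((g⁻¹ : GL3) : Mat)ᵀ, (g : Mat)ᵀ,
    by rw [← Matrix.transpose_mul, Units.mul_inv, Matrix.transpose_one],
    by rw [← Matrix.transpose_mul, Units.inv_mul, Matrix.transpose_one]⟩
  left_inv g := Units.ext (by simp)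
  right_inv g := Units.ext (by simp)
  map_mul' g h := Units.ext (by simp [Matrix.transpose_mul])

lemma contra_val (g : GL3) : ((contra g : GL3) : Mat) = ((g⁻¹ : GL3) : Mat)ᵀ := rfl

lemma contra_mem_scalars {g : GL3} (h : g ∈ scalars (Fin 3) F) : contra g ∈ scalars (Fin 3) F := by
  obtain ⟨c, hc⟩ := (mem_scalars_iff g).1 h
  refine (mem_scalars_iff _).2 ⟨c⁻¹, ?_⟩
  have hi : ((g⁻¹ : GL3) : Mat) = ((c⁻¹ : Fˣ) : F) • 1 := by
    calc ((g⁻¹ : GL3) : Mat) = ((g⁻¹ : GL3) : Mat) * ((g : Mat) * (((c⁻¹ : Fˣ) : F) • 1)) := by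
          rw [hc, Matrix.smul_mul, Matrix.one_mul, smul_smul, Units.mul_inv, one_smul, Matrix.mul_one]
      _ = _ := by rw [← Matrix.mul_assoc, Units.inv_mul, Matrix.one_mul]
  rw [contra_val, hi, Matrix.transpose_smul, Matrix.transpose_one]

lemma contra_mem_scalars_iff {g : GL3} : contra g ∈ scalars (Fin 3) F ↔ g ∈ scalars (Fin 3) F :=
  ⟨fun h => by
    have := contra_mem_scalars h
    rwa [show contra (contra g) = g from contra.left_inv g] at this, contra_mem_scalars⟩

lemma conj_mem_scalars_iff (B : GL3) {g : GL3} :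
    MulAut.conj B g ∈ scalars (Fin 3) F ↔ g ∈ scalars (Fin 3) F := by
  refine ⟨fun h => ?_, fun h => scalars_normal.conj_mem g h B⟩
  have h' := scalars_normal.conj_mem _ h B⁻¹
  rwa [inv_inv, MulAut.conj_apply, show B⁻¹ * (B * g * B⁻¹) * B = g by group] at h'

lemma contra_mem_sl {g : GL3} (h : g ∈ specialLinear (Fin 3) F) : contra g ∈ specialLinear (Fin 3) F := by
  rw [mem_specialLinear, contra_val, Matrix.det_transpose]
  exact mem_specialLinear.1 (inv_mem h)

/-- No normal subgroup abelian modulo scalars outside the scalars. -/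
def RadFree (X : Subgroup GL3) : Prop :=
  ∀ A ≤ X, (∀ x ∈ X, ∀ a ∈ A, x * a * x⁻¹ ∈ A) →
    (∀ a ∈ A, ∀ b ∈ A, a * b * a⁻¹ * b⁻¹ ∈ scalars (Fin 3) F) → A ≤ scalars (Fin 3) F

lemma RadFree.map {X : Subgroup GL3} (h : RadFree X) (e : GL3 ≃* GL3)
    (he : ∀ g, e g ∈ scalars (Fin 3) F ↔ g ∈ scalars (Fin 3) F) : RadFree (X.map e.toMonoidHom) := by
  intro A hA hn hc
  have h' := h (A.comap e.toMonoidHom) (fun g hg => by
    obtain ⟨x, hx, hxe⟩ := hA hg
    exact e.injective hxe ▸ hx) (fun x hx a ha => by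
    show e (x * a * x⁻¹) ∈ A
    rw [map_mul, map_mul, map_inv]
    exact hn _ ⟨x, hx, rfl⟩ _ ha) (fun a ha b hb => by
    rw [← he, map_mul, map_mul, map_mul, map_inv, map_inv]
    exact hc _ ha _ hb)
  intro g hg
  have := (he (e.symm g)).2 (h' (show e (e.symm g) ∈ A by rwa [e.apply_symm_apply]))
  rwa [e.apply_symm_apply] at this

lemma not_solvable_map {X : Subgroup GL3} (h : ¬ Group.IsSolvable X) (e : GL3 ≃* GL3) :
    ¬ Group.IsSolvable ↥(X.map e.toMonoidHom) := fun hs => by
  haveI := hs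
  exact h (Group.isSolvable_of_isSolvable_injective
    (f := (X.equivMapOfInjective e.toMonoidHom e.injective).toMonoidHom)
    (X.equivMapOfInjective e.toMonoidHom e.injective).injective)

lemma solvable_of_comm {X : Subgroup GL3} (h : ∀ x ∈ X, ∀ y ∈ X, Commute x y) : Group.IsSolvable X :=
  Group.isSolvable_of_comm fun a b => Subtype.ext (h a a.2 b b.2).eq

lemma not_solvable_commutator {X : Subgroup GL3} (h : ¬ Group.IsSolvable X) :
    ¬ Group.IsSolvable ↥⁅X, X⁆ := fun hs => h (by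
  have hle : (commutator X).map X.subtype ≤ ⁅X, X⁆ := by rw [Subgroup.map_subtype_commutator]
  haveI := hs
  haveI : Group.IsSolvable (commutator X) := by
    refine Group.isSolvable_of_isSolvable_injective
      (f := (Subgroup.inclusion hle).comp
        (Subgroup.equivMapOfInjective (commutator X) X.subtype X.subtype_injective).toMonoidHom) ?_
    exact (Subgroup.inclusion_injective hle).comp (MulEquiv.injective _)
  exact Group.isSolvable_of_ker_le_range (commutator X).subtype (Abelianization.of (G := X))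
    (by rw [Abelianization.ker_of, Subgroup.range_subtype]))

lemma exists_involution [Finite F] {X : Subgroup GL3} (h : ¬ Group.IsSolvable X) :
    ∃ s ∈ ⁅X, X⁆, s ≠ 1 ∧ s * s = 1 := by
  haveI : Fact (Nat.Prime 2) := ⟨Nat.prime_two⟩
  have h' := not_solvable_commutator h
  have hev : 2 ∣ Nat.card ↥⁅X, X⁆ := by
    by_contra hodd
    exact h' (CfsgLib.OddEnd.odd_solvable _ (Nat.odd_iff.2 (Nat.two_dvd_ne_zero.1 hodd)))
  obtain ⟨g, hg⟩ := exists_prime_orderOf_dvd_card' 2 hev
  rw [← Subgroup.orderOf_coe] at hg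
  refine ⟨g, g.2, fun e => by rw [e, orderOf_one] at hg; omega, ?_⟩
  rw [← pow_two, ← hg, pow_orderOf_eq_one]

lemma commutator_le_sl (X : Subgroup GL3) : ⁅X, X⁆ ≤ specialLinear (Fin 3) F := by
  refine Subgroup.commutator_le.2 fun a _ b _ => ?_
  rw [specialLinear, MonoidHom.mem_ker, map_commutatorElement, commutatorElement_eq_one_iff_mul_comm]
  exact mul_comm _ _

lemma not_scalar_of_involution {s : GL3} (hs : s ∈ specialLinear (Fin 3) F)
    (hs1 : s ≠ 1) (hss : s * s = 1) : s ∉ scalars (Fin 3) F := fun h => by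
  obtain ⟨c, hc⟩ := (mem_scalars_iff s).1 h
  have hd := mem_specialLinear.1 hs
  rw [hc, Matrix.det_smul, Matrix.det_one, mul_one, Fintype.card_fin] at hd
  have h2 : (c : F) ^ 2 = 1 := by
    have := congrArg (fun M : GL3 => (M : Mat) 0 0) hss
    simp [hc] at this
    rw [pow_two]; exact this
  exact hs1 (Units.ext (by rw [hc, show (c : F) = 1 by rw [pow_succ, h2, one_mul] at hd; exact hd, one_smul,
    Units.val_one]))

lemma involution_diag (h2 : (2 : F) ≠ 0) {s : GL3} (hs : s ∈ specialLinear (Fin 3) F)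
    (hs1 : s ≠ 1) (hss : s * s = 1) : Diag3 s ![1, -1, -1] := by
  have hM : (s : Mat) * s = 1 := by rw [← Units.val_mul, hss, Units.val_one]
  have h : ((s : Mat) - (1 : F) • 1) * ((s : Mat) - (-1 : F) • 1) = 0 := by
    simp only [one_smul, neg_smul, sub_neg_eq_add, sub_mul, mul_add, mul_one, one_mul, hM]
    abel
  have h1 : (1 : F) ≠ -1 := fun e => h2 (by linear_combination e)
  obtain ⟨a, b, hab, hd⟩ := isHom_of_quadratic h1 h (not_scalar_of_involution hs hs1 hss)
  obtain ⟨B, hB⟩ := hd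
  have hsq : Matrix.diagonal ![a, b, b] * Matrix.diagonal ![a, b, b] = 1 := by
    rw [← hB, ← Units.val_mul, show B * s * B⁻¹ * (B * s * B⁻¹) = B * (s * s) * B⁻¹ by group, hss, mul_one,
      mul_inv_cancel, Units.val_one]
  have ha : a * a = 1 := by simpa using congrFun (congrFun hsq 0) 0
  have hb : b * b = 1 := by simpa using congrFun (congrFun hsq 1) 1
  have hdet := Diag3.det ⟨B, hB⟩
  rw [mem_specialLinear.1 hs] at hdet
  simp at hdet
  have ha1 : a = 1 := by rw [mul_assoc, hb, mul_one] at hdet; exact hdet.symm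
  have hb1 : b = -1 := (mul_self_eq_one_iff.1 hb).resolve_left fun e => hab (ha1.trans e.symm)
  subst ha1; subst hb1
  exact ⟨B, hB⟩

/-- Fixing a vector up to scalars, commutators fix it. -/
lemma commutator_fix {X : Subgroup GL3} {v : Fin 3 → F}
    (hfix : ∀ g ∈ X, ∃ c : F, (g : Mat) *ᵥ v = c • v) : ∀ g ∈ ⁅X, X⁆, (g : Mat) *ᵥ v = v := by
  let K : Subgroup GL3 :=
    { carrier := {g | (g : Mat) *ᵥ v = v}
      one_mem' := by simp
      mul_mem' := fun {g h} hg hh => by
        show ((g * h : GL3) : Mat) *ᵥ v = v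
        rw [mul_mulVec, hh, hg]
      inv_mem' := fun {g} hg => by
        show ((g⁻¹ : GL3) : Mat) *ᵥ v = v
        conv_lhs => rw [← (show (g : Mat) *ᵥ v = v from hg)]
        rw [inv_mulVec_mulVec] }
  refine fun g hg => (?_ : ⁅X, X⁆ ≤ K) hg
  refine Subgroup.commutator_le.2 fun a ha b hb => ?_
  obtain ⟨c, hc⟩ := hfix a ha
  obtain ⟨d, hd⟩ := hfix b hb
  obtain ⟨c', hc'⟩ := hfix a⁻¹ (inv_mem ha)
  obtain ⟨d', hd'⟩ := hfix b⁻¹ (inv_mem hb)
  show (((a * b * a⁻¹ * b⁻¹ : GL3)) : Mat) *ᵥ v = v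
  have h1 : c' • c • v = v := by
    rw [smul_comm, ← hc', ← Matrix.mulVec_smul, ← hc, inv_mulVec_mulVec]
  have h2 : d' • d • v = v := by
    rw [smul_comm, ← hd', ← Matrix.mulVec_smul, ← hd, inv_mulVec_mulVec]
  simp only [mul_mulVec, hd', Matrix.mulVec_smul, hc', hd, hc, smul_smul]
  rw [smul_smul] at h1 h2
  conv_rhs => rw [← h1]; arg 2; rw [← h2]
  rw [smul_smul]
  congr 1
  ring

/-- A non-solvable group fixing a point has an abelian normal subgroup modulo scalars. -/
theorem false_of_point [Finite F] (h2 : (2 : F) ≠ 0) {X : Subgroup GL3} (hX : X ≤ specialLinear (Fin 3) F)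
    (hR : RadFree X) (hns : ¬ Group.IsSolvable X) {v : Fin 3 → F} (hv : v ≠ 0)
    (hfix : ∀ g ∈ X, ∃ c : F, (g : Mat) *ᵥ v = c • v) : False := by
  obtain ⟨s, hs, hs1, hss⟩ := exists_involution hns
  obtain ⟨B, hB⟩ := involution_diag h2 (commutator_le_sl X hs) hs1 hss
  have hsv := commutator_fix hfix s hs
  set e := MulAut.conj B with he
  set Y := X.map e.toMonoidHom with hY
  set w : Fin 3 → F := (B : Mat) *ᵥ v with hw
  set t : GL3 := e s with ht
  have htM : (t : Mat) = Matrix.diagonal ![1, -1, -1] := hB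
  have htw : (t : Mat) *ᵥ w = w := by
    rw [ht, he, MulAut.conj_apply, hw, mul_mulVec, mul_mulVec, inv_mulVec_mulVec, hsv]
  have hw12 : w 1 = 0 ∧ w 2 = 0 := by
    rw [htM] at htw
    have e1 := congrFun htw 1
    have e2 := congrFun htw 2
    simp [Matrix.mulVec_diagonal] at e1 e2
    constructor
    · exact (mul_eq_zero.1 (by linear_combination (-1 : F) * e1 : (2 : F) * w 1 = 0)).resolve_left h2
    · exact (mul_eq_zero.1 (by linear_combination (-1 : F) * e2 : (2 : F) * w 2 = 0)).resolve_left h2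
  have hw0 : w 0 ≠ 0 := fun h0 => hv (by
    have hw' : w = 0 := funext fun i => by fin_cases i <;> simp [h0, hw12.1, hw12.2]
    have := congrArg (fun u => ((B⁻¹ : GL3) : Mat) *ᵥ u) hw'
    simpa [hw] using this)
  have hYsl : ∀ g ∈ Y, g ∈ specialLinear (Fin 3) F := by
    rintro _ ⟨g, hg, rfl⟩
    rw [mem_specialLinear]
    show ((B * g * B⁻¹ : GL3) : Mat).det = 1
    rw [Units.val_mul, Units.val_mul, Matrix.det_units_conj]
    exact mem_specialLinear.1 (hX hg)
  have hcol : ∀ g ∈ Y, (g : Mat) 1 0 = 0 ∧ (g : Mat) 2 0 = 0 := by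
    rintro _ ⟨g, hg, rfl⟩
    obtain ⟨c, hc⟩ := hfix g hg
    set g' : GL3 := e.toMonoidHom g with hg'
    have h' : (g' : Mat) *ᵥ w = c • w := by
      show ((B * g * B⁻¹ : GL3) : Mat) *ᵥ w = c • w
      rw [hw, mul_mulVec, mul_mulVec, inv_mulVec_mulVec, hc, Matrix.mulVec_smul]
    have e1 := congrFun h' 1
    have e2 := congrFun h' 2
    simp [Matrix.mulVec, dotProduct, Fin.sum_univ_three, hw12.1, hw12.2, hw0] at e1 e2
    exact ⟨e1, e2⟩
  have hR' : RadFree Y := hR.map e fun g => conj_mem_scalars_iff B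
  have htY : t ∈ Y := ⟨s, (Subgroup.commutator_le.2 fun a ha b hb =>
    mul_mem (mul_mem (mul_mem ha hb) (inv_mem ha)) (inv_mem hb)) hs, rfl⟩
  -- the kernel of the action on the quotient
  let K : Subgroup GL3 :=
    { carrier := {g | g ∈ Y ∧ (g : Mat) 1 1 = 1 ∧ (g : Mat) 1 2 = 0 ∧ (g : Mat) 2 1 = 0 ∧ (g : Mat) 2 2 = 1}
      one_mem' := ⟨one_mem Y, by simp⟩
      mul_mem' := fun {g h} hg hh => by
        refine ⟨mul_mem hg.1 hh.1, ?_⟩
        obtain ⟨g10, g20⟩ := hcol g hg.1
        simp [Matrix.mul_apply, Fin.sum_univ_three, g10, g20, hg.2, hh.2]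
      inv_mem' := fun {g} hg => by
        refine ⟨inv_mem hg.1, ?_⟩
        obtain ⟨g10, g20⟩ := hcol g⁻¹ (inv_mem hg.1)
        have e : ((g⁻¹ : GL3) : Mat) * (g : Mat) = 1 := by rw [← Units.val_mul, inv_mul_cancel, Units.val_one]
        have e11 := congrFun (congrFun e 1) 1
        have e12 := congrFun (congrFun e 1) 2
        have e21 := congrFun (congrFun e 2) 1
        have e22 := congrFun (congrFun e 2) 2
        simp [-Matrix.coe_units_inv, Matrix.mul_apply, Fin.sum_univ_three, g10, g20, hg.2] at e11 e12 e21 e22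
        exact ⟨e11, e12, e21, e22⟩ }
  have hK : ∀ g ∈ K, (g : Mat) 0 0 = 1 := fun g hg => by
    have hd := mem_specialLinear.1 (hYsl g hg.1)
    obtain ⟨g10, g20⟩ := hcol g hg.1
    rw [Matrix.det_fin_three, g10, g20, hg.2.1, hg.2.2.1, hg.2.2.2.1, hg.2.2.2.2] at hd
    linear_combination hd
  have hKs : K ≤ scalars (Fin 3) F := by
    refine hR' K (fun g hg => hg.1) (fun y hy a ha => ?_) (fun a ha b hb => ?_)
    · refine ⟨mul_mem (mul_mem hy ha.1) (inv_mem hy), ?_⟩
      obtain ⟨y10, y20⟩ := hcol y hy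
      obtain ⟨z10, z20⟩ := hcol y⁻¹ (inv_mem hy)
      obtain ⟨a10, a20⟩ := hcol a ha.1
      have e : (y : Mat) * ((y⁻¹ : GL3) : Mat) = 1 := by rw [← Units.val_mul, mul_inv_cancel, Units.val_one]
      have e11 := congrFun (congrFun e 1) 1
      have e12 := congrFun (congrFun e 1) 2
      have e21 := congrFun (congrFun e 2) 1
      have e22 := congrFun (congrFun e 2) 2
      simp [-Matrix.coe_units_inv, Matrix.mul_apply, Fin.sum_univ_three, y10, y20] at e11 e12 e21 e22
      simp [-Matrix.coe_units_inv, Matrix.mul_apply, Fin.sum_univ_three, y10, y20, z10, z20, a10, a20, ha.2, e11, e12, e21, e22]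
    · have hab : a * b = b * a := Units.ext (by
        ext i j
        obtain ⟨a10, a20⟩ := hcol a ha.1
        obtain ⟨b10, b20⟩ := hcol b hb.1
        fin_cases i <;> fin_cases j <;>
          simp [Matrix.mul_apply, Fin.sum_univ_three, a10, a20, b10, b20, ha.2, hb.2, hK a ha, hK b hb] <;>
          ring)
      rw [hab, mul_inv_cancel_right, mul_inv_cancel]
      exact one_mem _
  have htK : ∀ y ∈ Y, y * t = t * y := by
    intro y hy
    obtain ⟨y10, y20⟩ := hcol y hy
    obtain ⟨z10, z20⟩ := hcol y⁻¹ (inv_mem hy)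
    have e : (y : Mat) * ((y⁻¹ : GL3) : Mat) = 1 := by rw [← Units.val_mul, mul_inv_cancel, Units.val_one]
    have e11 := congrFun (congrFun e 1) 1
    have e12 := congrFun (congrFun e 1) 2
    have e21 := congrFun (congrFun e 2) 1
    have e22 := congrFun (congrFun e 2) 2
    simp [-Matrix.coe_units_inv, Matrix.mul_apply, Fin.sum_univ_three, y10, y20] at e11 e12 e21 e22
    have hz : y * t * y⁻¹ * t ∈ K := by
      refine ⟨mul_mem (mul_mem (mul_mem hy htY) (inv_mem hy)) htY, ?_⟩
      simp [-Matrix.coe_units_inv, Matrix.mul_apply, Fin.sum_univ_three, Matrix.diagonal, htM, y10, y20]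
      refine ⟨?_, ?_, ?_, ?_⟩ <;> first
        | linear_combination e11 | linear_combination e12 | linear_combination e21 | linear_combination e22
        | linear_combination -e11 | linear_combination -e12 | linear_combination -e21 | linear_combination -e22
    obtain ⟨c, hc⟩ := (mem_scalars_iff _).1 (hKs hz)
    have h1 : (c : F) = 1 := by
      have := hz.2.1
      rw [hc] at this
      simpa using this
    have h2' : y * t * y⁻¹ * t = 1 := Units.ext (by rw [hc, h1, one_smul, Units.val_one])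
    have htt : t * t = 1 := by rw [ht, ← map_mul, hss, map_one]
    calc y * t = y * t * y⁻¹ * t * t * y := by rw [mul_assoc _ t t, htt, mul_one, inv_mul_cancel_right]
      _ = t * y := by rw [h2', one_mul]
  have hcen : Subgroup.zpowers t ≤ scalars (Fin 3) F := by
    refine hR' _ (Subgroup.zpowers_le.2 htY) (fun y hy a ha => ?_) (fun a ha b hb => ?_)
    · obtain ⟨k, rfl⟩ := Subgroup.mem_zpowers_iff.1 ha
      rw [← conj_zpow, htK y hy, mul_inv_cancel_right]
      exact Subgroup.zpow_mem_zpowers t k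
    · obtain ⟨i, rfl⟩ := Subgroup.mem_zpowers_iff.1 ha
      obtain ⟨j, rfl⟩ := Subgroup.mem_zpowers_iff.1 hb
      rw [((Commute.refl t).zpow_zpow i j).eq, mul_inv_cancel_right, mul_inv_cancel]
      exact one_mem _
  exact not_scalar_of_involution (commutator_le_sl X hs) hs1 hss
    ((conj_mem_scalars_iff B).1 (hcen (Subgroup.mem_zpowers t)))

lemma commute_fin_two {z w w' : Matrix (Fin 2) (Fin 2) F}
    (hz : z 0 1 ≠ 0 ∨ z 1 0 ≠ 0 ∨ z 0 0 ≠ z 1 1) (h : w * z = z * w) (h' : w' * z = z * w') :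
    w * w' = w' * w := by
  have e : ∀ u : Matrix (Fin 2) (Fin 2) F, u * z = z * u →
      u 0 1 * z 1 0 = z 0 1 * u 1 0 ∧ u 0 1 * (z 1 1 - z 0 0) = z 0 1 * (u 1 1 - u 0 0) ∧
        u 1 0 * (z 0 0 - z 1 1) = z 1 0 * (u 0 0 - u 1 1) := fun u hu => by
    have a := congrFun (congrFun hu 0) 0
    have b := congrFun (congrFun hu 0) 1
    have c := congrFun (congrFun hu 1) 0
    simp [Matrix.mul_apply, Fin.sum_univ_two] at a b c
    exact ⟨by linear_combination a, by linear_combination b, by linear_combination c⟩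
  obtain ⟨a1, a2, a3⟩ := e w h
  obtain ⟨b1, b2, b3⟩ := e w' h'
  have k1 : w 0 1 * w' 1 0 = w' 0 1 * w 1 0 := by
    rcases hz with hz | hz | hz
    · refine mul_left_cancel₀ hz ?_
      linear_combination w' 0 1 * a1 - w 0 1 * b1
    · refine mul_left_cancel₀ hz ?_
      linear_combination w' 1 0 * a1 - w 1 0 * b1
    · refine mul_left_cancel₀ (sub_ne_zero.2 hz) ?_
      have : w 0 1 * z 1 0 = z 0 1 * w 1 0 := a1
      by_cases h01 : z 0 1 = 0
      · have hw : w 0 1 = 0 := (mul_eq_zero.1 (by rw [h01] at a2; linear_combination a2 :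
          w 0 1 * (z 1 1 - z 0 0) = 0)).resolve_right (sub_ne_zero.2 (Ne.symm hz))
        have hw' : w' 0 1 = 0 := (mul_eq_zero.1 (by rw [h01] at b2; linear_combination b2 :
          w' 0 1 * (z 1 1 - z 0 0) = 0)).resolve_right (sub_ne_zero.2 (Ne.symm hz))
        rw [hw, hw']; ring
      · refine mul_left_cancel₀ h01 ?_
        linear_combination (z 0 0 - z 1 1) * w' 0 1 * a1 - (z 0 0 - z 1 1) * w 0 1 * b1
  have k2 : w 0 1 * (w' 1 1 - w' 0 0) = w' 0 1 * (w 1 1 - w 0 0) := by
    by_cases h01 : z 0 1 = 0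
    · by_cases h10 : z 1 0 = 0
      · have hz' : z 0 0 ≠ z 1 1 := by tauto
        have hw : w 0 1 = 0 := (mul_eq_zero.1 (by rw [h01] at a2; linear_combination a2 :
          w 0 1 * (z 1 1 - z 0 0) = 0)).resolve_right (sub_ne_zero.2 (Ne.symm hz'))
        have hw' : w' 0 1 = 0 := (mul_eq_zero.1 (by rw [h01] at b2; linear_combination b2 :
          w' 0 1 * (z 1 1 - z 0 0) = 0)).resolve_right (sub_ne_zero.2 (Ne.symm hz'))
        rw [hw, hw']; ring
      · have hw : w 0 1 = 0 := (mul_eq_zero.1 (by rw [h01] at a1; linear_combination a1 :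
          w 0 1 * z 1 0 = 0)).resolve_right h10
        have hw' : w' 0 1 = 0 := (mul_eq_zero.1 (by rw [h01] at b1; linear_combination b1 :
          w' 0 1 * z 1 0 = 0)).resolve_right h10
        rw [hw, hw']; ring
    · refine mul_left_cancel₀ h01 ?_
      linear_combination w' 0 1 * a2 - w 0 1 * b2
  have k3 : w 1 0 * (w' 0 0 - w' 1 1) = w' 1 0 * (w 0 0 - w 1 1) := by
    by_cases h10 : z 1 0 = 0
    · by_cases h01 : z 0 1 = 0
      · have hz' : z 0 0 ≠ z 1 1 := by tauto
        have hw : w 1 0 = 0 := (mul_eq_zero.1 (by rw [h10] at a3; linear_combination a3 :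
          w 1 0 * (z 0 0 - z 1 1) = 0)).resolve_right (sub_ne_zero.2 hz')
        have hw' : w' 1 0 = 0 := (mul_eq_zero.1 (by rw [h10] at b3; linear_combination b3 :
          w' 1 0 * (z 0 0 - z 1 1) = 0)).resolve_right (sub_ne_zero.2 hz')
        rw [hw, hw']; ring
      · have hw : w 1 0 = 0 := (mul_eq_zero.1 (by rw [h10] at a1; linear_combination -a1 :
          z 0 1 * w 1 0 = 0)).resolve_left h01
        have hw' : w' 1 0 = 0 := (mul_eq_zero.1 (by rw [h10] at b1; linear_combination -b1 :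
          z 0 1 * w' 1 0 = 0)).resolve_left h01
        rw [hw, hw']; ring
    · refine mul_left_cancel₀ h10 ?_
      linear_combination w' 1 0 * a3 - w 1 0 * b3
  ext i j
  fin_cases i <;> fin_cases j <;> simp [Matrix.mul_apply, Fin.sum_univ_two]
  · linear_combination k1
  · linear_combination k2
  · linear_combination k3
  · linear_combination -k1

/-- Two non-solvable subgroups do not commute modulo scalars. -/
theorem false_of_commute [Finite F] (h2 : (2 : F) ≠ 0) {A B : Subgroup GL3}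
    (hA : ¬ Group.IsSolvable A) (hB : ¬ Group.IsSolvable B)
    (hc : ∀ a ∈ A, ∀ b ∈ B, a * b * a⁻¹ * b⁻¹ ∈ scalars (Fin 3) F) : False := by
  set A₁ := ⁅A, A⁆ with hA₁def
  set B₁ := ⁅B, B⁆ with hB₁def
  have hA₁ := not_solvable_commutator hA
  have hB₁ := not_solvable_commutator hB
  have hcomm : ∀ a ∈ A₁, ∀ b ∈ B, Commute a b := by
    intro a ha b hb
    have hle : A₁ ≤ Subgroup.centralizer ({b} : Set GL3) := by
      refine Subgroup.commutator_le.2 fun x hx y hy => Subgroup.mem_centralizer_singleton_iff.2 ?_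
      have hx' := hc x hx b hb
      have hy' := hc y hy b hb
      set z := x * b * x⁻¹ * b⁻¹ with hz
      set u := y * b * y⁻¹ * b⁻¹ with hu
      have ex : x * b = z * b * x := by rw [hz]; group
      have ey : y * b = u * b * y := by rw [hu]; group
      have ex' : x⁻¹ * b = z⁻¹ * b * x⁻¹ := by
        calc x⁻¹ * b = x⁻¹ * (z⁻¹ * (z * b * x)) * x⁻¹ := by group
          _ = x⁻¹ * (z⁻¹ * (x * b)) * x⁻¹ := by rw [ex]
          _ = z⁻¹ * b * x⁻¹ := by
            rw [← mul_assoc z⁻¹, (scalar_comm (inv_mem hx') x).eq]; group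
      have ey' : y⁻¹ * b = u⁻¹ * b * y⁻¹ := by
        calc y⁻¹ * b = y⁻¹ * (u⁻¹ * (u * b * y)) * y⁻¹ := by group
          _ = y⁻¹ * (u⁻¹ * (y * b)) * y⁻¹ := by rw [ey]
          _ = u⁻¹ * b * y⁻¹ := by
            rw [← mul_assoc u⁻¹, (scalar_comm (inv_mem hy') y).eq]; group
      rw [commutatorElement_def]
      calc x * y * x⁻¹ * y⁻¹ * b = x * y * x⁻¹ * (u⁻¹ * b * y⁻¹) := by rw [← ey']; group
        _ = u⁻¹ * (x * y * (x⁻¹ * b) * y⁻¹) := by
          rw [show x * y * x⁻¹ * (u⁻¹ * b * y⁻¹) = (x * y * x⁻¹) * u⁻¹ * (b * y⁻¹) by group,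
            ← (scalar_comm (inv_mem hy') _).eq]
          group
        _ = u⁻¹ * z⁻¹ * (x * (y * b) * x⁻¹ * y⁻¹) := by
          rw [ex', show x * y * (z⁻¹ * b * x⁻¹) * y⁻¹ = x * y * z⁻¹ * (b * x⁻¹ * y⁻¹) by group,
            ← (scalar_comm (inv_mem hx') _).eq]
          group
        _ = u⁻¹ * z⁻¹ * u * ((x * b) * y * x⁻¹ * y⁻¹) := by
          rw [ey, show x * (u * b * y) * x⁻¹ * y⁻¹ = x * u * (b * y * x⁻¹ * y⁻¹) by group,
            ← (scalar_comm hy' _).eq]
          group
        _ = b * (x * y * x⁻¹ * y⁻¹) := by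
          rw [ex, mul_assoc u⁻¹ z⁻¹ u, (scalar_comm (inv_mem hx') u).eq]; group
    exact Subgroup.mem_centralizer_singleton_iff.1 (hle ha)
  obtain ⟨s, hs, hs1, hss⟩ := exists_involution hA₁
  have hsA : s ∈ A₁ := (Subgroup.commutator_le.2 fun a ha b hb =>
    mul_mem (mul_mem (mul_mem ha hb) (inv_mem ha)) (inv_mem hb)) hs
  obtain ⟨P, hP⟩ := involution_diag h2 (commutator_le_sl A₁ hs) hs1 hss
  set e := MulAut.conj P with he
  set t : GL3 := e s with ht
  have htM : (t : Mat) = Matrix.diagonal ![1, -1, -1] := hP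
  set X := A₁.map e.toMonoidHom with hX
  set Y := B₁.map e.toMonoidHom with hY
  have hXY : ∀ x ∈ X, ∀ y ∈ Y, Commute x y := by
    rintro _ ⟨x, hx, rfl⟩ _ ⟨y, hy, rfl⟩
    exact (hcomm x hx y ((Subgroup.commutator_le.2 fun a ha b hb =>
      mul_mem (mul_mem (mul_mem ha hb) (inv_mem ha)) (inv_mem hb)) hy)).map e.toMonoidHom
  have hblock : ∀ g : GL3, Commute g t →
      (g : Mat) 0 1 = 0 ∧ (g : Mat) 0 2 = 0 ∧ (g : Mat) 1 0 = 0 ∧ (g : Mat) 2 0 = 0 := by
    intro g hg
    have h := congrArg Units.val hg.eq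
    rw [Units.val_mul, Units.val_mul, htM] at h
    have e01 := congrFun (congrFun h 0) 1
    have e02 := congrFun (congrFun h 0) 2
    have e10 := congrFun (congrFun h 1) 0
    have e20 := congrFun (congrFun h 2) 0
    simp [Matrix.mul_apply, Fin.sum_univ_three, Matrix.diagonal] at e01 e02 e10 e20
    refine ⟨?_, ?_, ?_, ?_⟩ <;> refine (mul_eq_zero.1 (?_ : (2 : F) * _ = 0)).resolve_left h2
    · linear_combination (-1 : F) * e01
    · linear_combination (-1 : F) * e02
    · linear_combination e10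
    · linear_combination e20
  have hYt : ∀ y ∈ Y, Commute y t := fun y hy => (hXY t ⟨s, hsA, rfl⟩ y hy).symm
  -- `t` lies in `Y`
  have hYns : ¬ Group.IsSolvable Y := not_solvable_map hB₁ e
  have htY : t ∈ Y := by
    obtain ⟨r, hr, hr1, hrr⟩ := exists_involution hYns
    have hrY : r ∈ Y := (Subgroup.commutator_le.2 fun a ha b hb =>
      mul_mem (mul_mem (mul_mem ha hb) (inv_mem ha)) (inv_mem hb)) hr
    have hfix : ∀ g ∈ Y, ∃ c : F, (g : Mat) *ᵥ Pi.single 0 1 = c • (Pi.single 0 1 : Fin 3 → F) := by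
      intro g hg
      obtain ⟨-, -, g10, g20⟩ := hblock g (hYt g hg)
      refine ⟨(g : Mat) 0 0, funext fun i => ?_⟩
      fin_cases i <;> simp [g10, g20]
    obtain ⟨r01, r02, r10, r20⟩ := hblock r (hYt r hrY)
    have r00 : (r : Mat) 0 0 = 1 := by simpa using congrFun (commutator_fix hfix r hr) 0
    have hd := mem_specialLinear.1 (commutator_le_sl Y hr)
    rw [Matrix.det_fin_three, r00, r01, r02, r10, r20] at hd
    have hsq := congrArg Units.val hrr
    rw [Units.val_mul, Units.val_one] at hsq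
    have q11 := congrFun (congrFun hsq 1) 1
    have q12 := congrFun (congrFun hsq 1) 2
    have q21 := congrFun (congrFun hsq 2) 1
    have q22 := congrFun (congrFun hsq 2) 2
    simp [Matrix.mul_apply, Fin.sum_univ_three, r10, r20] at q11 q12 q21 q22
    have had : (r : Mat) 1 1 = (r : Mat) 2 2 := by
      linear_combination (-((r : Mat) 1 1)) * hd + (r : Mat) 2 2 * q11 - (r : Mat) 2 1 * q12
    rw [← had] at hd q12 q21
    have hb0 : (r : Mat) 1 2 = 0 := (mul_eq_zero.1 (by
      linear_combination (-((r : Mat) 1 2)) * hd + (-((r : Mat) 1 2)) * q11 + (r : Mat) 1 1 * q12 :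
      (2 : F) * (r : Mat) 1 2 = 0)).resolve_left h2
    have hc0 : (r : Mat) 2 1 = 0 := (mul_eq_zero.1 (by
      linear_combination (-((r : Mat) 2 1)) * hd + (-((r : Mat) 2 1)) * q11 + (r : Mat) 1 1 * q21 :
      (2 : F) * (r : Mat) 2 1 = 0)).resolve_left h2
    have ha : (r : Mat) 1 1 * (r : Mat) 1 1 = 1 := by rw [hb0] at q11; linear_combination q11
    suffices r = t by rwa [← this]
    rcases mul_self_eq_one_iff.1 ha with h | h
    · exfalso
      refine hr1 (Units.ext ?_)
      rw [Units.val_one]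
      ext i j
      fin_cases i <;> fin_cases j <;> simp [r00, r01, r02, r10, r20, hb0, hc0, h, ← had]
    · refine Units.ext ?_
      rw [htM]
      ext i j
      fin_cases i <;> fin_cases j <;> simp [r00, r01, r02, r10, r20, hb0, hc0, h, ← had]
  have hXt : ∀ x ∈ X, Commute x t := fun x hx => hXY x hx t htY
  let blk : GL3 → Matrix (Fin 2) (Fin 2) F := fun g =>
    !![(g : Mat) 1 1, (g : Mat) 1 2; (g : Mat) 2 1, (g : Mat) 2 2]
  have hblk : ∀ g h : GL3, Commute g t → Commute h t → blk (g * h) = blk g * blk h := by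
    intro g h hg hh
    obtain ⟨-, -, g10, g20⟩ := hblock g hg
    ext i j
    fin_cases i <;> fin_cases j <;> simp [blk, Matrix.mul_apply, Fin.sum_univ_three, Fin.sum_univ_two, g10, g20]
  have hext : ∀ g h : GL3, Commute g t → Commute h t → blk g * blk h = blk h * blk g → Commute g h := by
    intro g h hg hh he'
    rw [← hblk g h hg hh, ← hblk h g hh hg] at he'
    obtain ⟨g01, g02, g10, g20⟩ := hblock g hg
    obtain ⟨h01, h02, h10, h20⟩ := hblock h hh
    refine Units.ext ?_
    have k11 := congrFun (congrFun he' 0) 0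
    have k12 := congrFun (congrFun he' 0) 1
    have k21 := congrFun (congrFun he' 1) 0
    have k22 := congrFun (congrFun he' 1) 1
    simp [blk] at k11 k12 k21 k22
    ext i j
    fin_cases i <;> fin_cases j
    all_goals first
      | exact k11 | exact k12 | exact k21 | exact k22
      | (simp [Matrix.mul_apply, Fin.sum_univ_three, g01, g02, g10, g20, h01, h02, h10, h20]; try ring)
  by_cases hscal : ∀ x ∈ X, blk x 0 1 = 0 ∧ blk x 1 0 = 0 ∧ blk x 0 0 = blk x 1 1
  · refine not_solvable_map hA₁ e (solvable_of_comm fun x hx y hy => hext x y (hXt x hx) (hXt y hy) ?_)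
    obtain ⟨x1, x2, x3⟩ := hscal x hx
    obtain ⟨y1, y2, y3⟩ := hscal y hy
    ext i j
    fin_cases i <;> fin_cases j <;> simp [Matrix.mul_apply, Fin.sum_univ_two, x1, x2, x3, y1, y2, y3] <;> ring
  · push Not at hscal
    obtain ⟨x, hx, hne⟩ := hscal
    refine hYns (solvable_of_comm fun y hy y' hy' => hext y y' (hYt y hy) (hYt y' hy') ?_)
    refine commute_fin_two (z := blk x) (by tauto) ?_ ?_ <;>
      rw [← hblk _ _ (hYt _ (by assumption)) (hXt x hx), ← hblk _ _ (hXt x hx) (hYt _ (by assumption)),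
        ((hXY x hx _ (by assumption)).eq)]

end CfsgLib.Geo.D3
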