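/-
A subgroup of PSL of dimension three and odd characteristic without abelian normal subgroups has a core.
-/
import Cfsg.Agent.Geo.DimThree.SocleBlock

set_option autoImplicit false
set_option linter.style.haveILetI false

namespace CfsgLib.Geo.D3

open Matrix Cfsg Cfsg.Geo CfsgLib.Geo
open scoped commutatorElement

variable {F : Type*} [Field F]

local notation "Mat" => Matrix (Fin 3) (Fin 3) F
local notation "GL3" => GL (Fin 3) F

lemma mem_span_iff_exists {v w : Fin 3 → F} : w ∈ F ∙ v ↔ ∃ c : F, w = c • v := by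
  rw [Submodule.mem_span_singleton]
  exact exists_congr fun c => eq_comm

/-- A group fixing neither a point nor a line is irreducible. -/
lemma irreducible_of_noPoint {P : Subgroup GL3}
    (h1 : ∀ v : Fin 3 → F, v ≠ 0 → ∃ g ∈ P, (g : Mat) *ᵥ v ∉ F ∙ v)
    (h2 : ∀ φ : Fin 3 → F, φ ≠ 0 → ∃ g ∈ P, φ ᵥ* ((g : GL3) : Mat) ∉ F ∙ φ) :
    ActsIrreducibly (matrixSet P) := by
  intro W hW
  by_contra hc
  push Not at hc
  have hinv : ∀ g ∈ P, ∀ x ∈ W, (g : Mat) *ᵥ x ∈ W := fun g hg x hx =>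
    hW _ ⟨g, hg, rfl⟩ ⟨x, hx, Matrix.toLin'_apply _ _⟩
  have hlt : Module.finrank F W < 3 := by
    simpa [Module.finrank_fin_fun] using Submodule.finrank_lt hc.2
  have hpos : Module.finrank F W ≠ 0 := fun h => hc.1 (Submodule.finrank_eq_zero.1 h)
  rcases (show Module.finrank F W = 1 ∨ Module.finrank F W = 2 by omega) with hd | hd
  · obtain ⟨v, hvW, hv0, -⟩ : ∃ v ∈ W, v ≠ 0 ∧ True := by
      obtain ⟨v, hv, hv0⟩ := Submodule.exists_mem_ne_zero_of_ne_bot hc.1
      exact ⟨v, hv, hv0, trivial⟩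
    obtain ⟨g, hg, hgv⟩ := h1 v hv0
    have heq : F ∙ v = W := Submodule.eq_of_le_of_finrank_eq
      ((Submodule.span_singleton_le_iff_mem _ _).2 hvW) (by rw [finrank_span_singleton hv0, hd])
    exact hgv (heq.symm ▸ hinv g hg v hvW)
  · obtain ⟨f, hf0, hfW⟩ := W.exists_le_ker_of_lt_top (lt_top_iff_ne_top.2 hc.2)
    set φ : Fin 3 → F := fun i => f (Pi.single i 1) with hφ
    have hfφ : ∀ x, φ ⬝ᵥ x = f x := fun x => by
      have : f x = ∑ i, x i • f (Pi.single i 1) := by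
        conv_lhs => rw [pi_eq_sum_univ' x]
        simp [map_sum, map_smul]
      rw [this, dotProduct]
      exact Finset.sum_congr rfl fun i _ => by rw [hφ, smul_eq_mul, mul_comm]
    have hφ0 : φ ≠ 0 := fun h => hf0 (LinearMap.ext fun x => by
      rw [← hfφ x, h, zero_dotProduct, LinearMap.zero_apply])
    have hker : LinearMap.ker f = W := by
      refine (Submodule.eq_of_le_of_finrank_eq hfW ?_).symm
      have h1 := f.finrank_range_add_finrank_ker
      rw [LinearMap.range_eq_top.2 (LinearMap.surjective hf0), finrank_top,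
        Module.finrank_self, Module.finrank_fin_fun] at h1
      omega
    obtain ⟨g, hg, hgφ⟩ := h2 φ hφ0
    obtain ⟨w, hw⟩ := LinearMap.surjective hf0 1
    refine hgφ (mem_span_iff_exists.2 ⟨f ((g : Mat) *ᵥ w), funext fun i => ?_⟩)
    have hmem : Pi.single i (1 : F) - φ i • w ∈ W := by
      rw [← hker, LinearMap.mem_ker, map_sub, map_smul, hw, smul_eq_mul, mul_one, hφ, sub_self]
    have h := hfW (hinv g hg _ hmem)
    rw [LinearMap.mem_ker, Matrix.mulVec_sub, Matrix.mulVec_smul, map_sub, map_smul, sub_eq_zero,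
      ← hfφ, Matrix.dotProduct_mulVec] at h
    rw [dotProduct_single, mul_one] at h
    rw [h, Pi.smul_apply, smul_eq_mul, smul_eq_mul, mul_comm]

/-- The fixed line of a group is the fixed point of the transposed inverse group. -/
lemma contra_fix {X : Subgroup GL3} {φ : Fin 3 → F}
    (h : ∀ g ∈ X, φ ᵥ* ((g : GL3) : Mat) ∈ F ∙ φ) :
    ∀ g ∈ X.map (contra (F := F)).toMonoidHom, ∃ c : F, (g : Mat) *ᵥ φ = c • φ := by
  rintro _ ⟨g, hg, rfl⟩
  obtain ⟨c, hc⟩ := mem_span_iff_exists.1 (h g⁻¹ (inv_mem hg))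
  refine ⟨c, ?_⟩
  show ((g⁻¹ : GL3) : Mat)ᵀ *ᵥ φ = c • φ
  rw [Matrix.mulVec_transpose, hc]

/-- The groups without abelian normal subgroup modulo scalars are irreducible. -/
theorem noPoint_noLine_of_radFree [Finite F] (h2 : (2 : F) ≠ 0) {X : Subgroup GL3}
    (hX : X ≤ specialLinear (Fin 3) F) (hR : RadFree X) (hns : ¬ Group.IsSolvable X) :
    (∀ v : Fin 3 → F, v ≠ 0 → ∃ g ∈ X, (g : Mat) *ᵥ v ∉ F ∙ v) ∧
    (∀ φ : Fin 3 → F, φ ≠ 0 → ∃ g ∈ X, φ ᵥ* ((g : GL3) : Mat) ∉ F ∙ φ) := by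
  constructor
  · intro v hv
    by_contra hc
    push Not at hc
    exact false_of_point h2 hX hR hns hv fun g hg => mem_span_iff_exists.1 (hc g hg)
  · intro φ hφ
    by_contra hc
    push Not at hc
    refine false_of_point h2 ?_ (hR.map contra fun g => contra_mem_scalars_iff)
      (not_solvable_map hns contra) hφ (contra_fix hc)
    rintro _ ⟨g, hg, rfl⟩
    exact contra_mem_sl (hX hg)

/-- A non-solvable normal subgroup of an irreducible group fixes no point. -/
lemma noPoint_of_normal {X P : Subgroup GL3} (hirr : ActsIrreducibly (matrixSet X))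
    (hn : ∀ x ∈ X, ∀ g ∈ P, x * g * x⁻¹ ∈ P) (hns : ¬ Group.IsSolvable P) :
    ∀ v : Fin 3 → F, v ≠ 0 → ∃ g ∈ P, (g : Mat) *ᵥ v ∉ F ∙ v := by
  intro v hv
  by_contra hc
  push Not at hc
  refine hns (solvable_of_comm fun a ha b hb => Units.ext ?_)
  let S : Set (Fin 3 → F) := {w | ∀ g ∈ P, ∃ c : F, (g : Mat) *ᵥ w = c • w}
  have hS : ∀ x ∈ X, ∀ w ∈ S, (x : Mat) *ᵥ w ∈ S := by
    intro x hx w hw g hg
    obtain ⟨c, hcw⟩ := hw (x⁻¹ * g * x) (by simpa using hn x⁻¹ (inv_mem hx) g hg)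
    refine ⟨c, ?_⟩
    rw [← Matrix.mulVec_smul, ← hcw, ← mul_mulVec, ← mul_mulVec, show x * (x⁻¹ * g * x) = g * x by group]
  let W : Submodule F (Fin 3 → F) := Submodule.span F S
  have hWtop : W = ⊤ := by
    refine (hirr W ?_).resolve_left fun h => ?_
    · rintro _ ⟨x, hx, rfl⟩
      rw [Submodule.map_span, Submodule.span_le]
      rintro _ ⟨w, hw, rfl⟩
      rw [Matrix.toLin'_apply]
      exact Submodule.subset_span (hS x hx w hw)
    · exact hv ((Submodule.eq_bot_iff _).1 h v (Submodule.subset_span fun g hg =>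
        mem_span_iff_exists.1 (hc g hg)))
  refine Matrix.ext_iff_mulVec.2 fun w => ?_
  have hw : w ∈ W := hWtop ▸ Submodule.mem_top
  induction hw using Submodule.span_induction with
  | mem u hu =>
    obtain ⟨c, hc'⟩ := hu a ha
    obtain ⟨d, hd⟩ := hu b hb
    rw [mul_mulVec, mul_mulVec, hd, hc', Matrix.mulVec_smul, Matrix.mulVec_smul, hc', hd, smul_comm]
  | zero => simp
  | add u u' _ _ h h' => rw [Matrix.mulVec_add, Matrix.mulVec_add, h, h']
  | smul c u _ h => rw [Matrix.mulVec_smul, Matrix.mulVec_smul, h]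

lemma irreducible_contra {X : Subgroup GL3} (h : (∀ v : Fin 3 → F, v ≠ 0 → ∃ g ∈ X, (g : Mat) *ᵥ v ∉ F ∙ v) ∧
    (∀ φ : Fin 3 → F, φ ≠ 0 → ∃ g ∈ X, φ ᵥ* ((g : GL3) : Mat) ∉ F ∙ φ)) :
    ActsIrreducibly (matrixSet (X.map (contra (F := F)).toMonoidHom)) := by
  refine irreducible_of_noPoint (fun v hv => ?_) (fun φ hφ => ?_)
  · obtain ⟨g, hg, hgv⟩ := h.2 v hv
    refine ⟨contra g⁻¹, ⟨g⁻¹, inv_mem hg, rfl⟩, fun hm => hgv ?_⟩
    rw [contra_val, inv_inv, Matrix.mulVec_transpose] at hm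
    exact hm
  · obtain ⟨g, hg, hgv⟩ := h.1 φ hφ
    refine ⟨contra g⁻¹, ⟨g⁻¹, inv_mem hg, rfl⟩, fun hm => hgv ?_⟩
    rw [contra_val, inv_inv, Matrix.vecMul_transpose] at hm
    exact hm

/-- A non-solvable normal subgroup is absolutely irreducible. -/
theorem absIrred_of_normal [Finite F] (h2 : (2 : F) ≠ 0) {X P : Subgroup GL3}
    (hX : X ≤ specialLinear (Fin 3) F) (hR : RadFree X) (hPX : P ≤ X)
    (hn : ∀ x ∈ X, ∀ g ∈ P, x * g * x⁻¹ ∈ P) (hns : ¬ Group.IsSolvable P) :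
    ActsAbsolutelyIrreducibly (matrixSet P) := by
  have hXns : ¬ Group.IsSolvable X := fun h => hns (by
    haveI := h
    exact Group.isSolvable_of_isSolvable_injective (f := Subgroup.inclusion hPX) (Subgroup.inclusion_injective hPX))
  have hXi := noPoint_noLine_of_radFree h2 hX hR hXns
  have hpt := noPoint_of_normal (irreducible_of_noPoint hXi.1 hXi.2) hn hns
  have hirr : ActsIrreducibly (matrixSet P) := by
    refine irreducible_of_noPoint hpt fun φ hφ => ?_
    obtain ⟨g', ⟨g, hg, rfl⟩, hgv⟩ := noPoint_of_normal (X := X.map (contra (F := F)).toMonoidHom)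
      (P := P.map (contra (F := F)).toMonoidHom) (irreducible_contra hXi)
      (by
        rintro _ ⟨x, hx, rfl⟩ _ ⟨g, hg, rfl⟩
        exact ⟨x * g * x⁻¹, hn x hx g hg, by simp⟩) (not_solvable_map hns contra) φ hφ
    refine ⟨g⁻¹, inv_mem hg, fun hm => hgv ?_⟩
    show ((g⁻¹ : GL3) : Mat)ᵀ *ᵥ φ ∈ F ∙ φ
    rwa [Matrix.mulVec_transpose]
  refine ⟨hirr, fun M hM => ?_⟩
  by_contra hne
  push Not at hne
  have hMc : ∀ g ∈ P, M * (g : Mat) = (g : Mat) * M := fun g hg => hM _ ⟨g, hg, rfl⟩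
  -- no eigenvalue
  have hroots : M.charpoly.roots = 0 := by
    refine Multiset.eq_zero_of_forall_notMem fun a ha => ?_
    have ha' : M.charpoly.eval a = 0 := (Polynomial.mem_roots'.1 ha).2
    rw [Matrix.eval_charpoly] at ha'
    obtain ⟨v, hv, h0⟩ := Matrix.exists_mulVec_eq_zero_iff.2 ha'
    let W : Submodule F (Fin 3 → F) := LinearMap.ker (Matrix.scalar (Fin 3) a - M).toLin'
    have hWtop : W = ⊤ := by
      refine (hirr W ?_).resolve_left fun h => hv ((Submodule.eq_bot_iff _).1 h v (LinearMap.mem_ker.2 (by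
        rw [Matrix.toLin'_apply, h0])))
      rintro _ ⟨g, hg, rfl⟩ _ ⟨x, hx, rfl⟩
      have hx' : (Matrix.scalar (Fin 3) a - M) *ᵥ x = 0 := by
        have := LinearMap.mem_ker.1 hx; rwa [Matrix.toLin'_apply] at this
      refine LinearMap.mem_ker.2 ?_
      rw [Matrix.toLin'_apply, Matrix.toLin'_apply, Matrix.mulVec_mulVec,
        show (Matrix.scalar (Fin 3) a - M) * (g : Mat) = (g : Mat) * (Matrix.scalar (Fin 3) a - M) by
          rw [sub_mul, mul_sub, hMc g hg, (Matrix.scalar_commute a (fun r => Commute.all a r) (g : Mat)).eq],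
        ← Matrix.mulVec_mulVec, hx', Matrix.mulVec_zero]
    refine hne a (Matrix.ext_iff_mulVec.2 fun x => ?_)
    have hx : (Matrix.scalar (Fin 3) a - M).toLin' x = 0 := LinearMap.mem_ker.1 (hWtop ▸ Submodule.mem_top :
      x ∈ W)
    rw [Matrix.toLin'_apply, Matrix.sub_mulVec, sub_eq_zero, Matrix.scalar_apply,
      ← Matrix.smul_one_eq_diagonal] at hx
    exact hx.symm
  have hdeg : M.charpoly.natDegree = 3 := by rw [Matrix.charpoly_natDegree_eq_dim, Fintype.card_fin]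
  have hirrP : Irreducible M.charpoly :=
    (Polynomial.irreducible_iff_roots_eq_zero_of_degree_le_three (by omega) (by omega)).2 hroots
  -- the powers of `M` span from any vector
  set v : Fin 3 → F := Pi.single 0 1
  have hv : v ≠ 0 := by simp [v]
  let L : (Fin 3 → F) →ₗ[F] Fin 3 → F :=
    { toFun := fun c => (∑ i : Fin 3, c i • M ^ (i : ℕ)) *ᵥ v
      map_add' := fun c d => by simp [add_smul, Finset.sum_add_distrib, Matrix.add_mulVec]
      map_smul' := fun r c => by simp [← smul_smul, ← Finset.smul_sum, Matrix.smul_mulVec] }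
  have hL : Function.Injective L := by
    rw [← LinearMap.ker_eq_bot, Submodule.eq_bot_iff]
    intro c hc
    by_contra hc0
    let q : Polynomial F := ∑ i : Fin 3, Polynomial.C (c i) * Polynomial.X ^ (i : ℕ)
    have hcoef : ∀ i : Fin 3, q.coeff (i : ℕ) = c i := fun i => by
      simp only [q, Polynomial.finset_sum_coeff, Polynomial.coeff_C_mul, Polynomial.coeff_X_pow, mul_ite,
        mul_one, mul_zero, Fin.val_inj, Finset.sum_ite_eq, Finset.mem_univ, if_true]
    have hq0 : q ≠ 0 := fun h => hc0 (funext fun i => by rw [← hcoef, h, Polynomial.coeff_zero, Pi.zero_apply])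
    have hqd : q.natDegree ≤ 2 := Polynomial.natDegree_sum_le_of_forall_le _ _ fun i _ =>
      (Polynomial.natDegree_C_mul_X_pow_le _ _).trans (Nat.le_of_lt_succ i.isLt)
    have hcop : IsCoprime M.charpoly q := hirrP.coprime_iff_not_dvd.2 fun hd => by
      have := Polynomial.natDegree_le_of_dvd hd hq0
      omega
    obtain ⟨a, b, hab⟩ := hcop
    have h1 := congrArg (Polynomial.aeval M) hab
    rw [map_add, map_mul, map_mul, Matrix.aeval_self_charpoly, mul_zero, zero_add, map_one] at h1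
    have hqM : Polynomial.aeval M q *ᵥ v = 0 := by
      have : Polynomial.aeval M q = ∑ i : Fin 3, c i • M ^ (i : ℕ) := by
        simp [q, map_sum, Algebra.smul_def]
      rw [this]; exact LinearMap.mem_ker.1 hc
    refine hv ?_
    rw [← Matrix.one_mulVec v, ← h1, ← Matrix.mulVec_mulVec, hqM, Matrix.mulVec_zero]
  have hLs : Function.Surjective L := LinearMap.injective_iff_surjective.1 hL
  have hcomb : ∀ g ∈ P, ∃ c : Fin 3 → F, (g : Mat) = ∑ i : Fin 3, c i • M ^ (i : ℕ) := by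
    intro g hg
    obtain ⟨c, hc⟩ := hLs ((g : Mat) *ᵥ v)
    refine ⟨c, Matrix.ext_iff_mulVec.2 fun x => ?_⟩
    obtain ⟨d, rfl⟩ := hLs x
    have hcm : ∀ (e : Fin 3 → F) (N : Mat), Commute N M → Commute N (∑ i : Fin 3, e i • M ^ (i : ℕ)) :=
      fun e N hN => Commute.sum_right _ _ _ fun i _ => (hN.pow_right _).smul_right _
    show (g : Mat) *ᵥ ((∑ i : Fin 3, d i • M ^ (i : ℕ)) *ᵥ v) = _ *ᵥ ((∑ i : Fin 3, d i • M ^ (i : ℕ)) *ᵥ v)
    have hc' : (∑ i : Fin 3, c i • M ^ (i : ℕ)) *ᵥ v = (g : Mat) *ᵥ v := hc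
    rw [Matrix.mulVec_mulVec, Matrix.mulVec_mulVec, (hcm d _ (hMc g hg).symm).eq,
      (hcm d _ (hcm c _ (Commute.refl M)).symm).eq, ← Matrix.mulVec_mulVec, ← Matrix.mulVec_mulVec, hc']
  refine hns (solvable_of_comm fun a ha b hb => Units.ext ?_)
  obtain ⟨c, hc⟩ := hcomb a ha
  rw [Units.val_mul, Units.val_mul, hc]
  refine (Commute.sum_left _ _ _ fun i _ => Commute.smul_left ?_ _).eq
  exact Commute.pow_left (hMc b hb) _

/-- A minimal normal subgroup is simple when abelian normal subgroups and commuting perfect subgroups do not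
occur. -/
theorem isSimple_of_minimal {H : Type*} [Group H] [Finite H] {N : Subgroup H} [hNn : N.Normal] (hN0 : N ≠ ⊥)
    (hmin : ∀ K : Subgroup H, K.Normal → K ≤ N → K = ⊥ ∨ K = N)
    (hab : ∀ K : Subgroup H, K.Normal → (∀ x ∈ K, ∀ y ∈ K, Commute x y) → K = ⊥)
    (hcomm : ∀ K L : Subgroup H, K ≠ ⊥ → L ≠ ⊥ → ⁅K, K⁆ = K → ⁅L, L⁆ = L →
      (∀ x ∈ K, ∀ y ∈ L, Commute x y) → False) : IsSimpleGroup N := by
  obtain ⟨x, hx, hx1⟩ := N.bot_or_exists_ne_one.resolve_left hN0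
  haveI : Nontrivial N := ⟨⟨⟨x, hx⟩, 1, fun h => hx1 (congrArg Subtype.val h)⟩⟩
  refine ⟨fun M hM => ?_⟩
  by_contra hc
  push Not at hc
  replace hc : M ≠ ⊥ ∧ M ≠ ⊤ := hc
  haveI := hM
  obtain ⟨S, ⟨hSn, hS0, hSM⟩, hSmin⟩ := Set.Finite.exists_minimal
    (s := {S : Subgroup N | S.Normal ∧ S ≠ ⊥ ∧ S ≤ M}) (Set.toFinite _) ⟨M, hM, hc.1, le_rfl⟩
  haveI := hSn
  set S' := S.map N.subtype with hS'
  have hS'N : S' ≤ N := Subgroup.map_subtype_le _
  have hS'0 : S' ≠ ⊥ := by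
    rw [hS', ne_eq, Subgroup.map_eq_bot_iff_of_injective _ N.subtype_injective]; exact hS0
  have hS'ne : S' ≠ N := fun h => hc.2 (top_le_iff.1 fun n _ => hSM (by
    have : (n : H) ∈ S' := h.symm ▸ n.2
    obtain ⟨m, hm, e⟩ := this
    rwa [Subtype.ext e] at hm))
  have hinN : ∀ K : Subgroup H, K ≤ S' → (∀ n ∈ N, ∀ k ∈ K, n * k * n⁻¹ ∈ K) → K = ⊥ ∨ K = S' := by
    intro K hK hKn
    have hle : K.subgroupOf N ≤ S := fun k hk => by
      obtain ⟨m, hm, e⟩ := hK hk
      rwa [Subtype.ext e] at hm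
    have hn' : (K.subgroupOf N).Normal := ⟨fun k hk n => Subgroup.mem_subgroupOf.2 (hKn n n.2 k hk)⟩
    by_cases h : K.subgroupOf N = ⊥
    · refine Or.inl ((Subgroup.eq_bot_iff_forall _).2 fun k hk => ?_)
      have : (⟨k, hS'N (hK hk)⟩ : N) ∈ K.subgroupOf N := hk
      rw [h, Subgroup.mem_bot] at this
      exact congrArg Subtype.val this
    · refine Or.inr (le_antisymm hK ?_)
      rintro _ ⟨m, hm, rfl⟩
      exact (hSmin ⟨hn', h, hle.trans hSM⟩ hle) hm
  have hNS : ∀ n ∈ N, ∀ s ∈ S', n * s * n⁻¹ ∈ S' := by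
    rintro n hn _ ⟨s, hs, rfl⟩
    exact ⟨⟨n, hn⟩ * s * ⟨n, hn⟩⁻¹, hSn.conj_mem s hs _, rfl⟩
  by_cases hall : ∀ h : H, ∀ s ∈ S', h * s * h⁻¹ ∈ S'
  · rcases hmin S' ⟨fun s hs h => hall h s hs⟩ hS'N with h | h
    exacts [hS'0 h, hS'ne h]
  push Not at hall
  obtain ⟨h, hh⟩ := hall
  set T := S'.map (MulAut.conj h).toMonoidHom with hT
  have hTN : ∀ n ∈ N, ∀ t ∈ T, n * t * n⁻¹ ∈ T := by
    rintro n hn _ ⟨s, hs, rfl⟩
    refine ⟨(h⁻¹ * n * h) * s * (h⁻¹ * n * h)⁻¹, hNS _ (by simpa using hNn.conj_mem n hn h⁻¹) s hs, ?_⟩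
    show h * _ * h⁻¹ = n * (h * s * h⁻¹) * n⁻¹
    group
  have hTle : T ≤ N := by
    rintro _ ⟨s, hs, rfl⟩
    exact hNn.conj_mem s (hS'N hs) h
  have hST : S' ⊓ T = ⊥ := by
    refine (hinN _ inf_le_left fun n hn k hk => ⟨hNS n hn k hk.1, hTN n hn k hk.2⟩).resolve_right fun e => ?_
    have hle : S' ≤ T := e ▸ inf_le_right
    have heq : S' = T := Subgroup.eq_of_le_of_card_ge hle (by
      rw [hT, Subgroup.card_map_of_injective (MulAut.conj h).injective])
    obtain ⟨s, hs, hsn⟩ := hh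
    exact hsn (heq.symm ▸ ⟨s, hs, rfl⟩)
  have hperf : ⁅S', S'⁆ = S' := by
    refine (hinN _ (Subgroup.commutator_le.2 fun a ha b hb =>
      mul_mem (mul_mem (mul_mem ha hb) (inv_mem ha)) (inv_mem hb)) fun n hn k hk => ?_).resolve_left fun e => ?_
    · have hle : (⁅S', S'⁆).map (MulAut.conj n).toMonoidHom ≤ ⁅S', S'⁆ := by
        rw [Subgroup.map_commutator]
        exact Subgroup.commutator_mono (by rintro _ ⟨s, hs, rfl⟩; exact hNS n hn s hs)
          (by rintro _ ⟨s, hs, rfl⟩; exact hNS n hn s hs)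
      exact hle ⟨k, hk, rfl⟩
    · -- then all conjugates commute
      have hS'c : ∀ a ∈ S', ∀ b ∈ S', Commute a b := fun a ha b hb => (Subgroup.mem_centralizer_iff.1
        (Subgroup.commutator_eq_bot_iff_le_centralizer.1 e ha) b hb).symm
      have hconjc : ∀ g : H, ∀ a ∈ S', ∀ b ∈ S', Commute a (g * b * g⁻¹) := by
        intro g a ha b hb
        set Tg := S'.map (MulAut.conj g).toMonoidHom with hTg
        have hTgN : ∀ n ∈ N, ∀ t ∈ Tg, n * t * n⁻¹ ∈ Tg := by
          rintro n hn _ ⟨s, hs, rfl⟩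
          refine ⟨(g⁻¹ * n * g) * s * (g⁻¹ * n * g)⁻¹, hNS _ (by simpa using hNn.conj_mem n hn g⁻¹) s hs, ?_⟩
          show g * _ * g⁻¹ = n * (g * s * g⁻¹) * n⁻¹
          group
        have hb' : g * b * g⁻¹ ∈ Tg := ⟨b, hb, rfl⟩
        rcases hinN (S' ⊓ Tg) inf_le_left (fun n hn k hk => ⟨hNS n hn k hk.1, hTgN n hn k hk.2⟩) with h0 | h0
        · have hmem : a * (g * b * g⁻¹) * a⁻¹ * (g * b * g⁻¹)⁻¹ ∈ S' ⊓ Tg := by
            refine ⟨?_, (mul_mem (hTgN a (hS'N ha) _ hb') (inv_mem hb') : a * (g * b * g⁻¹) * a⁻¹ * (g * b * g⁻¹)⁻¹ ∈ Tg)⟩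
            rw [show a * (g * b * g⁻¹) * a⁻¹ * (g * b * g⁻¹)⁻¹ =
              a * ((g * b * g⁻¹) * a⁻¹ * (g * b * g⁻¹)⁻¹) by group]
            exact mul_mem ha (hNS _ (hNn.conj_mem b (hS'N hb) g) _ (inv_mem ha))
          rw [h0, Subgroup.mem_bot] at hmem
          exact mul_inv_eq_iff_eq_mul.1 (mul_inv_eq_one.1 hmem)
        · have hle : S' ≤ Tg := h0 ▸ inf_le_right
          have heq : S' = Tg := Subgroup.eq_of_le_of_card_ge hle (by
            rw [hTg, Subgroup.card_map_of_injective (MulAut.conj g).injective])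
          exact hS'c a ha _ (heq.symm ▸ hb')
      let K : Subgroup H := Subgroup.normalClosure (S' : Set H)
      have hKle : K ≤ N := Subgroup.normalClosure_le_normal hS'N
      have hKN : K = N := (hmin K Subgroup.normalClosure_normal hKle).resolve_left fun h0 =>
        hS'0 (le_bot_iff.1 (h0 ▸ Subgroup.subset_normalClosure))
      refine hS'ne (le_antisymm hS'N fun n hn => ?_)
      exfalso
      refine hN0 (hab N hNn ?_)
      rw [← hKN]
      intro x hx y hy
      have hle : K ≤ Subgroup.centralizer (K : Set H) := by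
        have hgen : ∀ u ∈ Group.conjugatesOfSet (S' : Set H), ∀ w ∈ Group.conjugatesOfSet (S' : Set H),
            Commute u w := by
          intro u hu w hw
          obtain ⟨a, ha, hau⟩ := Group.mem_conjugatesOfSet_iff.1 hu
          obtain ⟨b, hb, hbw⟩ := Group.mem_conjugatesOfSet_iff.1 hw
          obtain ⟨g, rfl⟩ := isConj_iff.1 hau
          obtain ⟨g', rfl⟩ := isConj_iff.1 hbw
          have := (Commute.conj_iff g).2 (hconjc (g⁻¹ * g') a ha b hb)
          rwa [show g * (g⁻¹ * g' * b * (g⁻¹ * g')⁻¹) * g⁻¹ = g' * b * g'⁻¹ by group] at this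
        refine (Subgroup.closure_le _).2 fun u hu => Subgroup.mem_centralizer_iff.2 fun w hw => ?_
        have hw' : w ∈ Subgroup.centralizer ({u} : Set H) :=
          (Subgroup.closure_le _).2 (fun v hv => Subgroup.mem_centralizer_singleton_iff.2 (hgen v hv u hu).eq) hw
        exact Subgroup.mem_centralizer_singleton_iff.1 hw'
      exact (Subgroup.mem_centralizer_iff.1 (hle hx) y hy).symm
  have hTperf : ⁅T, T⁆ = T := by rw [hT, ← Subgroup.map_commutator, hperf]
  have hT0 : T ≠ ⊥ := by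
    rw [hT, ne_eq, Subgroup.map_eq_bot_iff_of_injective _ (MulAut.conj h).injective]; exact hS'0
  refine hcomm S' T hS'0 hT0 hperf hTperf fun a ha t ht => ?_
  have hmem : a * t * a⁻¹ * t⁻¹ ∈ S' ⊓ T := by
    refine ⟨?_, (mul_mem (hTN a (hS'N ha) t ht) (inv_mem ht) : a * t * a⁻¹ * t⁻¹ ∈ T)⟩
    rw [show a * t * a⁻¹ * t⁻¹ = a * (t * a⁻¹ * t⁻¹) by group]
    exact mul_mem ha (hNS t (hTle ht) _ (inv_mem ha))
  rw [hST, Subgroup.mem_bot] at hmem
  exact mul_inv_eq_iff_eq_mul.1 (mul_inv_eq_one.1 hmem)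

/-- The core, from a surjection with scalar kernel onto a group without abelian normal subgroup. -/
theorem core_of_surjective [Finite F] (h2 : (2 : F) ≠ 0) {H : Type*} [Group H] [Finite H] [Nontrivial H]
    (hab : ∀ K : Subgroup H, K.Normal → (∀ x ∈ K, ∀ y ∈ K, Commute x y) → K = ⊥)
    {Ht : Subgroup GL3} (hsl : Ht ≤ specialLinear (Fin 3) F) (f : Ht →* H) (hf : Function.Surjective f)
    (hker : ∀ g : Ht, f g = 1 ↔ (g : GL3) ∈ scalars (Fin 3) F) :
    ∃ P : Subgroup GL3, Core Ht P ∧ Nonempty (H ≃* Pro Ht) := by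
  have hfz : ∀ a b : Ht, (a : GL3) * b * (a : GL3)⁻¹ * (b : GL3)⁻¹ ∈ scalars (Fin 3) F ↔
      Commute (f a) (f b) := fun a b => by
    rw [show (a : GL3) * b * (a : GL3)⁻¹ * (b : GL3)⁻¹ = ((a * b * a⁻¹ * b⁻¹ : Ht) : GL3) by simp, ← hker,
      map_mul, map_mul, map_mul, map_inv, map_inv, mul_inv_eq_one, mul_inv_eq_iff_eq_mul]
    rfl
  have hR : RadFree Ht := by
    intro A hA hAn hAc a ha
    have h := hab ((A.subgroupOf Ht).map f) ((⟨fun x hx g => Subgroup.mem_subgroupOf.2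
      (hAn g g.2 x hx)⟩ : (A.subgroupOf Ht).Normal).map f hf) (by
        rintro _ ⟨x, hx, rfl⟩ _ ⟨y, hy, rfl⟩
        exact (hfz x y).1 (hAc x hx y hy))
    have hm : f ⟨a, hA ha⟩ ∈ (A.subgroupOf Ht).map f := ⟨⟨a, hA ha⟩, ha, rfl⟩
    rw [h, Subgroup.mem_bot, hker] at hm
    exact hm
  -- a minimal normal subgroup
  obtain ⟨N, ⟨hNn, hN0⟩, hNmin⟩ := Set.Finite.exists_minimal
    (s := {N : Subgroup H | N.Normal ∧ N ≠ ⊥}) (Set.toFinite _)
    ⟨⊤, inferInstance, top_ne_bot⟩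
  haveI := hNn
  have hmin : ∀ K : Subgroup H, K.Normal → K ≤ N → K = ⊥ ∨ K = N := fun K hK hle => by
    by_cases h : K = ⊥
    · exact Or.inl h
    · exact Or.inr (le_antisymm hle (hNmin ⟨hK, h⟩ hle))
  have hNperf : ⁅N, N⁆ = N := (hmin _ inferInstance (Subgroup.commutator_le_left N N)).resolve_left fun h =>
    hN0 (hab N hNn fun x hx y hy => (Subgroup.mem_centralizer_iff.1
      (Subgroup.commutator_eq_bot_iff_le_centralizer.1 h hx) y hy).symm)
  -- non-solvable preimages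
  have hnsP : ∀ (K : Subgroup H) (A : Subgroup GL3), A ≤ Ht → K ≠ ⊥ → ⁅K, K⁆ = K →
      (A.subgroupOf Ht).map f = K → ¬ Group.IsSolvable A := by
    intro K A hA hK hKK hAK hs
    haveI := hs
    haveI : Group.IsSolvable (A.subgroupOf Ht) :=
      Group.isSolvable_of_isSolvable_injective (f := (Subgroup.subgroupOfEquivOfLe hA).toMonoidHom)
        (MulEquiv.injective _)
    obtain ⟨n, hn⟩ := this.solvable
    have key : ∀ k, K ≤ (derivedSeries (A.subgroupOf Ht) k).map (f.comp (A.subgroupOf Ht).subtype) := by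
      intro k
      induction k with
      | zero =>
        rw [derivedSeries_zero, ← MonoidHom.range_eq_map, MonoidHom.range_comp, Subgroup.range_subtype, hAK]
      | succ k ih =>
        rw [derivedSeries_succ, Subgroup.map_commutator]
        exact hKK.symm.le.trans (Subgroup.commutator_mono ih ih)
    have := key n
    rw [hn, Subgroup.map_bot] at this
    exact hK (le_bot_iff.1 this)
  -- two commuting perfect subgroups
  have hcomm : ∀ K L : Subgroup H, K ≠ ⊥ → L ≠ ⊥ → ⁅K, K⁆ = K → ⁅L, L⁆ = L →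
      (∀ x ∈ K, ∀ y ∈ L, Commute x y) → False := by
    intro K L hK hL hKK hLL hKL
    have hA : ∀ K : Subgroup H, (((K.comap f).map Ht.subtype).subgroupOf Ht).map f = K := fun K => by
      rw [Subgroup.subgroupOf, Subgroup.comap_map_eq_self_of_injective Ht.subtype_injective,
        Subgroup.map_comap_eq_self_of_surjective hf]
    refine false_of_commute h2 (hnsP K _ (Subgroup.map_subtype_le _) hK hKK (hA K))
      (hnsP L _ (Subgroup.map_subtype_le _) hL hLL (hA L)) ?_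
    rintro _ ⟨a, ha, rfl⟩ _ ⟨b, hb, rfl⟩
    exact (hfz a b).2 (hKL _ ha _ hb)
  -- simplicity
  haveI hsimple : IsSimpleGroup N := isSimple_of_minimal hN0 hmin hab hcomm
  -- the core
  set Q := (N.comap f).map Ht.subtype with hQ
  have hQle : Q ≤ Ht := Subgroup.map_subtype_le _
  have hQn : ∀ x ∈ Ht, ∀ g ∈ Q, x * g * x⁻¹ ∈ Q := by
    rintro x hx _ ⟨g, hg, rfl⟩
    have hg' : f g ∈ N := hg
    have hm : (⟨x, hx⟩ : Ht) * g * (⟨x, hx⟩ : Ht)⁻¹ ∈ N.comap f := by
      rw [Subgroup.mem_comap, map_mul, map_mul, map_inv]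
      exact hNn.conj_mem _ hg' _
    exact Subgroup.mem_map.2 ⟨_, hm, by simp⟩
  set P := ⁅Q, Q⁆ with hP
  have hQQ : P ≤ Q := Subgroup.commutator_le.2 fun a ha b hb =>
    mul_mem (mul_mem (mul_mem ha hb) (inv_mem ha)) (inv_mem hb)
  have hPf : (P.subgroupOf Ht).map f = N := by
    have e : P.subgroupOf Ht = ⁅N.comap f, N.comap f⁆ := by
      rw [hP, hQ, ← Subgroup.map_commutator, Subgroup.subgroupOf,
        Subgroup.comap_map_eq_self_of_injective Ht.subtype_injective]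
    rw [e, Subgroup.map_commutator, Subgroup.map_comap_eq_self_of_surjective hf, hNperf]
  have hPle : P ≤ Ht := hQQ.trans hQle
  have hPn : ∀ x ∈ Ht, ∀ g ∈ P, x * g * x⁻¹ ∈ P := by
    intro x hx g hg
    have hle : P.map (MulAut.conj x).toMonoidHom ≤ P := by
      rw [hP, Subgroup.map_commutator]
      exact Subgroup.commutator_mono (by rintro _ ⟨s, hs, rfl⟩; exact hQn x hx s hs)
        (by rintro _ ⟨s, hs, rfl⟩; exact hQn x hx s hs)
    exact hle ⟨g, hg, rfl⟩
  have hdec : ∀ q ∈ Q, ∃ m ∈ P, ∃ z ∈ scalars (Fin 3) F, q = m * z := by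
    rintro _ ⟨q, hq, rfl⟩
    obtain ⟨m, hm, he⟩ : f q ∈ (P.subgroupOf Ht).map f := hPf.symm ▸ hq
    refine ⟨m, hm, ((m⁻¹ * q : Ht) : GL3), (hker _).1 (by rw [map_mul, map_inv, he, inv_mul_cancel]), ?_⟩
    simp
  have hperfP : ⁅P, P⁆ = P := by
    refine le_antisymm (Subgroup.commutator_le.2 fun a ha b hb =>
      mul_mem (mul_mem (mul_mem ha hb) (inv_mem ha)) (inv_mem hb)) ?_
    refine (hP.le).trans (Subgroup.commutator_le.2 fun a ha b hb => ?_)
    obtain ⟨a', ha', z, hz, rfl⟩ := hdec a ha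
    obtain ⟨b', hb', w, hw, rfl⟩ := hdec b hb
    have hca : ∀ y, z * y = y * z := fun y => (scalar_comm hz y).eq
    have hcb : ∀ y, w * y = y * w := fun y => (scalar_comm hw y).eq
    rw [show ⁅a' * z, b' * w⁆ = ⁅a', b'⁆ by
      rw [commutatorElement_def, commutatorElement_def, _root_.mul_inv_rev, _root_.mul_inv_rev]
      calc a' * z * (b' * w) * (z⁻¹ * a'⁻¹) * (w⁻¹ * b'⁻¹)
          = a' * (z * (b' * w)) * z⁻¹ * a'⁻¹ * (w⁻¹ * b'⁻¹) := by group
        _ = a' * b' * (w * a'⁻¹) * w⁻¹ * b'⁻¹ := by rw [hca]; group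
        _ = a' * b' * a'⁻¹ * b'⁻¹ := by rw [hcb]; group]
    exact Subgroup.commutator_mem_commutator ha' hb'
  have hPns : ¬ Group.IsSolvable P := hnsP N P hPle hN0 hNperf hPf
  let fP : P →* N := (f.comp (Subgroup.inclusion hPle)).codRestrict N fun x =>
    hPf ▸ ⟨Subgroup.inclusion hPle x, x.2, rfl⟩
  have hfP : Function.Surjective fP := fun n => by
    obtain ⟨m, hm, he⟩ : (n : H) ∈ (P.subgroupOf Ht).map f := hPf.symm ▸ n.2
    exact ⟨⟨m, hm⟩, Subtype.ext he⟩
  have hfPk : fP.ker = (scalars (Fin 3) F).subgroupOf P := by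
    ext x
    rw [MonoidHom.mem_ker, Subgroup.mem_subgroupOf, Subtype.ext_iff]
    exact hker (Subgroup.inclusion hPle x)
  let eP : Pro P ≃* N :=
    (QuotientGroup.quotientMulEquivOfEq hfPk.symm).trans (QuotientGroup.quotientKerEquivOfSurjective fP hfP)
  have hsP : IsSimpleGroup (Pro P) := eP.isSimpleGroup
  refine ⟨P, ⟨hPle, hPn, hperfP, hsP, fun hc => hN0 (hab N hNn ?_), ?_,
    absIrred_of_normal h2 hsl hR hPle hPn hPns⟩, ⟨?_⟩⟩
  · intro x hx y hy
    have := congrArg (fun z : Pro P => ((eP z : N) : H))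
      (hc.1.comm (eP.symm ⟨x, hx⟩) (eP.symm ⟨y, hy⟩))
    show x * y = y * x
    simpa using this
  · intro h hh hcen'
    have hfh : f ⟨h, hh⟩ ∈ Subgroup.centralizer (N : Set H) := Subgroup.mem_centralizer_iff.2 fun n hn => by
      obtain ⟨m, hm, rfl⟩ : n ∈ (P.subgroupOf Ht).map f := hPf.symm ▸ hn
      exact ((hfz ⟨h, hh⟩ m).1 (hcen' m hm)).symm.eq
    have hCn : (Subgroup.centralizer (N : Set H)).Normal := inferInstance
    by_contra hns'
    have hC0 : Subgroup.centralizer (N : Set H) ≠ ⊥ := fun h0 => by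
      rw [h0, Subgroup.mem_bot, hker] at hfh
      exact hns' hfh
    obtain ⟨K, ⟨hKn, hK0, hKC⟩, hKmin⟩ := Set.Finite.exists_minimal
      (s := {K : Subgroup H | K.Normal ∧ K ≠ ⊥ ∧ K ≤ Subgroup.centralizer (N : Set H)}) (Set.toFinite _)
      ⟨_, hCn, hC0, le_rfl⟩
    haveI := hKn
    have hKK : ⁅K, K⁆ = K := by
      by_cases h0 : ⁅K, K⁆ = ⊥
      · exact absurd (hab K hKn fun x hx y hy => (Subgroup.mem_centralizer_iff.1
          (Subgroup.commutator_eq_bot_iff_le_centralizer.1 h0 hx) y hy).symm) hK0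
      · exact le_antisymm (Subgroup.commutator_le_left K K) (hKmin
          ⟨inferInstance, h0, (Subgroup.commutator_le_left K K).trans hKC⟩ (Subgroup.commutator_le_left K K))
    exact hcomm K N hK0 hN0 hKK hNperf fun x hx y hy =>
      (Subgroup.mem_centralizer_iff.1 (hKC hx) y hy).symm
  · exact ((QuotientGroup.quotientMulEquivOfEq (show (scalars (Fin 3) F).subgroupOf Ht = f.ker by
      ext g; rw [MonoidHom.mem_ker, Subgroup.mem_subgroupOf, hker])).trans
      (QuotientGroup.quotientKerEquivOfSurjective f hf)).symm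


/-- The preimage and the core of a subgroup without elementary abelian normal subgroups. -/
theorem exists_core [Fintype F] (p : ℕ) [Fact p.Prime] [CharP F p] (hp : p ≠ 2)
    (H : Subgroup (Matrix.ProjectiveSpecialLinearGroup (Fin 3) F)) (hH : H ≠ ⊥)
    (hN : ∀ N : Subgroup ↥H, N.Normal → IsMulCommutative ↥N →
      (∃ r : ℕ, r.Prime ∧ ∀ x ∈ N, x ^ r = 1) → N = ⊥) :
    ∃ Ht P : Subgroup (GL (Fin 3) F), Ht ≤ specialLinear (Fin 3) F ∧
      scalars (Fin 3) F ⊓ specialLinear (Fin 3) F ≤ Ht ∧ Core Ht P ∧ Nonempty (↥H ≃* Pro Ht) := by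
  classical
  have h2 : (2 : F) ≠ 0 := by
    intro h
    have : ((2 : ℕ) : F) = 0 := by exact_mod_cast h
    rw [CharP.cast_eq_zero_iff F p] at this
    exact hp ((Nat.prime_dvd_prime_iff_eq Fact.out Nat.prime_two).1 this)
  -- no abelian normal subgroup
  have hab : ∀ N : Subgroup ↥H, N.Normal → (∀ x ∈ N, ∀ y ∈ N, Commute x y) → N = ⊥ := by
    intro N hNn hNc
    by_contra hne
    obtain ⟨x, hx, hx1⟩ := N.bot_or_exists_ne_one.resolve_left hne
    obtain ⟨r, hr, hrd⟩ := Nat.exists_prime_and_dvd (mt orderOf_eq_one_iff.1 hx1)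
    let Ω : Subgroup ↥H :=
      { carrier := {y | y ∈ N ∧ y ^ r = 1}
        one_mem' := ⟨one_mem N, one_pow r⟩
        mul_mem' := fun {y z} hy hz =>
          ⟨mul_mem hy.1 hz.1, by rw [(hNc y hy.1 z hz.1).mul_pow, hy.2, hz.2, one_mul]⟩
        inv_mem' := fun {y} hy => ⟨inv_mem hy.1, by rw [inv_pow, hy.2, inv_one]⟩ }
    have h := hN Ω ⟨fun y hy g => ⟨hNn.conj_mem y hy.1 g, by rw [conj_pow, hy.2]; group⟩⟩
      ⟨⟨fun y z => Subtype.ext (hNc y y.2.1 z z.2.1).eq⟩⟩ ⟨r, hr, fun y hy => hy.2⟩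
    have hmem : x ^ (orderOf x / r) ∈ Ω :=
      ⟨pow_mem hx _, by rw [← pow_mul, Nat.div_mul_cancel hrd, pow_orderOf_eq_one]⟩
    rw [h, Subgroup.mem_bot] at hmem
    exact absurd (Nat.le_of_dvd (Nat.div_pos (Nat.le_of_dvd (orderOf_pos x) hrd) hr.pos)
      (orderOf_dvd_of_pow_eq_one hmem)) (not_le.2 (Nat.div_lt_self (orderOf_pos x) hr.one_lt))
  -- the preimage
  let π := QuotientGroup.mk' (Subgroup.center (SpecialLinearGroup (Fin 3) F))
  let ι : SpecialLinearGroup (Fin 3) F →* GL3 := Matrix.SpecialLinearGroup.toGL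
  have hι : ∀ A : SpecialLinearGroup (Fin 3) F, (ι A : Mat) = (A : Mat) := fun A => rfl
  have hιi : Function.Injective ι := fun a b h =>
    Subtype.ext (by rw [← hι, ← hι, h])
  set Hc := H.comap π with hHc
  set Ht := Hc.map ι with hHt
  let f : Ht →* H := (π.subgroupComap H).comp (Hc.equivMapOfInjective ι hιi).symm.toMonoidHom
  have hf : Function.Surjective f := by
    exact Function.Surjective.comp (g := π.subgroupComap H)
      (π.subgroupComap_surjective_of_surjective H (QuotientGroup.mk'_surjective _))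
      (Hc.equivMapOfInjective ι hιi).symm.surjective
  have hfval : ∀ (A : SpecialLinearGroup (Fin 3) F) (hA : A ∈ Hc), ((f ⟨ι A, A, hA, rfl⟩ : H) :
      Matrix.ProjectiveSpecialLinearGroup (Fin 3) F) = π A := by
    intro A hA
    have : (Hc.equivMapOfInjective ι hιi).symm ⟨ι A, A, hA, rfl⟩ = ⟨A, hA⟩ := by
      rw [MulEquiv.symm_apply_eq]; exact Subtype.ext rfl
    show ((π.subgroupComap H ((Hc.equivMapOfInjective ι hιi).symm ⟨ι A, A, hA, rfl⟩) : H) :
      Matrix.ProjectiveSpecialLinearGroup (Fin 3) F) = π A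
    rw [this]; rfl
  have hcen : ∀ A : SpecialLinearGroup (Fin 3) F, π A = 1 ↔ ι A ∈ scalars (Fin 3) F := by
    intro A
    rw [QuotientGroup.mk'_apply, QuotientGroup.eq_one_iff, Matrix.SpecialLinearGroup.mem_center_iff,
      mem_scalars_iff]
    constructor
    · rintro ⟨r, hr, hA⟩
      have hr0 : r ≠ 0 := fun h => by rw [h, Fintype.card_fin, zero_pow three_ne_zero] at hr; exact zero_ne_one hr
      exact ⟨Units.mk0 r hr0, by rw [hι, ← hA, Matrix.scalar_apply, Units.val_mk0, Matrix.smul_one_eq_diagonal]⟩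
    · rintro ⟨c, hc⟩
      have hd : (A : Mat).det = 1 := A.2
      rw [← hι, hc, Matrix.det_smul, Matrix.det_one, mul_one] at hd
      exact ⟨c, hd, by rw [← hι, hc, Matrix.scalar_apply, Matrix.smul_one_eq_diagonal]⟩
  have hker : ∀ g : Ht, f g = 1 ↔ (g : GL3) ∈ scalars (Fin 3) F := by
    rintro ⟨_, A, hA, rfl⟩
    rw [← hcen, Subtype.ext_iff, hfval A hA]
    rfl
  have hsl : Ht ≤ specialLinear (Fin 3) F := by
    rintro _ ⟨A, -, rfl⟩
    rw [mem_specialLinear, hι]
    exact A.2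
  have hscal : scalars (Fin 3) F ⊓ specialLinear (Fin 3) F ≤ Ht := by
    rintro g ⟨hg, hgs⟩
    let A : SpecialLinearGroup (Fin 3) F := ⟨(g : Mat), mem_specialLinear.1 hgs⟩
    have hιA : ι A = g := Units.ext (hι A)
    refine ⟨A, ?_, hιA⟩
    show π A ∈ H
    rw [(hcen A).2 (hιA.symm ▸ hg)]
    exact one_mem H
  haveI : Nontrivial H := (Subgroup.nontrivial_iff_ne_bot H).2 hH
  obtain ⟨P, hC, he⟩ := core_of_surjective h2 hab hsl f hf hker
  exact ⟨Ht, P, hsl, hscal, hC, he⟩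

end CfsgLib.Geo.D3
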