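/-
The shapes of the subgroups of PSL of dimension three and odd characteristic without abelian normal subgroups.
-/
import Cfsg.Agent.Geo.DimThree.Socle
import Cfsg.Agent.Geo.DimThree.TvMain
import Cfsg.Agent.Geo.DimThree.ShapeTv
import Cfsg.Agent.Geo.DimThree.NoTv.Dispatch
import Cfsg.Agent.Geo.DimThree.ShapeConic
import Cfsg.Agent.Geo.DimThree.ShapeSmall
import Cfsg.Agent.Geo.DimThree.NoTv.Extend
import Cfsg.Agent.Geo.DimThree.ShapeBig

set_option autoImplicit false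
set_option linter.style.haveILetI false

namespace CfsgLib.Geo.D3

open Matrix Cfsg Cfsg.Geo CfsgLib.Geo

universe u

variable {F : Type u} [Field F] {Ht P : Subgroup (GL (Fin 3) F)}


/-- The shapes over a core. -/
theorem shapes_of_core [Fintype F] (p α : ℕ) [Fact p.Prime] [CharP F p] (hF : Fintype.card F = p ^ α) (hp : p ≠ 2)
    (hC : Core Ht P) (hSL : Ht ≤ specialLinear (Fin 3) F) : Shapes p α (Pro Ht) := by
  unfold Shapes
  rcases hC.dichotomy with hy | ⟨h2, htv⟩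
  · rcases tv_classification hy hC.not_solvable with h | h | ⟨K, g, hK, -, -⟩
    · rcases shape_linear p α hF hC hSL h with h | h <;> simp [h]
    · rcases shape_unitary p α hF hC hSL h with h | h <;> simp [h]
    · exfalso
      haveI := Fintype.ofFinite K
      have h4 : ((4 : ℕ) : K) = 0 := by
        rw [← hK, Nat.card_eq_fintype_card]
        exact FiniteField.cast_card_eq_zero K
      have hd : p ∣ 4 := (CharP.cast_eq_zero_iff F p 4).1 (by
        rw [← map_natCast K.subtype, h4, map_zero])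
      have : p ∣ 2 ^ 2 := hd
      exact hp ((Nat.prime_dvd_prime_iff_eq Fact.out Nat.prime_two).1 ((Fact.out : p.Prime).dvd_of_dvd_pow this))
  · obtain ⟨L, _, _, ι, hG, hcard⟩ := exists_splitting hC h2 htv
    haveI : CharP L p := charP_of_injective_ringHom ι.injective p
    have hchar : ringChar L = p := ringChar.eq L p
    rcases notv_cases hG with ⟨q, u, hu, h5, hc, hU, hN⟩ | ⟨h, hne⟩ | h | ⟨h, hne⟩ | ⟨h, h5⟩
    · have := shape_conic p α hF hC hSL hp ι hG hu h5 hc hU hN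
      simp [this]
    · have := shape_sixty p α hF hC hSL hp ι hG (hcard ▸ h) (hchar ▸ hne)
      simp [this]
    · rcases shape_168 p α hF hC hSL hp ι hG (hcard ▸ h) with h | h <;> simp [h]
    · rcases shape_360 p α hF hC hSL hp ι hG (hcard ▸ h) (hchar ▸ hne) with h | h <;> simp [h]
    · have := shape_2520 p α hF hC hSL hp ι hG (hcard ▸ h) (hchar ▸ h5)
      simp [this]

/-- A shape is invariant under isomorphism. -/
theorem Shapes.congr {p α : ℕ} {X Y : Type u} [Group X] [Group Y] (e : Y ≃* X) (h : Shapes p α X) :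
    Shapes p α Y := by
  have hsub : ∀ L : Subgroup X, (L.comap e.toMonoidHom).index = L.index ∧
      Nonempty (↥(L.comap e.toMonoidHom) ≃* ↥L) := fun L =>
    ⟨Subgroup.index_comap_of_surjective _ e.surjective,
      ⟨(e.subgroupMap _).trans (MulEquiv.subgroupCongr (Subgroup.map_comap_eq_self_of_surjective e.surjective L))⟩⟩
  unfold Shapes at h ⊢
  rcases h with ⟨K, _, _, β, h1, h2, ⟨e1⟩⟩ | ⟨K, _, _, β, h1, h2, ⟨e1⟩⟩ | ⟨K, _, _, β, h1, h2, h3, L, hL, ⟨e1⟩⟩ |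
    ⟨K, _, _, β, h1, h2, h3, L, hL, ⟨e1⟩⟩ | ⟨K, _, _, β, h1, h2, h3, h4⟩ | ⟨h1, K, _, _, h2, ⟨e1⟩⟩ |
    ⟨h1, K, _, _, h2, ⟨e1⟩⟩ | ⟨h1, h2, h3⟩ | ⟨h1, ⟨e1⟩⟩
  · exact Or.inl ⟨K, inferInstance, inferInstance, β, h1, h2, ⟨e.trans e1⟩⟩
  · exact Or.inr (Or.inl ⟨K, inferInstance, inferInstance, β, h1, h2, ⟨e.trans e1⟩⟩)
  · obtain ⟨hi, ⟨e2⟩⟩ := hsub L
    exact Or.inr (Or.inr (Or.inl ⟨K, inferInstance, inferInstance, β, h1, h2, h3, _, hi.trans hL, ⟨e2.trans e1⟩⟩))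
  · obtain ⟨hi, ⟨e2⟩⟩ := hsub L
    exact Or.inr (Or.inr (Or.inr (Or.inl
      ⟨K, inferInstance, inferInstance, β, h1, h2, h3, _, hi.trans hL, ⟨e2.trans e1⟩⟩)))
  · exact Or.inr (Or.inr (Or.inr (Or.inr (Or.inl ⟨K, inferInstance, inferInstance, β, h1, h2, h3,
      h4.imp (fun ⟨e1⟩ => ⟨e.trans e1⟩) (fun ⟨e1⟩ => ⟨e.trans e1⟩)⟩))))
  · exact Or.inr (Or.inr (Or.inr (Or.inr (Or.inr (Or.inl
      ⟨h1, K, inferInstance, inferInstance, h2, ⟨e.trans e1⟩⟩)))))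
  · exact Or.inr (Or.inr (Or.inr (Or.inr (Or.inr (Or.inr (Or.inl
      ⟨h1, K, inferInstance, inferInstance, h2, ⟨e.trans e1⟩⟩))))))
  · refine Or.inr (Or.inr (Or.inr (Or.inr (Or.inr (Or.inr (Or.inr (Or.inl ⟨h1, h2, ?_⟩)))))))
    rcases h3 with ⟨⟨e1⟩⟩ | ⟨⟨e1⟩⟩ | ⟨L, hL, ⟨e1⟩⟩
    · exact Or.inl ⟨e.trans e1⟩
    · exact Or.inr (Or.inl ⟨e.trans e1⟩)
    · obtain ⟨hi, ⟨e2⟩⟩ := hsub L
      exact Or.inr (Or.inr ⟨_, hi.trans hL, ⟨e2.trans e1⟩⟩)
  · exact Or.inr (Or.inr (Or.inr (Or.inr (Or.inr (Or.inr (Or.inr (Or.inr ⟨h1, ⟨e.trans e1⟩⟩)))))))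

/-- A subgroup without abelian normal subgroups has one of the shapes. -/
theorem shapes_of_psl [Fintype F] (p α : ℕ) [Fact p.Prime] [CharP F p] (hF : Fintype.card F = p ^ α) (hp : p ≠ 2)
    (H : Subgroup (Matrix.ProjectiveSpecialLinearGroup (Fin 3) F)) (hH : H ≠ ⊥)
    (hN : ∀ N : Subgroup ↥H, N.Normal → IsMulCommutative ↥N →
      (∃ r : ℕ, r.Prime ∧ ∀ x ∈ N, x ^ r = 1) → N = ⊥) : Shapes p α ↥H := by
  obtain ⟨Ht, P, hSL, -, hC, ⟨e⟩⟩ := exists_core p hp H hH hN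
  exact (shapes_of_core p α hF hp hC hSL).congr e

end CfsgLib.Geo.D3
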