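/-
Splitting of the quadratics `b² + b + 2`, `r² - r - 1`, `w² + w + 1` over a prime field, and the field generated by
the traces.
-/
import Cfsg.Agent.Geo.DimThree.NoTv.Traces
import Mathlib.NumberTheory.LegendreSymbol.QuadraticReciprocity

set_option autoImplicit false
set_option linter.style.haveILetI false

namespace CfsgLib.Geo.D3

open Matrix Cfsg Cfsg.Geo CfsgLib.Geo

universe u

section congr

variable {K : Type u} [Field K] {p : ℕ} [Fact p.Prime] [CharP K p]

/-- A square root of an integer is fixed by the Frobenius iff the integer is a quadratic residue. -/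
lemma sqrt_fixed_iff (hp : p ≠ 2) {s : K} {a : ℤ} (hs : s ^ 2 = (a : K)) (ha : (a : ZMod p) ≠ 0) :
    s ^ p = s ↔ legendreSym p a = 1 := by
  have hodd : p = 2 * (p / 2) + 1 := by
    rcases Nat.Prime.eq_two_or_odd (Fact.out : p.Prime) with h | h <;> omega
  have he := congrArg (ZMod.castHom (dvd_refl p) K) (legendreSym.eq_pow p a)
  simp only [map_intCast, map_pow] at he
  have hsp : s ^ p = (legendreSym p a : K) * s := by
    conv_lhs => rw [hodd]
    rw [pow_succ, pow_mul, hs, ← he]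
  have hs0 : s ≠ 0 := by
    intro e
    apply ha
    rw [e, zero_pow two_ne_zero] at hs
    exact (ZMod.intCast_zmod_eq_zero_iff_dvd a p).2 ((CharP.intCast_eq_zero_iff K p a).1 hs.symm)
  rcases legendreSym.eq_one_or_neg_one p ha with e | e
  · simp [hsp, e]
  · have h2 : (2 : K) ≠ 0 := fun h => hp ((Nat.prime_dvd_prime_iff_eq Fact.out Nat.prime_two).1
      ((CharP.cast_eq_zero_iff K p 2).1 (by exact_mod_cast h)))
    simp only [hsp, e, Int.cast_neg, Int.cast_one, neg_mul, one_mul]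
    refine iff_of_false (fun h => hs0 ?_) (by norm_num)
    exact (mul_eq_zero.1 (show (2 : K) * s = 0 by linear_combination -h)).resolve_left h2

/-- The residue symbol of `-ℓ` for `ℓ` congruent to three modulo four. -/
lemma legendre_neg {ℓ : ℕ} [Fact ℓ.Prime] (hp : p ≠ 2) (hl : ℓ % 4 = 3) (_hne : p ≠ ℓ) :
    legendreSym p (-(ℓ : ℤ)) = legendreSym ℓ p := by
  have hodd : p % 2 = 1 := (Nat.Prime.eq_two_or_odd (Fact.out : p.Prime)).resolve_left hp
  rw [show (-(ℓ : ℤ)) = -1 * ℓ by ring, legendreSym.mul, legendreSym.at_neg_one hp, ZMod.χ₄_eq_neg_one_pow hodd,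
    legendreSym.quadratic_reciprocity' (p := p) (q := ℓ) hp (by omega), mul_comm (p / 2), pow_mul,
    (show Odd (ℓ / 2) by rw [Nat.odd_iff]; omega).neg_one_pow]

omit [Fact p.Prime] in
/-- The residue symbol at a small prime. -/
lemma legendre_small {ℓ : ℕ} [Fact ℓ.Prime] (h0 : p % ℓ ≠ 0) :
    legendreSym ℓ p = 1 ↔ IsSquare ((p % ℓ : ℕ) : ZMod ℓ) := by
  have hne : ((p : ℤ) : ZMod ℓ) ≠ 0 := by
    rw [Int.cast_natCast]
    exact fun h => h0 (Nat.dvd_iff_mod_eq_zero.1 ((ZMod.natCast_eq_zero_iff p ℓ).1 h))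
  rw [legendreSym.eq_one_iff ℓ hne, Int.cast_natCast, ZMod.natCast_mod]

end congr

/-- The squares modulo seven. -/
lemma squares_seven : ∀ r : Fin 7, r.val ≠ 0 →
    (IsSquare ((r.val : ℕ) : ZMod 7) ↔ r.val = 1 ∨ r.val = 2 ∨ r.val = 4) := by decide

/-- The squares modulo five. -/
lemma squares_five : ∀ x : Fin 5, x.val ≠ 0 →
    (IsSquare ((x.val : ℕ) : ZMod 5) ↔ x.val = 1 ∨ x.val = 4) := by decide

variable {K : Type u} [Field K]

theorem seven_congr {p : ℕ} (hp : p.Prime) [CharP K p] (h7 : p ≠ 7) {b : K} (hb : b ^ 2 + b + 2 = 0) :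
    (b ^ p = b → p % 7 = 1 ∨ p % 7 = 2 ∨ p % 7 = 4) ∧ (b ^ p ≠ b → p % 7 = 3 ∨ p % 7 = 5 ∨ p % 7 = 6) := by
  haveI : Fact p.Prime := ⟨hp⟩
  haveI : Fact (Nat.Prime 7) := ⟨by norm_num⟩
  by_cases h2 : p = 2
  · subst h2
    refine ⟨fun _ => by norm_num, fun h => absurd ?_ h⟩
    have h2' : (2 : K) = 0 := by exact_mod_cast CharP.cast_eq_zero K 2
    linear_combination hb - (b + 1) * h2'
  have h0 : p % 7 ≠ 0 := fun e =>
    h7 ((Nat.prime_dvd_prime_iff_eq (by norm_num) hp).1 (Nat.dvd_of_mod_eq_zero e)).symm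
  have h2K : (2 : K) ≠ 0 := fun h => h2 ((Nat.prime_dvd_prime_iff_eq hp Nat.prime_two).1
      ((CharP.cast_eq_zero_iff K p 2).1 (by exact_mod_cast h)))
  have hiff : b ^ p = b ↔ (2 * b + 1) ^ p = 2 * b + 1 := by
    rw [← frobenius_def, ← frobenius_def, map_add, map_mul, map_one, map_ofNat, add_left_inj,
      mul_right_inj' h2K]
  have hs : (2 * b + 1) ^ 2 = ((-7 : ℤ) : K) := by push_cast; linear_combination 4 * hb
  have ha : ((-7 : ℤ) : ZMod p) ≠ 0 := fun h => by
    have := (ZMod.intCast_zmod_eq_zero_iff_dvd (-7) p).1 h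
    rw [Int.dvd_neg] at this
    exact h7 ((Nat.prime_dvd_prime_iff_eq hp (by norm_num)).1 (by exact_mod_cast this))
  simp only [ne_eq, hiff]
  rw [ sqrt_fixed_iff h2 hs ha, show (-7 : ℤ) = -((7 : ℕ) : ℤ) from rfl,
    legendre_neg h2 (by norm_num) h7, legendre_small h0]
  have hr := Nat.mod_lt p (show 7 > 0 by norm_num)
  have := squares_seven ⟨p % 7, hr⟩ h0
  simp only at this
  rw [this]
  omega

theorem five_congr {p : ℕ} (hp : p.Prime) [CharP K p] (h2 : p ≠ 2) {r : K} (hr : r ^ 2 = r + 1) :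
    (r ^ p = r → p % 5 = 0 ∨ p % 5 = 1 ∨ p % 5 = 4) ∧ (r ^ p ≠ r → p % 5 = 2 ∨ p % 5 = 3) := by
  haveI : Fact p.Prime := ⟨hp⟩
  haveI : Fact (Nat.Prime 5) := ⟨by norm_num⟩
  have h2K : (2 : K) ≠ 0 := fun h => h2 ((Nat.prime_dvd_prime_iff_eq hp Nat.prime_two).1
      ((CharP.cast_eq_zero_iff K p 2).1 (by exact_mod_cast h)))
  have hiff : r ^ p = r ↔ (2 * r - 1) ^ p = 2 * r - 1 := by
    rw [← frobenius_def, ← frobenius_def, map_sub, map_mul, map_one, map_ofNat, sub_left_inj,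
      mul_right_inj' h2K]
  by_cases h5 : p = 5
  · subst h5
    refine ⟨fun _ => Or.inl rfl, fun h => absurd (hiff.2 ?_) h⟩
    have h5' : (5 : K) = 0 := by exact_mod_cast CharP.cast_eq_zero K 5
    have h0 : 2 * r - 1 = 0 := (pow_eq_zero_iff (n := 2) two_ne_zero).1 (by linear_combination 4 * hr + h5')
    rw [h0, zero_pow (by norm_num)]
  have h0 : p % 5 ≠ 0 := fun e =>
    h5 ((Nat.prime_dvd_prime_iff_eq (by norm_num) hp).1 (Nat.dvd_of_mod_eq_zero e)).symm
  have hs : (2 * r - 1) ^ 2 = (((5 : ℕ) : ℤ) : K) := by push_cast; linear_combination 4 * hr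
  have ha : (((5 : ℕ) : ℤ) : ZMod p) ≠ 0 := fun h => by
    have := (ZMod.intCast_zmod_eq_zero_iff_dvd _ p).1 h
    exact h5 ((Nat.prime_dvd_prime_iff_eq hp (by norm_num)).1 (by exact_mod_cast this))
  simp only [ne_eq, hiff]
  rw [ sqrt_fixed_iff h2 hs ha,
    legendreSym.quadratic_reciprocity_one_mod_four (p := 5) (q := p) (by norm_num) h2, legendre_small h0]
  have hr := Nat.mod_lt p (show 5 > 0 by norm_num)
  have := squares_five ⟨p % 5, hr⟩ h0
  simp only at this
  rw [this]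
  omega

theorem three_congr {p : ℕ} (hp : p.Prime) [CharP K p] (h3 : p ≠ 3) {w : K} (hw : w ^ 2 + w + 1 = 0) :
    (w ^ p = w → p % 3 = 1) ∧ (w ^ p ≠ w → p % 3 = 2) := by
  have hw3 : w ^ 3 = 1 := by linear_combination (w - 1) * hw
  have h0 : p % 3 ≠ 0 := fun e =>
    h3 ((Nat.prime_dvd_prime_iff_eq (by norm_num) hp).1 (Nat.dvd_of_mod_eq_zero e)).symm
  have hw1 : w ≠ 1 := by
    rintro rfl
    exact h3 ((Nat.prime_dvd_prime_iff_eq hp Nat.prime_three).1
      ((CharP.cast_eq_zero_iff K p 3).1 (by push_cast; linear_combination hw)))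
  have he : w ^ p = w ^ (p % 3) := by
    conv_lhs => rw [← Nat.div_add_mod p 3, pow_add, pow_mul, hw3, one_pow, one_mul]
  rcases (by omega : p % 3 = 1 ∨ p % 3 = 2) with h | h
  · exact ⟨fun _ => h, fun hne => absurd (by rw [he, h, pow_one]) hne⟩
  · refine ⟨fun e => absurd ?_ hw1, fun _ => h⟩
    rw [he, h] at e
    have hw0 : w ≠ 0 := by rintro rfl; simp at hw3
    exact mul_left_cancel₀ hw0 (by linear_combination e)

variable {F : Type u} [Field F] {P : Subgroup (GL (Fin 3) F)}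

theorem card_le_of_traces [Fintype F] {p k : ℕ} (hp : p.Prime) [CharP F p] (hk : k = 1 ∨ k = 2)
    (habs : ActsAbsolutelyIrreducibly (matrixSet P))
    (hno : ∀ F₀ : Subfield F, F₀ ≠ ⊤ → ¬ RealisableOver F₀ (matrixSet P))
    (htr : ∀ g ∈ P, (g : Matrix (Fin 3) (Fin 3) F).trace ^ p ^ k = (g : Matrix (Fin 3) (Fin 3) F).trace) :
    Fintype.card F = p ∨ (k = 2 ∧ Fintype.card F = p ^ 2) := by
  haveI : Fact p.Prime := ⟨hp⟩
  set F₀ : Subfield F := RingHom.eqLocusField (iterateFrobenius F p k) (RingHom.id F) with hF₀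
  have htop : F₀ = ⊤ := by
    by_contra h
    exact hno F₀ h (realisable_of_trace habs F₀ htr)
  have hall : ∀ x : F, x ^ p ^ k = x := fun x => (htop ▸ Subfield.mem_top x : x ∈ F₀)
  have hk1 : 1 < p ^ k := Nat.one_lt_pow (by omega) hp.one_lt
  have hle : Fintype.card F ≤ p ^ k := by
    classical
    have hne : (Polynomial.X ^ p ^ k - Polynomial.X : Polynomial F) ≠ 0 := FiniteField.X_pow_card_sub_X_ne_zero F hk1
    have h1 : (Finset.univ : Finset F).val ≤ (Polynomial.X ^ p ^ k - Polynomial.X : Polynomial F).roots :=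
      Multiset.le_iff_subset (Finset.nodup _) |>.2 fun x _ => by
        rw [Polynomial.mem_roots hne]; simp [hall x]
    have h2 := Multiset.card_le_card h1
    have h3 := Polynomial.card_roots' (Polynomial.X ^ p ^ k - Polynomial.X : Polynomial F)
    rw [FiniteField.X_pow_card_sub_X_natDegree_eq F hk1] at h3
    exact h2.trans h3
  obtain ⟨n, -, hn⟩ := FiniteField.card F p
  rw [hn] at hle ⊢
  have hnk := (Nat.pow_le_pow_iff_right hp.one_lt).1 hle
  have hn0 := n.pos
  rcases hk with rfl | rfl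
  · rw [show (n : ℕ) = 1 by omega, pow_one]; exact Or.inl rfl
  · rcases (by omega : (n : ℕ) = 1 ∨ (n : ℕ) = 2) with e | e <;> simp [e]

end CfsgLib.Geo.D3
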