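/-
The trace of the inverse of an element preserving a form.
-/
import Cfsg.Agent.Geo.DimThree.NoTv.Defs
import Cfsg.Agent.Geo.UnitTv

set_option autoImplicit false
set_option linter.style.haveILetI false

namespace CfsgLib.Geo.D3

open Matrix Cfsg Cfsg.Geo CfsgLib.Geo

variable {F : Type*} [Field F]

local notation "Mat" => Matrix (Fin 3) (Fin 3) F

/-- The trace of the inverse of an isometry of a sesquilinear form. -/
theorem trace_inv_of_gram {σ : F →+* F} {g : GL (Fin 3) F} {A : Mat} (hA : IsUnit A)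
    (h : ((g : Mat))ᵀ * A * (g : Mat).map σ = A) :
    σ ((g⁻¹ : GL (Fin 3) F) : Mat).trace = (g : Mat).trace := by
  obtain ⟨u, rfl⟩ := hA
  have hinv : (g : Mat).map σ * ((g⁻¹ : GL (Fin 3) F) : Mat).map σ = 1 := by
    rw [← Matrix.map_mul, ← Units.val_mul, mul_inv_cancel, Units.val_one, Matrix.map_one σ (map_zero σ) (map_one σ)]
  have e : ((g⁻¹ : GL (Fin 3) F) : Mat).map σ = ((u⁻¹ : GL (Fin 3) F) : Mat) * (g : Mat)ᵀ * (u : Mat) := by
    calc ((g⁻¹ : GL (Fin 3) F) : Mat).map σ
        = ((u⁻¹ : GL (Fin 3) F) : Mat) * ((g : Mat)ᵀ * (u : Mat) * (g : Mat).map σ) *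
            ((g⁻¹ : GL (Fin 3) F) : Mat).map σ := by rw [h, Units.inv_mul, one_mul]
      _ = ((u⁻¹ : GL (Fin 3) F) : Mat) * (g : Mat)ᵀ * (u : Mat) *
            ((g : Mat).map σ * ((g⁻¹ : GL (Fin 3) F) : Mat).map σ) := by simp only [mul_assoc]
      _ = _ := by rw [hinv, mul_one]
  have ht : σ ((g⁻¹ : GL (Fin 3) F) : Mat).trace = (((g⁻¹ : GL (Fin 3) F) : Mat).map σ).trace :=
    AddMonoidHom.map_trace σ.toAddMonoidHom _
  rw [ht, e, Matrix.trace_mul_cycle, Units.mul_inv, one_mul, Matrix.trace_transpose]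

/-- An element preserving a non-degenerate quadratic form in odd characteristic has the trace of its inverse. -/
theorem trace_inv_of_quadratic {S : Set (Mat)} {Q : (Fin 3 → F) → F} (hQ : IsNondegenerateQuadraticForm Q)
    (hfix : FixesQuadForm S Q) {g : GL (Fin 3) F} (hg : (g : Mat) ∈ S) :
    ((g⁻¹ : GL (Fin 3) F) : Mat).trace = (g : Mat).trace := by
  set B : (Fin 3 → F) → (Fin 3 → F) → F := QuadraticMap.polar Q with hB
  let A : Mat := Matrix.of fun i j => B (Pi.single i 1) (Pi.single j 1)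
  have hb := hQ.polar_bilinear
  let L : LinearMap.BilinForm F (Fin 3 → F) :=
    LinearMap.mk₂ F B hb.add_left hb.smul_left hb.add_right hb.smul_right
  have hL : ∀ u v, B u v = u ⬝ᵥ (A *ᵥ v) := by
    intro u v
    have e := Matrix.toLinearMap₂'_apply' (LinearMap.toMatrix₂' F L) u v
    rw [Matrix.toLinearMap₂'_toMatrix'] at e
    exact e
  have hA : IsUnit A := by
    rw [← Matrix.mulVec_injective_iff_isUnit]
    intro v w hvw
    by_contra hne
    obtain ⟨⟨x, hx⟩, -⟩ := hQ.nondegenerate (v - w) (sub_ne_zero.2 hne)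
    apply hx
    rw [← hB, hL, Matrix.mulVec_sub, hvw, sub_self, dotProduct_zero]
  have hpres : ∀ u v, B ((g : Mat) *ᵥ u) ((g : Mat) *ᵥ v) = B u v := fun u v => by
    simp only [hB, QuadraticMap.polar]
    rw [← Matrix.mulVec_add, hfix _ hg, hfix _ hg, hfix _ hg]
  have h : ((g : Mat))ᵀ * A * (g : Mat).map (RingHom.id F) = A := by
    ext i j
    have e := hpres (Pi.single i 1) (Pi.single j 1)
    rw [hL, hL, Matrix.mulVec_mulVec, ← Matrix.vecMul_transpose, ← Matrix.dotProduct_mulVec, Matrix.mulVec_mulVec,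
      ← mul_assoc, Matrix.mulVec_single_one, Matrix.mulVec_single_one, single_dotProduct, single_dotProduct,
      one_mul, one_mul] at e
    simpa using e
  exact trace_inv_of_gram hA h

/-- An element of the unitary group has the conjugate of the trace as the trace of its inverse. -/
theorem trace_inv_of_unitary [Finite F] {q : ℕ} (hF : Nat.card F = q ^ 2) {g : GL (Fin 3) F}
    (hg : g ∈ Cfsg.GU 3 F q) : ((g⁻¹ : GL (Fin 3) F) : Mat).trace = (g : Mat).trace ^ q := by
  have h := fun u v => (UTv.mem_GU (n := 3)).1 hg u v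
  have hgram : ((g : Mat))ᵀ * 1 * (g : Mat).map (UTv.frobEquiv hF : F →+* F) = 1 := by
    ext i j
    have e := h (Pi.single i 1) (Pi.single j 1)
    simp only [Cfsg.hermForm, Matrix.mulVec_single_one, Matrix.col_apply] at e
    rw [mul_one, Matrix.mul_apply]
    simp only [Matrix.transpose_apply, Matrix.map_apply]
    have hq : q ≠ 0 := fun e => by
      rw [e, zero_pow two_ne_zero] at hF
      exact (Nat.card_pos (α := F)).ne' hF
    refine Eq.trans (Finset.sum_congr rfl fun k _ => ?_) (e.trans ?_)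
    · rw [RingEquiv.coe_toRingHom, UTv.frobEquiv_apply]
    · rw [Finset.sum_eq_single i (fun k _ hk => by simp [hk]) (by simp)]
      by_cases hij : i = j
      · subst hij; simp
      · simp [hij, zero_pow hq]
  have h1 := trace_inv_of_gram isUnit_one hgram
  rw [RingEquiv.coe_toRingHom, UTv.frobEquiv_apply] at h1
  letI := Fintype.ofFinite F
  rw [← h1, ← pow_mul, ← pow_two, ← hF, Nat.card_eq_fintype_card, FiniteField.pow_card]

end CfsgLib.Geo.D3
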