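/-
The traces of an almost simple group of dimension three without transvections.
-/
import Cfsg.Agent.Geo.DimThree.NoTv.Dispatch
import Cfsg.Agent.Geo.DimThree.NoTv.Conic
import Cfsg.Agent.Geo.DimThree.NoTv.Extend
import Cfsg.Agent.Geo.DimThree.NoTv.Spectra
import Cfsg.Agent.Geo.DimThree.NoTv.Traces
import Cfsg.Agent.Geo.DimThree.FormTrace
import Cfsg.Agent.Geo.DimThree.Core

set_option autoImplicit false
set_option linter.style.haveILetI false

namespace CfsgLib.Geo.D3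

open Matrix Cfsg Cfsg.Geo CfsgLib.Geo

universe u

variable {F : Type u} [Field F] {H P : Subgroup (GL (Fin 3) F)}

local notation "Mat" => Matrix (Fin 3) (Fin 3) F

/-- The trace of an image under an extension of fields. -/
lemma trace_map {L : Type*} [Field L] (ι : F →+* L) (g : GL (Fin 3) F) :
    ((Matrix.GeneralLinearGroup.map (n := Fin 3) ι g : GL (Fin 3) L) : Matrix (Fin 3) (Fin 3) L).trace =
      ι (g : Mat).trace :=
  (AddMonoidHom.map_trace ι.toAddMonoidHom (g : Mat)).symm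

/-- The trace of the inverse of an image under an extension of fields. -/
lemma trace_map_inv {L : Type*} [Field L] (ι : F →+* L) (g : GL (Fin 3) F) :
    (((Matrix.GeneralLinearGroup.map (n := Fin 3) ι g)⁻¹ : GL (Fin 3) L) : Matrix (Fin 3) (Fin 3) L).trace =
      ι ((g⁻¹ : GL (Fin 3) F) : Mat).trace := by
  rw [← map_inv]
  exact trace_map ι g⁻¹

/-- The possible traces. -/
theorem trace_cases [Fintype F] (hC : Core H P) (p : ℕ) [CharP F p] (h2 : (2 : F) ≠ 0)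
    (htv : ∀ v φ : Fin 3 → F, v ≠ 0 → φ ≠ 0 → ¬ HasTv P v φ) :
    (∀ g ∈ P, (g : Mat).trace = ((g⁻¹ : GL (Fin 3) F) : Mat).trace) ∨
    (Nat.card (Pro P) = 168 ∧ ∃ b : F, b ^ 2 + b + 2 = 0 ∧ (∃ g ∈ P, (g : Mat).trace = b) ∧ ∀ g ∈ P,
      ((g : Mat).trace = b ∧ ((g⁻¹ : GL (Fin 3) F) : Mat).trace = -1 - b) ∨
      ((g : Mat).trace = -1 - b ∧ ((g⁻¹ : GL (Fin 3) F) : Mat).trace = b) ∨
      ((g : Mat).trace ∈ ({3, -1, 0, 1} : Set F) ∧
        ((g⁻¹ : GL (Fin 3) F) : Mat).trace = (g : Mat).trace)) ∨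
    (Nat.card (Pro P) = 360 ∧ p ≠ 3 ∧ ∃ w r : F, w ^ 2 + w + 1 = 0 ∧ r ^ 2 = r + 1 ∧
      (∃ g ∈ P, (g : Mat).trace = 3 * w ∧ ((g⁻¹ : GL (Fin 3) F) : Mat).trace = 3 * w ^ 2) ∧
      (∃ g ∈ P, ∃ i : ℕ, (g : Mat).trace = w ^ i * r) ∧
      ∀ g ∈ P, ∃ i : ℕ, ∃ v ∈ ({3, -1, 0, 1, r, 1 - r} : Set F),
        (g : Mat).trace = w ^ i * v ∧ ((g⁻¹ : GL (Fin 3) F) : Mat).trace = w ^ (2 * i) * v) ∨
    (Nat.card (Pro P) = 2520 ∧ p = 5 ∧
      ∀ g ∈ P, (g : Mat).trace ^ 5 = ((g⁻¹ : GL (Fin 3) F) : Mat).trace) := by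
  obtain ⟨L, iL, iLf, ι, hG, hcard⟩ := exists_splitting hC h2 htv
  haveI : CharP L p := charP_of_injective_ringHom ι.injective p
  have hchar : ringChar L = p := ringChar.eq L p
  have hmem : ∀ g ∈ P, Matrix.GeneralLinearGroup.map (n := Fin 3) ι g ∈
      P.map (Matrix.GeneralLinearGroup.map (n := Fin 3) ι) := fun g hg => Subgroup.mem_map_of_mem _ hg
  have hinj := ι.injective
  rcases notv_cases hG with ⟨q, u, hu, h5, hc, hU, hN⟩ | ⟨h, hp⟩ | h | ⟨h, hp⟩ | ⟨h, hp⟩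
  · left
    obtain ⟨⟨Q, hQ, hfix⟩, -⟩ := conic hG hu h5 hc hU hN
    intro g hg
    have e := trace_inv_of_quadratic hQ hfix (g := Matrix.GeneralLinearGroup.map (n := Fin 3) ι g)
      ⟨_, hmem g hg, rfl⟩
    rw [trace_map, trace_map_inv] at e
    exact (hinj e).symm
  · left
    intro g hg
    have e := trace_sixty hG h hp (hmem g hg)
    rw [trace_map, trace_map_inv] at e
    exact hinj e
  · refine Or.inr (Or.inl ⟨hcard ▸ h, ?_⟩)
    obtain ⟨-, b, hb, ⟨G₀, hG₀, hb₀⟩, hall⟩ := trace_168 hG h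
    obtain ⟨g₀, hg₀, rfl⟩ := Subgroup.mem_map.1 hG₀
    rw [trace_map] at hb₀
    subst hb₀
    refine ⟨(g₀ : Mat).trace, hinj (by simpa [map_ofNat] using hb), ⟨g₀, hg₀, rfl⟩, fun g hg => ?_⟩
    have e := hall _ (hmem g hg)
    rw [trace_map, trace_map_inv] at e
    rcases e with ⟨e, e'⟩ | ⟨e, e'⟩ | ⟨e, e'⟩
    · exact Or.inl ⟨hinj e, hinj (by simpa using e')⟩
    · exact Or.inr (Or.inl ⟨hinj (by simpa using e), hinj e'⟩)
    · refine Or.inr (Or.inr ⟨?_, hinj e'⟩)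
      simp only [Set.mem_insert_iff, Set.mem_singleton_iff] at e ⊢
      exact e.imp (fun e => hinj (by simpa [map_ofNat] using e))
        (Or.imp (fun e => hinj (by simpa using e))
          (Or.imp (fun e => hinj (by simpa using e)) fun e => hinj (by simpa using e)))
  · refine Or.inr (Or.inr (Or.inl ⟨hcard ▸ h, hchar ▸ hp, ?_⟩))
    obtain ⟨w', r', hw, hr, ⟨S, hS, hSw⟩, ⟨R, hR, i₀, hRr⟩, hall⟩ := trace_360 hG h hp
    obtain ⟨s, hs, rfl⟩ := Subgroup.mem_map.1 hS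
    obtain ⟨t, ht, rfl⟩ := Subgroup.mem_map.1 hR
    have hw0 : w' ≠ 0 := fun e => by simp [e] at hw
    obtain ⟨w, rfl⟩ : ∃ w : F, ι w = w' := ⟨(s : Mat) 0 0, by simpa using hSw 0 0⟩
    have hw0' : w ≠ 0 := fun e => hw0 (by rw [e, map_zero])
    rw [trace_map] at hRr
    obtain ⟨r, rfl⟩ : ∃ r : F, ι r = r' := ⟨(t : Mat).trace / w ^ i₀, by
      rw [map_div₀, map_pow, hRr, mul_div_cancel_left₀ _ (pow_ne_zero _ hw0)]⟩
    have hsw : (s : Mat) = w • (1 : Mat) := by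
      ext i j
      apply hinj
      refine (hSw i j).trans ?_
      by_cases e : i = j <;> simp [e]
    refine ⟨w, r, hinj (by simpa using hw), hinj (by simpa using hr), ⟨s, hs, ?_, ?_⟩,
      ⟨t, ht, i₀, hinj (by simpa using hRr)⟩, fun g hg => ?_⟩
    · rw [hsw]; simp [mul_comm]
    · have hw2 : w ^ 2 + w + 1 = 0 := hinj (by simpa using hw)
      have hw3 : w ^ 3 = 1 := by linear_combination (w - 1) * hw2
      have e : ((s⁻¹ : GL (Fin 3) F) : Mat) = w ^ 2 • (1 : Mat) := by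
        refine Units.inv_eq_of_mul_eq_one_right ?_
        rw [hsw, smul_mul_smul_comm, mul_one, ← pow_succ', hw3, one_smul]
      rw [e]; simp [mul_comm]
    · obtain ⟨i, v', hv', e, e'⟩ := hall _ (hmem g hg)
      rw [trace_map] at e
      rw [trace_map_inv] at e'
      obtain ⟨v, hv, rfl⟩ : ∃ v ∈ ({3, -1, 0, 1, r, 1 - r} : Set F), ι v = v' := by
        simp only [Set.mem_insert_iff, Set.mem_singleton_iff] at hv' ⊢
        rcases hv' with rfl | rfl | rfl | rfl | rfl | rfl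
        · exact ⟨3, by tauto, map_ofNat ι 3⟩
        · exact ⟨-1, by tauto, by simp⟩
        · exact ⟨0, by tauto, by simp⟩
        · exact ⟨1, by tauto, by simp⟩
        · exact ⟨r, by tauto, rfl⟩
        · exact ⟨1 - r, by tauto, by simp⟩
      exact ⟨i, v, hv, hinj (by simpa using e), hinj (by simpa using e')⟩
  · refine Or.inr (Or.inr (Or.inr ⟨hcard ▸ h, hchar ▸ hp, fun g hg => ?_⟩))
    have e := trace_2520 hG h hp (hmem g hg)
    rw [trace_map, trace_map_inv, ← map_pow] at e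
    exact hinj e

end CfsgLib.Geo.D3
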