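/-
Residual cores of dimension three containing a transvection.
-/
import Cfsg.Agent.Geo.DimThree.TvMain
import Cfsg.Agent.Geo.DimThree.NoTv.Types
import Cfsg.Agent.OddEnd.FourteenFinal

set_option autoImplicit false

namespace CfsgLib.Geo.D3

open Matrix Cfsg Cfsg.Geo CfsgLib.Geo
open scoped commutatorElement

variable {F : Type*} [Field F] {H P : Subgroup (GL (Fin 3) F)}

/-- In characteristic two a group that is not solvable modulo scalars contains a transvection. -/
theorem exists_transvection_of_char_two [Finite F] (h2 : (2 : F) = 0)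
    (hsimple : IsSimpleGroup (P ⧸ (scalars (Fin 3) F).subgroupOf P))
    (hna : ¬ IsMulCommutative (P ⧸ (scalars (Fin 3) F).subgroupOf P)) :
    ∃ v φ : Fin 3 → F, v ≠ 0 ∧ φ ≠ 0 ∧ HasTv P v φ := by
  haveI := hsimple
  set Q := P ⧸ (scalars (Fin 3) F).subgroupOf P
  have heven : 2 ∣ Nat.card P := by
    refine dvd_trans ?_ (Subgroup.card_quotient_dvd_card ((scalars (Fin 3) F).subgroupOf P))
    refine even_iff_two_dvd.1 (by_contra fun h => ?_)
    have hs := CfsgLib.OddEnd.odd_solvable Q (Nat.not_even_iff_odd.1 h)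
    exact hna ⟨⟨IsSimpleGroup.comm_iff_isSolvable.2 hs⟩⟩
  haveI := Fact.mk Nat.prime_two
  obtain ⟨x, hx⟩ := exists_prime_orderOf_dvd_card' 2 heven
  have hg : ((x : GL (Fin 3) F) : Matrix (Fin 3) (Fin 3) F) * ((x : GL (Fin 3) F) : Matrix (Fin 3) (Fin 3) F) = 1 := by
    have := congrArg (fun y : P => ((y : GL (Fin 3) F) : Matrix (Fin 3) (Fin 3) F)) (pow_orderOf_eq_one x)
    simpa [hx, pow_two] using this
  set N : Matrix (Fin 3) (Fin 3) F := ((x : GL (Fin 3) F) : Matrix (Fin 3) (Fin 3) F) - 1 with hN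
  have hN0 : N ≠ 0 := fun h => by
    have : x = 1 := Subtype.ext (Units.ext (sub_eq_zero.1 h))
    rw [this, orderOf_one] at hx
    omega
  have hNN : N * N = 0 := by
    rw [hN, mul_sub, sub_mul, hg, one_mul, mul_one]
    have : (2 : F) • ((1 : Matrix (Fin 3) (Fin 3) F) - ((x : GL (Fin 3) F) : Matrix (Fin 3) (Fin 3) F)) = 0 := by
      rw [h2, zero_smul]
    rw [two_smul] at this
    rw [← this]; abel
  obtain ⟨v, φ, hv, hφ, hd, he⟩ := exists_vecMulVec_of_sq_zero hN0 hNN
  refine ⟨v, φ, hv, hφ, hd, ?_⟩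
  have : tvec v φ hd = x := Units.ext (by rw [tvec_val, ← he, hN]; abel)
  rw [this]
  exact x.2

/-- A perfect irreducible group, simple modulo scalars, with a transvection is generated by its transvections. -/
theorem hyp_of_core (hperf : ⁅P, P⁆ = P) (hsimple : IsSimpleGroup (P ⧸ (scalars (Fin 3) F).subgroupOf P))
    (hirr : ActsIrreducibly (matrixSet P)) (htv : ∃ v φ : Fin 3 → F, v ≠ 0 ∧ φ ≠ 0 ∧ HasTv P v φ) :
    Hyp P ∧ ¬ Group.IsSolvable P := by
  classical
  obtain ⟨v₀, φ₀, hv₀, hφ₀, h₀⟩ := htv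
  have ht : IsT P v₀ φ₀ := ⟨hv₀, hφ₀, h₀⟩
  have hgen : P ≤ Subgroup.closure (tvSet P) := by
    set N := Subgroup.closure (tvSet P) with hNdef
    have hsub : N ≤ P := (Subgroup.closure_le P).2 fun g ⟨v, φ, h, hT, e⟩ => e ▸ hT.tvec_mem
    have hnorm : (N.subgroupOf P).Normal := by
      refine ⟨fun x hx y => ?_⟩
      rw [Subgroup.mem_subgroupOf] at hx ⊢
      have : N ≤ N.comap (MulAut.conj (y : GL (Fin 3) F)).toMonoidHom := by
        refine (Subgroup.closure_le _).2 fun g ⟨v, φ, h, hT, e⟩ => ?_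
        subst e
        refine Subgroup.subset_closure ⟨_, _, (hT.conj y.2).dot, hT.conj y.2, ?_⟩
        exact tvec_conj _ _ _ _
      exact this hx
    haveI := hsimple
    set π := QuotientGroup.mk' ((scalars (Fin 3) F).subgroupOf P)
    rcases (hnorm.map π (QuotientGroup.mk'_surjective _)).eq_bot_or_eq_top with h | h
    · exfalso
      have hm : π ⟨_, ht.tvec_mem⟩ ∈ (N.subgroupOf P).map π :=
        Subgroup.mem_map_of_mem _ (Subgroup.mem_subgroupOf.2 (Subgroup.subset_closure ⟨_, _, ht.dot, ht, rfl⟩))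
      rw [h, Subgroup.mem_bot, QuotientGroup.mk'_apply, QuotientGroup.eq_one_iff, Subgroup.mem_subgroupOf,
        mem_scalars_iff] at hm
      obtain ⟨c, hc⟩ := hm
      obtain ⟨x, hx⟩ : ∃ x, φ₀ x ≠ 0 := by
        by_contra hcon; push Not at hcon; exact hφ₀ (funext hcon)
      have he := congrArg (fun A : Matrix (Fin 3) (Fin 3) F => A *ᵥ Pi.single x 1) hc
      simp only [tvec_val, Matrix.add_mulVec, Matrix.one_mulVec, Matrix.vecMulVec_mulVec, Matrix.smul_mulVec] at he
      have hd : φ₀ ⬝ᵥ Pi.single x 1 = φ₀ x := by simp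
      -- `v₀` is a multiple of a unit vector whose pairing is not zero
      have h' : φ₀ x • v₀ = ((c : F) - 1) • (Pi.single x 1 : Fin 3 → F) := by
        rw [sub_smul, one_smul, ← he]
        funext i
        simp [hd, mul_comm]
      have := congrArg (fun y => φ₀ ⬝ᵥ y) h'
      simp only [dotProduct_smul, ht.dot, hd, smul_eq_mul, mul_zero] at this
      have hc1 : (c : F) - 1 = 0 := (mul_eq_zero.1 this.symm).resolve_right hx
      rw [hc1, zero_smul] at h'
      exact (smul_ne_zero hx hv₀) h'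
    · have hsup : ∀ a ∈ P, ∃ n ∈ N, ∃ z ∈ scalars (Fin 3) F, a = n * z := fun a ha => by
        have ha' : π ⟨a, ha⟩ ∈ (N.subgroupOf P).map π := h ▸ Subgroup.mem_top _
        obtain ⟨n, hn, e⟩ := ha'
        refine ⟨n, hn, _, (Subgroup.mem_subgroupOf.1 (QuotientGroup.eq.1 e)), ?_⟩
        simp
      have hcom : ∀ {z : GL (Fin 3) F}, z ∈ scalars (Fin 3) F → ∀ g, Commute z g := fun {z} hz g => by
        obtain ⟨c, hc⟩ := (mem_scalars_iff z).1 hz
        exact Units.ext (by simp [hc])
      conv_lhs => rw [← hperf]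
      refine Subgroup.commutator_le.2 fun a ha b hb => ?_
      obtain ⟨n, hn, z, hz, rfl⟩ := hsup a ha
      obtain ⟨m, hm, w, hw, rfl⟩ := hsup b hb
      have : ⁅n * z, m * w⁆ = ⁅n, m⁆ := by
        simp only [commutatorElement_def, _root_.mul_inv_rev]
        calc n * z * (m * w) * (z⁻¹ * n⁻¹) * (w⁻¹ * m⁻¹)
            = n * (z * (m * w) * z⁻¹) * n⁻¹ * (w⁻¹ * m⁻¹) := by group
          _ = n * (m * w) * n⁻¹ * (w⁻¹ * m⁻¹) := by rw [(hcom hz _).eq, mul_inv_cancel_right]
          _ = n * m * (w * n⁻¹ * w⁻¹) * m⁻¹ := by group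
          _ = n * m * n⁻¹ * m⁻¹ := by rw [(hcom hw _).eq, mul_inv_cancel_right]
      rw [this]
      exact N.mul_mem (N.mul_mem (N.mul_mem hn hm) (N.inv_mem hn)) (N.inv_mem hm)
  refine ⟨⟨hgen, fun v hv => ?_, fun φ hφ => ?_⟩, fun hs => ?_⟩
  · by_contra hcon
    push Not at hcon
    rcases hirr (F ∙ v) (by
        rintro _ ⟨g, hg, rfl⟩ _ ⟨y, hy, rfl⟩
        obtain ⟨c, rfl⟩ := Submodule.mem_span_singleton.1 hy
        rw [Matrix.toLin'_apply, Matrix.mulVec_smul]
        exact Submodule.smul_mem _ _ (hcon g hg)) with h | h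
    · exact hv ((Submodule.span_singleton_eq_bot).1 h)
    · have := finrank_span_singleton (K := F) hv
      rw [h, finrank_top, Module.finrank_fin_fun] at this
      omega
  · by_contra hcon
    push Not at hcon
    rcases hirr (LinearMap.ker (dotProductBilin F F φ)) (by
        rintro _ ⟨g, hg, rfl⟩ _ ⟨y, hy, rfl⟩
        rw [SetLike.mem_coe, LinearMap.mem_ker, dotProductBilin_apply_apply] at hy
        rw [LinearMap.mem_ker, dotProductBilin_apply_apply, Matrix.toLin'_apply, Matrix.dotProduct_mulVec]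
        obtain ⟨c, hc⟩ := Submodule.mem_span_singleton.1 (hcon g hg)
        rw [← hc, smul_dotProduct, hy, smul_zero]) with h | h
    · have : v₀ ∈ LinearMap.ker (dotProductBilin F F φ) := by
        rw [LinearMap.mem_ker, dotProductBilin_apply_apply]
        obtain ⟨c, hc⟩ := Submodule.mem_span_singleton.1 (hcon _ ht.tvec_mem)
        have e : φ ᵥ* (tvec v₀ φ₀ ht.dot : Matrix (Fin 3) (Fin 3) F) = φ + (φ ⬝ᵥ v₀) • φ₀ := by
          rw [tvec_val, Matrix.vecMul_add, Matrix.vecMul_one, Matrix.vecMul_vecMulVec]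
        rw [e] at hc
        by_contra hne
        have h1 := congrArg (fun y => y ⬝ᵥ v₀) hc
        simp only [smul_dotProduct, add_dotProduct, ht.dot, smul_eq_mul, mul_zero, add_zero] at h1
        have hc1 : c = 1 := mul_right_cancel₀ hne (h1.trans (one_mul _).symm)
        rw [hc1, one_smul] at hc
        exact (smul_ne_zero hne hφ₀) (left_eq_add.1 hc)
      rw [h] at this
      exact hv₀ ((Submodule.mem_bot F).1 this)
    · refine hφ (funext fun i => ?_)
      have : (Pi.single i 1 : Fin 3 → F) ∈ LinearMap.ker (dotProductBilin F F φ) := h ▸ Submodule.mem_top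
      rw [LinearMap.mem_ker, dotProductBilin_apply_apply] at this
      simpa using this
  · haveI := hs
    haveI : Nontrivial P := (QuotientGroup.mk'_surjective ((scalars (Fin 3) F).subgroupOf P)).nontrivial
    exact (Group.IsSolvable.commutator_lt_top_of_nontrivial P).ne (by
      apply Subgroup.map_injective P.subtype_injective
      rw [commutator_def, Subgroup.map_commutator, ← MonoidHom.range_eq_map, P.range_subtype, hperf])

/-- A group inside a copy of a group over a subfield can be realised over that subfield. -/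
lemma realisable_of_le {K : Subfield F} {S : Subgroup (GL (Fin 3) K)} {g : GL (Fin 3) F}
    (h : P.map (MulAut.conj g).toMonoidHom ≤ S.map (Matrix.GeneralLinearGroup.map (n := Fin 3) (K.subtype : K →+* F))) :
    RealisableOver K (matrixSet P) := by
  refine ⟨g, ?_⟩
  rintro _ ⟨x, hx, rfl⟩ i j
  obtain ⟨y, -, e⟩ := h ⟨x, hx, rfl⟩
  have e' := congrFun (congrFun (congrArg (fun z : GL (Fin 3) F => (z : Matrix (Fin 3) (Fin 3) F)) e) i) j
  simp only [MulEquiv.coe_toMonoidHom, MulAut.conj_apply, Units.val_mul] at e'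
  rw [← e']
  exact ((y : Matrix (Fin 3) (Fin 3) K) i j).2

/-- The three possibilities for a residual core with a transvection, all over the whole field. -/
theorem core_cases [Finite F] (hP : IsResidualCore H P)
    (htv : ∃ v φ : Fin 3 → F, v ≠ 0 ∧ φ ≠ 0 ∧ HasTv P v φ) :
    P = specialLinear (Fin 3) F ∨
      (∃ (q : ℕ) (g : GL (Fin 3) F), Nat.card F = q ^ 2 ∧ 3 ≤ q ∧
        P.map (MulAut.conj g).toMonoidHom = UTv.suGL 3 F q) ∨
      (Nat.card F = 4 ∧ Nonempty ((P ⧸ (scalars (Fin 3) F).subgroupOf P) ≃* alternatingGroup (Fin 6))) := by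
  obtain ⟨hM, hns⟩ := hyp_of_core hP.perfect hP.simple hP.absIrred.1 htv
  have htop : ∀ K : Subfield F, RealisableOver K (matrixSet P) → K = ⊤ := fun K h =>
    by_contra fun hK => hP.no_subfield K hK h
  have hsurj : ∀ x : GL (Fin 3) F, ∃ y : GL (Fin 3) (⊤ : Subfield F),
      Matrix.GeneralLinearGroup.map (n := Fin 3) ((⊤ : Subfield F).subtype : (⊤ : Subfield F) →+* F) y = x := fun x => by
    refine ⟨Matrix.GeneralLinearGroup.map (n := Fin 3) (Subfield.topEquiv (K := F)).symm.toRingHom x, Units.ext ?_⟩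
    ext i j
    rfl
  have hcard : Nat.card (⊤ : Subfield F) = Nat.card F := Nat.card_congr Subfield.topEquiv.toEquiv
  rcases tv_classification hM hns with ⟨K, g, hg⟩ | ⟨K, q, g, hc, hq, hg⟩ | ⟨K, g, hc, hle, hι⟩
  · obtain rfl := htop K (realisable_of_le hg.le)
    refine Or.inl ?_
    have htop' : slOver (⊤ : Subfield F) = specialLinear (Fin 3) F := by
      ext x
      constructor
      · rintro ⟨y, hy, rfl⟩
        rw [SetLike.mem_coe, mem_specialLinear] at hy
        rw [mem_specialLinear]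
        show ((⊤ : Subfield F).subtype.mapMatrix (y : Matrix (Fin 3) (Fin 3) _)).det = 1
        rw [← RingHom.map_det, hy, map_one]
      · intro hx
        obtain ⟨y, rfl⟩ := hsurj x
        refine ⟨y, ?_, rfl⟩
        rw [mem_specialLinear] at hx
        rw [SetLike.mem_coe, mem_specialLinear]
        refine (⊤ : Subfield F).subtype_injective ?_
        rw [map_one, RingHom.map_det]
        exact hx
    rw [htop', ← specialLinear_map_conj g] at hg
    exact Subgroup.map_injective (MulAut.conj g).injective hg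
  · obtain rfl := htop K (realisable_of_le hg.le)
    rw [hcard] at hc
    refine Or.inr (Or.inl ⟨q, g, hc, hq, hg.trans ?_⟩)
    have hh : ∀ y : GL (Fin 3) (⊤ : Subfield F), y ∈ UTv.suGL 3 (⊤ : Subfield F) q ↔
        Matrix.GeneralLinearGroup.map (n := Fin 3) ((⊤ : Subfield F).subtype : _ →+* F) y ∈ UTv.suGL 3 F q := by
      intro y
      have hform : ∀ u v : Fin 3 → (⊤ : Subfield F),
          Cfsg.hermForm 3 F q (lift ⊤ u) (lift ⊤ v) = ((Cfsg.hermForm 3 (⊤ : Subfield F) q u v : (⊤ : Subfield F)) : F) :=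
        fun u v => by simp [Cfsg.hermForm, lift]
      rw [Subgroup.mem_inf, Subgroup.mem_inf, UTv.mem_GU, UTv.mem_GU, mem_specialLinear, mem_specialLinear]
      refine and_congr ⟨fun h u v => ?_, fun h u v => ?_⟩ ?_
      · obtain ⟨u, rfl⟩ : ∃ a, lift ⊤ a = u := ⟨fun i => ⟨u i, Subfield.mem_top _⟩, rfl⟩
        obtain ⟨v, rfl⟩ : ∃ a, lift ⊤ a = v := ⟨fun i => ⟨v i, Subfield.mem_top _⟩, rfl⟩
        rw [← lift_mulVec, ← lift_mulVec, hform, hform, h]
      · refine Subtype.ext ?_
        rw [← hform, ← hform, lift_mulVec, lift_mulVec, h]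
      · rw [show ((Matrix.GeneralLinearGroup.map (n := Fin 3) ((⊤ : Subfield F).subtype : _ →+* F) y : GL (Fin 3) F) :
          Matrix (Fin 3) (Fin 3) F) = (⊤ : Subfield F).subtype.mapMatrix (y : Matrix (Fin 3) (Fin 3) _) from rfl,
          ← RingHom.map_det, map_eq_one_iff _ (⊤ : Subfield F).subtype_injective]
    ext x
    constructor
    · rintro ⟨y, hy, rfl⟩; exact (hh y).1 hy
    · intro hx
      obtain ⟨y, rfl⟩ := hsurj x
      exact ⟨y, (hh y).2 hx, rfl⟩
  · obtain rfl := htop K (realisable_of_le hle)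
    exact Or.inr (Or.inr ⟨hcard ▸ hc, hι⟩)

end CfsgLib.Geo.D3
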