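/-
The transvection branch of the maximal residual subgroups of dimension three.
-/
import Cfsg.Agent.Geo.DimThree.TvCore

set_option autoImplicit false

namespace CfsgLib.Geo.D3

open Matrix Cfsg Cfsg.Geo CfsgLib.Geo CfsgLib.Geo.SL3

variable {F : Type*} [Field F] {H P : Subgroup (GL (Fin 3) F)}

/-- A maximal residual subgroup of the special linear group whose core has a transvection is the sextuple group over
the field with four elements. -/
theorem sl3_tv_branch [Finite F] (hH : IsMaximalIn (specialLinear (Fin 3) F) H) (hP : IsResidualCore H P)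
    (hnu : ¬ ∃ (σ : F ≃+* F) (f : (Fin 3 → F) → (Fin 3 → F) → F), IsUnitaryForm σ f ∧ FixesForm (matrixSet P) f)
    (htv : ∃ v φ : Fin 3 → F, v ≠ 0 ∧ φ ≠ 0 ∧ HasTv P v φ) :
    Nat.card F = 4 ∧ Nonempty ((P ⧸ (scalars (Fin 3) F).subgroupOf P) ≃* alternatingGroup (Fin 6)) := by
  rcases core_cases hP htv with h | ⟨q, g, hc, hq, hg⟩ | h
  · exact absurd (le_antisymm hH.1.le (h ▸ hP.le)) hH.1.ne
  · refine absurd ?_ hnu
    have hf := UTv.isUnitaryForm hc (n := 3)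
    refine ⟨UTv.frobEquiv hc, fun u v => Cfsg.hermForm 3 F q ((g : Matrix (Fin 3) (Fin 3) F) *ᵥ u)
      ((g : Matrix (Fin 3) (Fin 3) F) *ᵥ v), ⟨hf.ne_refl, hf.involutive, fun x y v => ?_, fun c x v => ?_,
      fun v w => hf.herm _ _, fun v hv => ?_⟩, ?_⟩
    · rw [Matrix.mulVec_add, hf.add_left]
    · rw [Matrix.mulVec_smul, hf.smul_left]
    · obtain ⟨⟨x, hx⟩, ⟨y, hy⟩⟩ := hf.nondegenerate _ (Plane.mulVec_ne_zero' g hv)
      exact ⟨⟨((g⁻¹ : GL (Fin 3) F) : Matrix (Fin 3) (Fin 3) F) *ᵥ x, by rwa [mulVec_inv_mulVec]⟩,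
        ⟨((g⁻¹ : GL (Fin 3) F) : Matrix (Fin 3) (Fin 3) F) *ᵥ y, by rwa [mulVec_inv_mulVec]⟩⟩
    · rintro _ ⟨x, hx, rfl⟩ u v
      have hm : g * x * g⁻¹ ∈ UTv.suGL 3 F q := hg ▸ ⟨x, hx, rfl⟩
      have h := UTv.herm_mulVec hm ((g : Matrix (Fin 3) (Fin 3) F) *ᵥ u) ((g : Matrix (Fin 3) (Fin 3) F) *ᵥ v)
      simp only [Units.val_mul, ← Matrix.mulVec_mulVec] at h
      rwa [show ((g⁻¹ : GL (Fin 3) F) : Matrix (Fin 3) (Fin 3) F) *ᵥ ((g : Matrix (Fin 3) (Fin 3) F) *ᵥ u) = u by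
          rw [Matrix.mulVec_mulVec, ← Units.val_mul, inv_mul_cancel, Units.val_one, Matrix.one_mulVec],
        show ((g⁻¹ : GL (Fin 3) F) : Matrix (Fin 3) (Fin 3) F) *ᵥ ((g : Matrix (Fin 3) (Fin 3) F) *ᵥ v) = v by
          rw [Matrix.mulVec_mulVec, ← Units.val_mul, inv_mul_cancel, Units.val_one, Matrix.one_mulVec]] at h
  · exact h

/-- A maximal residual subgroup of the special unitary group has no transvection in its core. -/
theorem su3_tv_branch [Finite F] {q : ℕ} (hF : Nat.card F = q ^ 2) (hq : 3 ≤ q)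
    (hH : IsMaximalIn (Cfsg.GU 3 F q ⊓ specialLinear (Fin 3) F) H) (hP : IsResidualCore H P) :
    ¬ ∃ v φ : Fin 3 → F, v ≠ 0 ∧ φ ≠ 0 ∧ HasTv P v φ := by
  intro htv
  rcases core_cases hP htv with h | ⟨q', g, hc, -, hg⟩ | ⟨h, -⟩
  · exact hH.1.ne (le_antisymm hH.1.le (inf_le_right.trans (h ▸ hP.le)))
  · obtain rfl : q' = q := Nat.pow_left_injective two_ne_zero (hc.symm.trans hF)
    have hcard : Nat.card P = Nat.card (UTv.suGL 3 F q' : Subgroup (GL (Fin 3) F)) := by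
      rw [← hg]
      exact Nat.card_congr (Subgroup.equivMapOfInjective P (MulAut.conj g).toMonoidHom (MulAut.conj g).injective).toEquiv
    have hle : P ≤ UTv.suGL 3 F q' := hP.le.trans hH.1.le
    exact hH.1.ne (le_antisymm hH.1.le ((Subgroup.eq_of_le_of_card_ge hle hcard.ge).ge.trans hP.le))
  · rw [hF] at h
    have : 3 ^ 2 ≤ q ^ 2 := Nat.pow_le_pow_left hq 2
    omega

end CfsgLib.Geo.D3
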