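/-
The maximal residual subgroups of the special linear group of dimension three.
-/
import Cfsg.Agent.Geo.DimThree.ResidualTraces
import Cfsg.Agent.Geo.DimThree.TvBranch
import Cfsg.Agent.Geo.DimThree.Congruences
import Cfsg.Agent.S0255
import Cfsg.Agent.S0495
import Cfsg.Agent.S0497
import Cfsg.Agent.S0984

set_option autoImplicit false
set_option linter.style.haveILetI false

namespace CfsgLib.Geo.D3

open Matrix Cfsg Cfsg.Geo CfsgLib.Geo

universe u

variable {F : Type u} [Field F] {H P : Subgroup (GL (Fin 3) F)}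

local notation "Mat" => Matrix (Fin 3) (Fin 3) F

/-- The simple group of order 168. -/
theorem iso_168 {X : Type u} [Group X] [Finite X] [IsSimpleGroup X] (h : Nat.card X = 168) :
    Nonempty (X ≃* Matrix.ProjectiveSpecialLinearGroup (Fin 3) (ZMod 2)) := by
  haveI : Fact (Nat.Prime 7) := ⟨by norm_num⟩
  haveI : Fact (Nat.Prime 2) := ⟨Nat.prime_two⟩
  obtain ⟨e₁⟩ := Cfsg.Agent.S0495.result h (F := ZMod 7) (ZMod.card 7)
  obtain ⟨e₂⟩ := Cfsg.Agent.S0255.result (F := ZMod 7) (K := ZMod 2) (ZMod.card 7) (ZMod.card 2)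
  exact ⟨e₁.trans e₂⟩

/-- A simple non-abelian core generated by transvections contains one. -/
lemma Core.exists_tv_of_hyp (hC : Core H P) (hyp : Hyp P) :
    ∃ v φ : Fin 3 → F, v ≠ 0 ∧ φ ≠ 0 ∧ HasTv P v φ := by
  by_contra h
  refine hC.nonabelian ⟨⟨fun a b => ?_⟩⟩
  have he : tvSet P = ∅ := Set.eq_empty_iff_forall_notMem.2 fun x ⟨v, φ, hd, ha, _⟩ =>
    h ⟨v, φ, ha.v_ne, ha.φ_ne, ha.mem⟩
  have hb : P = ⊥ := by
    refine le_bot_iff.1 ?_
    have := hyp.gen
    rwa [he, Subgroup.closure_empty] at this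
  obtain ⟨x, rfl⟩ := toPro_surjective a
  obtain ⟨y, rfl⟩ := toPro_surjective b
  have hx : x = 1 := Subtype.ext (Subgroup.mem_bot.1 (hb.le x.2))
  rw [hx, map_one, one_mul, mul_one]

section frobenius

variable {p : ℕ} [Fact p.Prime] [CharP F p]

/-- A root of `b ^ 2 + b + 2` under the Frobenius. -/
lemma seven_frob {b : F} (hb : b ^ 2 + b + 2 = 0) : b ^ p = b ∨ b ^ p = -1 - b := by
  have h := congrArg (frobenius F p) hb
  simp only [map_add, map_pow, map_ofNat, map_zero] at h
  rw [frobenius_def] at h
  have e : (b ^ p - b) * (b ^ p + b + 1) = 0 := by linear_combination h - hb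
  exact (mul_eq_zero.1 e).imp sub_eq_zero.1 fun e => by linear_combination e

/-- A root of `r ^ 2 - r - 1` under the Frobenius. -/
lemma five_frob {r : F} (hr : r ^ 2 = r + 1) : r ^ p = r ∨ r ^ p = 1 - r := by
  have h := congrArg (frobenius F p) hr
  simp only [map_add, map_pow, map_one] at h
  rw [frobenius_def] at h
  have e : (r ^ p - r) * (r ^ p + r - 1) = 0 := by linear_combination h - hr
  exact (mul_eq_zero.1 e).imp sub_eq_zero.1 fun e => by linear_combination e

/-- A cube root of unity under the Frobenius. -/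
lemma three_frob {w : F} (hw : w ^ 2 + w + 1 = 0) : w ^ p = w ∨ w ^ p = w ^ 2 := by
  have h := congrArg (frobenius F p) hw
  simp only [map_add, map_pow, map_one, map_zero] at h
  rw [frobenius_def] at h
  have e : (w ^ p - w) * (w ^ p + w + 1) = 0 := by linear_combination h - hw
  exact (mul_eq_zero.1 e).imp sub_eq_zero.1 fun e => by linear_combination e - hw

/-- The special values are fixed by the Frobenius. -/
lemma small_frob {x : F} (hx : x ∈ ({3, -1, 0, 1} : Set F)) : x ^ p = x := by
  rw [← frobenius_def]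
  rcases hx with rfl | rfl | rfl | rfl
  · exact map_ofNat _ 3
  · simp only [map_neg, map_one]
  · exact map_zero _
  · exact map_one _

/-- Roots of `r ^ 2 - r - 1` under the square of the Frobenius. -/
lemma five_frob_two {r : F} (hr : r ^ 2 = r + 1) : (r ^ p) ^ p = r := by
  rcases five_frob (p := p) hr with e | e
  · rw [e, e]
  · rw [e, ← frobenius_def, map_sub, map_one, frobenius_def, e]; ring

/-- Cube roots of unity under the square of the Frobenius. -/
lemma three_frob_two {w : F} (hw : w ^ 2 + w + 1 = 0) : (w ^ p) ^ p = w := by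
  rcases three_frob (p := p) hw with e | e
  · rw [e, e]
  · have hw3 : w ^ 3 = 1 := by linear_combination (w - 1) * hw
    rw [e, ← pow_mul, mul_comm, pow_mul, e]; linear_combination w * hw3

/-- Roots of `b ^ 2 + b + 2` under the square of the Frobenius. -/
lemma seven_frob_two {b : F} (hb : b ^ 2 + b + 2 = 0) : (b ^ p) ^ p = b := by
  rcases seven_frob (p := p) hb with e | e
  · rw [e, e]
  · rw [e, ← frobenius_def, map_sub, map_neg, map_one, frobenius_def, e]; ring

/-- The values of a group of order 360 when `r` is fixed. -/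
lemma six_frob {r v : F} (hr : r ^ p = r) (hv : v ∈ ({3, -1, 0, 1, r, 1 - r} : Set F)) : v ^ p = v := by
  simp only [Set.mem_insert_iff, Set.mem_singleton_iff] at hv
  rcases hv with h | h | h | h | h | h
  · exact small_frob (by simp [h])
  · exact small_frob (by simp [h])
  · exact small_frob (by simp [h])
  · exact small_frob (by simp [h])
  · rw [h, hr]
  · rw [h, ← frobenius_def, map_sub, map_one, frobenius_def, hr]

/-- The values of a group of order 360 under the square of the Frobenius. -/
lemma six_frob_two {r v : F} (hr : r ^ 2 = r + 1) (hv : v ∈ ({3, -1, 0, 1, r, 1 - r} : Set F)) :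
    (v ^ p) ^ p = v := by
  simp only [Set.mem_insert_iff, Set.mem_singleton_iff] at hv
  rcases hv with h | h | h | h | h | h
  · rw [small_frob (x := v) (by simp [h]), small_frob (x := v) (by simp [h])]
  · rw [small_frob (x := v) (by simp [h]), small_frob (x := v) (by simp [h])]
  · rw [small_frob (x := v) (by simp [h]), small_frob (x := v) (by simp [h])]
  · rw [small_frob (x := v) (by simp [h]), small_frob (x := v) (by simp [h])]
  · rw [h, five_frob_two hr]
  · have e := five_frob_two (p := p) (r := r) hr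
    simp only [← frobenius_def] at e
    rw [h]
    simp only [← frobenius_def, map_sub, map_one, e]

end frobenius

variable [Fintype F]


/-- No invariant unitary form: the traces of the inverses are not the Frobenius images. -/
lemma not_hermitian {p : ℕ} (hcard : Fintype.card F = p ^ 2) (hP : IsResidualCore H P)
    (hnu : ¬ ∃ (σ : F ≃+* F) (f : (Fin 3 → F) → (Fin 3 → F) → F), IsUnitaryForm σ f ∧ FixesForm (matrixSet P) f)
    (htr : ∀ g ∈ P, (g : Mat).trace ^ p = ((g⁻¹ : GL (Fin 3) F) : Mat).trace) : False := by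
  have hc : Nat.card F = p ^ 2 := by rw [Nat.card_eq_fintype_card, hcard]
  have hf := UTv.isUnitaryForm hc (n := 3)
  obtain ⟨f, h⟩ := hermitian_of_trace hP.absIrred hP.perfect (σ := UTv.frobEquiv hc) hf.ne_refl hf.involutive
    (fun g hg => by rw [UTv.frobEquiv_apply]; exact htr g hg)
  exact hnu ⟨_, f, h⟩

/-- The maximal residual subgroups of the special linear group, without transvections. -/
theorem sl3_notv_branch (hP : IsResidualCore H P) (p : ℕ) [Fact p.Prime] [CharP F p] (h2 : (2 : F) ≠ 0)
    (htv : ∀ v φ : Fin 3 → F, v ≠ 0 → φ ≠ 0 → ¬ HasTv P v φ)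
    (hnq : ¬ ∃ Q : (Fin 3 → F) → F, IsNondegenerateQuadraticForm Q ∧ FixesQuadForm (matrixSet P) Q)
    (hnu : ¬ ∃ (σ : F ≃+* F) (f : (Fin 3 → F) → (Fin 3 → F) → F), IsUnitaryForm σ f ∧ FixesForm (matrixSet P) f) :
    (Nonempty (Pro P ≃* Matrix.ProjectiveSpecialLinearGroup (Fin 3) (ZMod 2)) ∧
        Fintype.card F = p ∧ p ≠ 2 ∧ (p % 7 = 1 ∨ p % 7 = 2 ∨ p % 7 = 4)) ∨
    (Nonempty (Pro P ≃* alternatingGroup (Fin 6)) ∧
        ((Fintype.card F = p ∧ (p % 15 = 1 ∨ p % 15 = 4)) ∨
          (Fintype.card F = p ^ 2 ∧ p ≠ 3 ∧ (p % 5 = 2 ∨ p % 5 = 3)))) := by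
  haveI : Finite (Pro P) := inferInstance
  haveI := hP.simple
  have hpp : p.Prime := Fact.out
  have hp2 : p ≠ 2 := fun e => h2 (by subst e; exact_mod_cast CharP.cast_eq_zero F 2)
  have hsym : (∀ g ∈ P, (g : Mat).trace = ((g⁻¹ : GL (Fin 3) F) : Mat).trace) → False := fun h =>
    hnq (quadratic_of_trace hP.absIrred hP.perfect h2 h)
  have hcard : ∀ k : ℕ, (k = 1 ∨ k = 2) → (∀ g ∈ P, (g : Mat).trace ^ p ^ k = (g : Mat).trace) →
      Fintype.card F = p ∨ (k = 2 ∧ Fintype.card F = p ^ 2) := fun k hk h =>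
    card_le_of_traces hpp hk hP.absIrred hP.no_subfield h
  have hfix : ∀ x : F, Fintype.card F = p → x ^ p = x := fun x e => by rw [← e, FiniteField.pow_card]
  have hsq : ∀ x : F, (x ^ p) ^ p = x ^ p ^ 2 := fun x => by rw [← pow_mul, pow_two]
  rcases trace_cases (Core.of_residual hP) p h2 htv with h | ⟨h, b, hb, -, hall⟩ |
    ⟨h, hp3, w, r, hw, hr, -, ⟨t, ht, it, htr⟩, hall⟩ | ⟨-, rfl, hall⟩
  · exact (hsym h).elim
  · refine Or.inl ⟨iso_168 h, ?_⟩
    rcases seven_frob (p := p) hb with e | e
    · have hq : Fintype.card F = p := by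
        refine (hcard 1 (Or.inl rfl) fun g hg => ?_).resolve_right (by simp)
        rw [pow_one]
        rcases hall g hg with ⟨e1, -⟩ | ⟨e1, -⟩ | ⟨e1, -⟩
        · rw [e1, e]
        · rw [e1, ← frobenius_def, map_sub, map_neg, map_one, frobenius_def, e]
        · exact small_frob e1
      have h7 : p ≠ 7 := by
        rintro rfl
        have h7' : (7 : F) = 0 := by exact_mod_cast CharP.cast_eq_zero F 7
        have hb3 : b = 3 := sub_eq_zero.1 (pow_eq_zero_iff (n := 2) two_ne_zero |>.1 (by
          linear_combination hb + (1 - b) * h7'))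
        refine hsym fun g hg => ?_
        rcases hall g hg with ⟨e1, e2⟩ | ⟨e1, e2⟩ | ⟨-, e2⟩
        · rw [e1, e2, hb3]; linear_combination h7'
        · rw [e1, e2, hb3]; linear_combination -h7'
        · rw [e2]
      exact ⟨hq, hp2, (seven_congr hpp h7 hb).1 e⟩
    · have htr : ∀ g ∈ P, (g : Mat).trace ^ p = ((g⁻¹ : GL (Fin 3) F) : Mat).trace := fun g hg => by
        rcases hall g hg with ⟨e1, e2⟩ | ⟨e1, e2⟩ | ⟨e1, e2⟩
        · rw [e1, e2, e]
        · rw [e1, e2, ← frobenius_def, map_sub, map_neg, map_one, frobenius_def, e]; ring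
        · rw [small_frob e1, e2]
      have htr2 : ∀ g ∈ P, (g : Mat).trace ^ p ^ 2 = (g : Mat).trace := fun g hg => by
        rw [← hsq, htr g hg]
        simpa using htr g⁻¹ (inv_mem hg)
      rcases hcard 2 (Or.inr rfl) htr2 with hq | ⟨-, hq⟩
      · exact (hsym fun g hg => by rw [← htr g hg, hfix _ hq]).elim
      · exact (not_hermitian hq hP hnu htr).elim
  · refine Or.inr ⟨Cfsg.Agent.S0497.result h, ?_⟩
    have hval : r ^ p = r → ∀ v ∈ ({3, -1, 0, 1, r, 1 - r} : Set F), v ^ p = v := fun hr' v hv => six_frob hr' hv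
    have hk2 : ∀ g ∈ P, (g : Mat).trace ^ p ^ 2 = (g : Mat).trace := fun g hg => by
      obtain ⟨i, v, hv, e, -⟩ := hall g hg
      rw [e, ← hsq, mul_pow, mul_pow, six_frob_two hr hv, pow_right_comm w i p,
        pow_right_comm (w ^ p) i p, three_frob_two hw]
    rcases five_frob (p := p) hr with hr' | hr'
    · rcases three_frob (p := p) hw with hw' | hw'
      · refine Or.inl ⟨(hcard 1 (Or.inl rfl) fun g hg => ?_).resolve_right (by simp), ?_⟩
        · obtain ⟨i, v, hv, e, -⟩ := hall g hg
          rw [pow_one, e, mul_pow, ← pow_mul, mul_comm i, pow_mul, hw', hval hr' v hv]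
        · have h1 := (three_congr hpp hp3 hw).1 hw'
          have h5 := (five_congr hpp hp2 hr).1 hr'
          have h50 : p % 5 ≠ 0 := fun e => by
            have := (Nat.prime_dvd_prime_iff_eq (by norm_num) hpp).1 (Nat.dvd_of_mod_eq_zero e)
            omega
          omega
      · exfalso
        have hne : w ^ p ≠ w := fun e => by
          have hw1 : w = 1 := by
            have h0 : w * (w - 1) = 0 := by linear_combination -hw' + e
            rcases mul_eq_zero.1 h0 with h0 | h0
            · simp [h0] at hw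
            · exact sub_eq_zero.1 h0
          subst hw1
          have h3 : ((3 : ℕ) : F) = 0 := by push_cast; linear_combination hw
          exact hp3 ((Nat.prime_dvd_prime_iff_eq hpp Nat.prime_three).1 ((CharP.cast_eq_zero_iff F p 3).1 h3))
        rcases hcard 2 (Or.inr rfl) hk2 with hq | ⟨-, hq⟩
        · exact hne (hfix w hq)
        · refine not_hermitian hq hP hnu fun g hg => ?_
          obtain ⟨i, v, hv, e, e'⟩ := hall g hg
          rw [e, e', mul_pow, ← pow_mul, mul_comm i, pow_mul, hw', hval hr' v hv, ← pow_mul]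
    · rcases hcard 2 (Or.inr rfl) hk2 with hq | ⟨-, hq⟩
      · have e := hfix r hq
        have h5 := (five_congr hpp hp2 hr).1 e
        refine Or.inl ⟨hq, ?_⟩
        have h1 := (three_congr hpp hp3 hw).1 (hfix w hq)
        have h50 : p % 5 ≠ 0 := fun e => by
          have := (Nat.prime_dvd_prime_iff_eq (by norm_num) hpp).1 (Nat.dvd_of_mod_eq_zero e)
          omega
        omega
      · refine Or.inr ⟨hq, hp3, ?_⟩
        by_cases e : r ^ p = r
        · exfalso
          have h0 : (2 * r - 1) = 0 := by linear_combination hr' - e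
          have h5 : ((5 : ℕ) : F) = 0 := by push_cast; linear_combination (2 * r - 1) * h0 - 4 * hr
          obtain rfl : p = 5 :=
            (Nat.prime_dvd_prime_iff_eq hpp (by norm_num)).1 ((CharP.cast_eq_zero_iff F p 5).1 h5)
          have hw' : w ^ 5 = w ^ 2 := by
            have hw3 : w ^ 3 = 1 := by linear_combination (w - 1) * hw
            linear_combination w ^ 2 * hw3
          refine not_hermitian hq hP hnu fun g hg => ?_
          obtain ⟨i, v, hv, e1, e2⟩ := hall g hg
          rw [e1, e2, mul_pow, ← pow_mul, mul_comm i, pow_mul, hw', hval e v hv, ← pow_mul]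
        · exact (five_congr hpp hp2 hr).2 e
  · exfalso
    rcases hcard 2 (Or.inr rfl) (fun g hg => by
      rw [← hsq, hall g hg]; simpa using hall g⁻¹ (inv_mem hg)) with hq | ⟨-, hq⟩
    · exact hsym fun g hg => by rw [← hall g hg, hfix _ hq]
    · exact not_hermitian hq hP hnu hall

end CfsgLib.Geo.D3
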