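/-
The maximal residual subgroups of the special unitary group of dimension three.
-/
import Cfsg.Agent.Geo.DimThree.ResidualMax
import Cfsg.Agent.Geo.DimThree.NoTv.Certificate

set_option autoImplicit false
set_option linter.style.haveILetI false

namespace CfsgLib.Geo.D3

open Matrix Cfsg Cfsg.Geo CfsgLib.Geo

universe u

variable {F : Type u} [Field F] {H P : Subgroup (GL (Fin 3) F)} [Fintype F]

local notation "Mat" => Matrix (Fin 3) (Fin 3) F

/-- The maximal residual subgroups of the special unitary group, without transvections. -/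
theorem su3_notv_branch {q : ℕ} (hF : Fintype.card F = q ^ 2)
    (hH : IsMaximalIn (Cfsg.GU 3 F q ⊓ specialLinear (Fin 3) F) H) (hP : IsResidualCore H P) (h2 : (2 : F) ≠ 0)
    (htv : ∀ v φ : Fin 3 → F, v ≠ 0 → φ ≠ 0 → ¬ HasTv P v φ)
    (hnq : ¬ ∃ Q : (Fin 3 → F) → F, IsNondegenerateQuadraticForm Q ∧ FixesQuadForm (matrixSet P) Q) :
    q.Prime ∧
    ((Nonempty (Pro P ≃* Matrix.ProjectiveSpecialLinearGroup (Fin 3) (ZMod 2)) ∧
        q ≠ 5 ∧ (q % 7 = 3 ∨ q % 7 = 5 ∨ q % 7 = 6)) ∨
     (Nonempty (Pro P ≃* alternatingGroup (Fin 6)) ∧ (q % 15 = 11 ∨ q % 15 = 14 ∨ q = 5)) ∨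
     (Nonempty (Pro P ≃* alternatingGroup (Fin 7)) ∧ q = 5)) := by
  haveI := hP.simple
  obtain ⟨p, _⟩ := CharP.exists F
  haveI : Fact p.Prime := ⟨CharP.char_is_prime F p⟩
  have hpp : p.Prime := Fact.out
  have hp2 : p ≠ 2 := fun e => h2 (by subst e; exact_mod_cast CharP.cast_eq_zero F 2)
  have hFn : Nat.card F = q ^ 2 := by rw [Nat.card_eq_fintype_card, hF]
  have hinv : ∀ g ∈ P, ((g⁻¹ : GL (Fin 3) F) : Mat).trace = (g : Mat).trace ^ q := fun g hg =>
    trace_inv_of_unitary hFn ((hH.1.le (hP.le hg)).1)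
  have hsq : ∀ x : F, (x ^ p) ^ p = x ^ p ^ 2 := fun x => by rw [← pow_mul, pow_two]
  have hcard : (∀ g ∈ P, (g : Mat).trace ^ p ^ 2 = (g : Mat).trace) → q = p := fun h => by
    rcases card_le_of_traces hpp (Or.inr rfl) hP.absIrred hP.no_subfield h with e | ⟨-, e⟩
    · exact absurd ⟨q, by rw [← pow_two, ← hF, e]⟩ hpp.not_isSquare
    · exact Nat.pow_left_injective two_ne_zero (hF.symm.trans e)
  have hsym : (∀ g ∈ P, (g : Mat).trace = ((g⁻¹ : GL (Fin 3) F) : Mat).trace) → False := fun h =>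
    hnq (quadratic_of_trace hP.absIrred hP.perfect h2 h)
  rcases trace_cases (Core.of_residual hP) p h2 htv with h | ⟨h, b, hb, -, hall⟩ |
    ⟨h, hp3, w, r, hw, hr, ⟨s, hs, hs1, hs2⟩, ⟨t, ht, it, htr⟩, hall⟩ | ⟨h, rfl, hall⟩
  · exact (hsym h).elim
  · obtain rfl : q = p := hcard fun g hg => by
      rw [← hsq]
      rcases hall g hg with ⟨e1, -⟩ | ⟨e1, -⟩ | ⟨e1, -⟩
      · rw [e1, seven_frob_two hb]
      · have e := seven_frob_two (p := p) hb
        simp only [← frobenius_def] at e
        simp only [e1, ← frobenius_def, map_sub, map_neg, map_one, e]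
      · rw [small_frob e1, small_frob e1]
    have hbne : b ^ q ≠ b := fun e => hsym fun g hg => by
      rw [hinv g hg]
      rcases hall g hg with ⟨e1, -⟩ | ⟨e1, -⟩ | ⟨e1, -⟩
      · rw [e1, e]
      · rw [e1, ← frobenius_def, map_sub, map_neg, map_one, frobenius_def, e]
      · rw [small_frob e1]
    have h7 : q ≠ 7 := by
      rintro rfl
      have h7' : (7 : F) = 0 := by exact_mod_cast CharP.cast_eq_zero F 7
      have hb3 : b = 3 := sub_eq_zero.1 (pow_eq_zero_iff (n := 2) two_ne_zero |>.1 (by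
        linear_combination hb + (1 - b) * h7'))
      exact hbne (hb3 ▸ small_frob (by simp))
    refine ⟨hpp, Or.inl ⟨iso_168 h, ?_, (seven_congr hpp h7 hb).2 hbne⟩⟩
    rintro rfl
    exact psl27_not_maximal hF hH hP h
  · obtain rfl : q = p := hcard fun g hg => by
      obtain ⟨i, v, hv, e, -⟩ := hall g hg
      rw [e, ← hsq, mul_pow, mul_pow, six_frob_two hr hv, pow_right_comm w i p,
        pow_right_comm (w ^ p) i p, three_frob_two hw]
    have h3F : (3 : F) ≠ 0 := fun e => hp3 ((Nat.prime_dvd_prime_iff_eq hpp Nat.prime_three).1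
      ((CharP.cast_eq_zero_iff F q 3).1 (by exact_mod_cast e)))
    have hwq : w ^ q = w ^ 2 := by
      have e := hinv s hs
      rw [hs1, hs2, mul_pow, small_frob (x := (3 : F)) (by simp)] at e
      exact (mul_left_cancel₀ h3F e).symm
    have hwne : w ^ q ≠ w := by
      intro e
      have h0 : w * (w - 1) = 0 := by linear_combination e - hwq
      rcases mul_eq_zero.1 h0 with h0 | h0
      · simp [h0] at hw
      · rw [sub_eq_zero] at h0; subst h0; exact h3F (by linear_combination hw)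
    have hrq : r ^ q = r := by
      refine (five_frob (p := q) hr).elim id fun e => ?_
      obtain ⟨j, v, hv, e1, e2⟩ := hall t ht
      have h1 := hinv t ht
      rw [e2, e1, mul_pow, pow_right_comm w j q, hwq, ← pow_mul] at h1
      have hw0 : w ≠ 0 := fun e => by simp [e] at hw
      have hvq : v ^ q = v := (mul_left_cancel₀ (pow_ne_zero _ hw0) h1).symm
      have hw3 : w ^ 3 = 1 := by linear_combination (w - 1) * hw
      -- `r` is a cube root of unity times a value in the prime field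
      obtain ⟨z, hz, key⟩ : ∃ z : F, (z = 1 ∨ z ^ q = z ^ 2 ∧ z ^ 2 + z + 1 = 0) ∧ r = z * v := by
        refine ⟨w ^ (j + 2 * it), ?_, ?_⟩
        · rw [← Nat.div_add_mod (j + 2 * it) 3, pow_add, pow_mul, hw3, one_pow, one_mul]
          rcases (by omega : (j + 2 * it) % 3 = 0 ∨ (j + 2 * it) % 3 = 1 ∨ (j + 2 * it) % 3 = 2) with h | h | h <;>
            rw [h]
          · exact Or.inl (pow_zero w)
          · rw [pow_one]; exact Or.inr ⟨hwq, hw⟩
          · exact Or.inr ⟨by rw [← pow_mul, mul_comm, pow_mul, hwq], by linear_combination hw + w * hw3⟩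
        · have h0 : w ^ it * r = w ^ j * v := htr.symm.trans e1
          have hc : w ^ (2 * it) * w ^ it = 1 := by
            rw [← pow_add, show 2 * it + it = 3 * it by ring, pow_mul, hw3, one_pow]
          linear_combination w ^ (2 * it) * h0 - r * hc
      rcases hz with rfl | ⟨hz1, hz2⟩
      · rw [key, one_mul, hvq]
      exfalso
      have hrq' : r ^ q = z ^ 2 * v := by rw [key, mul_pow, hz1, hvq]
      have hv1 : v = -1 := by linear_combination hrq' + key - e + v * hz2
      subst hv1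
      exact h2 (by linear_combination hz2 - hr - (z - r + 1) * key)
    refine ⟨hpp, Or.inr (Or.inl ⟨Cfsg.Agent.S0497.result h, ?_⟩)⟩
    have h1 := (three_congr hpp hp3 hw).2 hwne
    have h5 := (five_congr hpp hp2 hr).1 hrq
    have h50 : q % 5 = 0 → q = 5 := fun e =>
      ((Nat.prime_dvd_prime_iff_eq (by norm_num) hpp).1 (Nat.dvd_of_mod_eq_zero e)).symm
    omega
  · obtain rfl : q = 5 := hcard fun g hg => by
      rw [← hsq, hall g hg]; simpa using hall g⁻¹ (inv_mem hg)
    exact ⟨hpp, Or.inr (Or.inr ⟨Cfsg.Agent.S0984.result h, rfl⟩)⟩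

end CfsgLib.Geo.D3
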